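import Cfsg.Agent.UGT.Paired.Twin

/-!
# Theorem P, (4): interface between the general part and the part `q = 5`

`Conf Λ L N P Q`: the configuration reached by the general part of (4) (`z ∈ I(N) ∩ N(L)`, `N`, `L` not `Sim`).
`Five Λ`: the facts on `A₅` used to kill it.
-/

set_option autoImplicit false

open Subgroup
open Cfsg.Agent.SignalizersComponents.IntrinsicBasic
open Cfsg.Agent.UGT.ThE.Base
open Cfsg.Agent.UGT.Paired.Basic

namespace Cfsg.Agent.UGT.Paired.NADefs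

variable {G : Type*} [Group G]

/-- `P ≤ L`, `Q ≤ N` are commuting four-groups, `Q` acts on `L` as `P` and `P` acts on `N` as `Q`. -/
structure Conf (Λ : Set (Subgroup G)) (L N P Q : Subgroup G) : Prop where
  mL : L ∈ Λ
  mN : N ∈ Λ
  ns : ¬ Sim N L
  PL : P ≤ L
  QN : Q ≤ N
  P4 : Nat.card P = 4
  Q4 : Nat.card Q = 4
  Pe : ∀ u ∈ P, u * u = 1
  Qe : ∀ z ∈ Q, z * z = 1
  comm : ∀ u ∈ P, ∀ z ∈ Q, u * z = z * u
  a : ∀ z ∈ Q, ∃ u ∈ P, z * u ∈ centralizer (L : Set G)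
  b : ∀ u ∈ P, ∃ z ∈ Q, u * z ∈ centralizer (N : Set G)

/-- Facts on `L ≅ A₅` and `Aut(L) = S₅`. -/
structure Five (Λ : Set (Subgroup G)) : Prop where
  /-- a four-group of `L` is normalized by an element of order three of `L`, which acts without fixed points -/
  three : ∀ L ∈ Λ, ∀ P : Subgroup G, P ≤ L → Nat.card P = 4 → ∃ h ∈ L, h ^ 3 = 1 ∧ h ∈ normalizer (P : Set G) ∧
    ∀ u ∈ P, h * u = u * h → u = 1
  /-- also inside every subgroup of `L` properly containing `P` -/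
  ovr : ∀ L ∈ Λ, ∀ P : Subgroup G, P ≤ L → Nat.card P = 4 → ∀ K : Subgroup G, P < K → K ≤ L →
    ∃ h ∈ K, h ^ 3 = 1 ∧ h ∈ normalizer (P : Set G) ∧ ∀ u ∈ P, h * u = u * h → u = 1
  /-- two four-groups of `L` meeting nontrivially are equal -/
  ti : ∀ L ∈ Λ, ∀ P Q : Subgroup G, P ≤ L → Q ≤ L → Nat.card P = 4 → Nat.card Q = 4 → ∀ u ∈ P, u ∈ Q →
    u ≠ 1 → P = Q
  /-- a four-group of `L` is self-centralizing in `Aut(L)` -/
  self : ∀ L ∈ Λ, ∀ P : Subgroup G, P ≤ L → Nat.card P = 4 → ∀ c ∈ normalizer (L : Set G),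
    (∀ u ∈ P, c * u = u * c) → ∃ u ∈ P, c * u ∈ centralizer (L : Set G)
  /-- the 2-part of `|Aut(L)|` is 8 -/
  eight : ∀ L ∈ Λ, ∀ R : Subgroup G, R ≤ normalizer (L : Set G) → IsPGroup 2 R →
    (∀ r ∈ R, r ∈ centralizer (L : Set G) → r = 1) → Nat.card R ≤ 8
  /-- the 2-part of `|L|` is 4 -/
  four : ∀ L ∈ Λ, ∀ R : Subgroup G, R ≤ L → IsPGroup 2 R → Nat.card R ≤ 4

end Cfsg.Agent.UGT.Paired.NADefs
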