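import Cfsg.Agent.UGT.Paired.Inst
import Cfsg.Agent.UGT.Paired.NADefs

/-!
# Facts on `PSL(2,5)` and its automorphism group: the structure `NADefs.Five`

* `Ty.*`: for a group `A` with `R : Rep F A`, `|F| = 5`.
* `five : BBS BB → BB x₀ L₀ → |F| = 5 → Five (Cl L₀)`.
-/

set_option autoImplicit false

open Cfsg.Agent.GH.L2Aut Cfsg.Agent.OddHalf
open Cfsg.Agent.UGT.Res
open Subgroup

namespace Cfsg.Agent.UGT.Paired.FiveKF

namespace Ty

variable {F : Type*} [Field F] [Finite F] {A : Type*} [Group A] (R : Cfsg.Agent.GH.L2Aut.Rep F A)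
  (hF : Nat.card F = 5)

include R hF

theorem card_eq : Nat.card A = 60 := by
  have h := R.card_mul_two
  rw [hF] at h
  omega

/-- 2-subgroups have order at most 4 -/
theorem four {P : Subgroup A} (hP : IsPGroup 2 P) : Nat.card P ≤ 4 := by
  have := R.finite
  obtain ⟨n, hn⟩ := IsPGroup.iff_card.1 hP
  have h1 : Nat.card P ∣ 60 := by rw [← card_eq R hF]; exact card_subgroup_dvd_card P
  rw [hn] at h1 ⊢
  by_contra hcon
  have h2 : 3 ≤ n := by
    by_contra h3
    have h4 : n ≤ 2 := by omega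
    have h5 : 2 ^ n ≤ 2 ^ 2 := Nat.pow_le_pow_right (by norm_num) h4
    omega
  have h3 : 2 ^ 3 ∣ 60 := (pow_dvd_pow 2 h2).trans h1
  omega

/-- subgroups of order four are Sylow subgroups and four-groups -/
theorem exists_ab {P : Subgroup A} (hP : Nat.card P = 4) : ∃ a b : A, a ∈ P ∧ b ∈ P ∧ Four a b := by
  have := R.finite
  have h1 : IsPGroup 2 P := IsPGroup.of_card (n := 2) (by rw [hP]; norm_num)
  obtain ⟨S, hS⟩ := h1.exists_le_sylow
  have h2 : P = S := eq_of_le_of_card_ge hS (by rw [hP]; exact four R hF S.2)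
  obtain ⟨a, b, ha, hb, hab⟩ := R.exists_four_mem S
  exact ⟨a, b, h2 ▸ ha, h2 ▸ hb, hab⟩

omit hF R [Finite F] in
/-- the elements of a group of order four containing `a`, `b` -/
theorem mem_four [Finite A] {P : Subgroup A} (hP : Nat.card P = 4) {a b : A} (ha : a ∈ P) (hb : b ∈ P)
    (hab : Four a b) {u : A} (hu : u ∈ P) : u = 1 ∨ u = a ∨ u = b ∨ u = a * b := by
  classical
  have : Fintype P := Fintype.ofFinite P
  by_contra hcon
  push Not at hcon
  obtain ⟨h1, h2, h3, h4⟩ := hcon
  have hab1 : a * b ≠ 1 := hab.right.b1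
  have haab : a * b ≠ a := fun h => hab.b1 (mul_eq_left.mp h)
  have hbab : a * b ≠ b := fun h => hab.a1 (mul_eq_right.mp h)
  let s : Finset P := {⟨1, one_mem P⟩, ⟨a, ha⟩, ⟨b, hb⟩, ⟨a * b, mul_mem ha hb⟩, ⟨u, hu⟩}
  have h5 : s.card = 5 := by
    have e1 := hab.a1.symm
    have e2 := hab.b1.symm
    have e3 := hab1.symm
    have e4 := h1.symm
    have e5 := h2.symm
    have e6 := h3.symm
    have e7 := h4.symm
    have e8 := hab.ne
    have e9 := haab.symm
    have e10 := hbab.symm
    simp only [s]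
    rw [Finset.card_insert_of_notMem, Finset.card_insert_of_notMem, Finset.card_insert_of_notMem,
      Finset.card_insert_of_notMem, Finset.card_singleton]
    · rw [Finset.mem_singleton, Subtype.ext_iff]
      exact e7
    · simp only [Finset.mem_insert, Finset.mem_singleton, Subtype.ext_iff, not_or]
      exact ⟨e10, e6⟩
    · simp only [Finset.mem_insert, Finset.mem_singleton, Subtype.ext_iff, not_or]
      exact ⟨e8, e9, e5⟩
    · simp only [Finset.mem_insert, Finset.mem_singleton, Subtype.ext_iff, not_or]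
      exact ⟨e1, e2, e3, e4⟩
  have h6 := Finset.card_le_univ s
  rw [← Nat.card_eq_fintype_card, hP, h5] at h6
  omega

omit hF R [Finite F] in
theorem mul_self_four [Finite A] {P : Subgroup A} (hP : Nat.card P = 4) {a b : A} (ha : a ∈ P) (hb : b ∈ P)
    (hab : Four a b) {u : A} (hu : u ∈ P) : u * u = 1 := by
  rcases mem_four hP ha hb hab hu with rfl | rfl | rfl | rfl
  · exact one_mul 1
  · exact hab.aa
  · exact hab.bb
  · exact hab.right.bb

/-- groups of order four are abelian -/
theorem comm_four {P : Subgroup A} (hP : Nat.card P = 4) {u v : A} (hu : u ∈ P) (hv : v ∈ P) :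
    u * v = v * u := by
  have := R.finite
  obtain ⟨a, b, ha, hb, hab⟩ := exists_ab R hF hP
  have h1 := mul_self_four hP ha hb hab hu
  have h2 := mul_self_four hP ha hb hab hv
  have h3 := mul_self_four hP ha hb hab (mul_mem hu hv)
  calc u * v = (u * v)⁻¹ := (inv_eq_of_mul_eq_one_left h3).symm
    _ = v⁻¹ * u⁻¹ := mul_inv_rev u v
    _ = v * u := by rw [inv_eq_of_mul_eq_one_left h1, inv_eq_of_mul_eq_one_left h2]

/-- field automorphisms are trivial -/
theorem fld_eq (σ : F ≃+* F) : σ = 1 := by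
  obtain ⟨K, -, hcard⟩ := exists_fixed_field σ
  rw [hF] at hcard
  have h1 : (Nat.card K ^ orderOf σ).Prime := by rw [← hcard]; norm_num
  have h2 : orderOf σ = 1 := by
    by_contra hne
    exact (Nat.Prime.not_prime_pow' hne) h1
  exact orderOf_eq_one_iff.mp h2

/-- the characteristic is five -/
theorem charP : CharP F 5 := by
  obtain ⟨p, hc, hp, -⟩ := FldFacts.exists_char (F := F) R.two
  have := Fintype.ofFinite F
  obtain ⟨n, -, hn⟩ := FiniteField.card F p
  rw [← Nat.card_eq_fintype_card, hF] at hn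
  have h1 : p ∣ 5 := by
    rw [hn]
    exact dvd_pow_self p n.pos.ne'
  have h2 : p = 5 := (Nat.prime_dvd_prime_iff_eq hp (by norm_num)).mp h1
  rwa [← h2]

section cen

variable {α : MulAut A} (hα : α * α = 1) (ho : R.o1 α = -1)

include hα ho

/-- an element of order three fixed by `α` -/
theorem exists_three : ∃ t : A, orderOf t = 3 ∧ α t = t := by
  have := R.finite
  have := charP R hF
  obtain ⟨y, hy, hyo, hy1⟩ := TorFacts.exists_ne R (by omega) hα ho
  have h1 : orderOf y ∣ 60 := by rw [← card_eq R hF]; exact orderOf_dvd_natCard y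
  have h5 : orderOf y ≠ 5 := by
    intro h
    apply hy1
    exact FldFacts.unip R (p := 5) (by norm_num) (by decide) hα ho (by rw [← h, pow_orderOf_eq_one]) hy
  have hne1 : orderOf y ≠ 1 := fun h => hy1 (orderOf_eq_one_iff.mp h)
  have h3 : 3 ∣ orderOf y := by
    obtain ⟨k, hk⟩ := hyo
    have h2 : orderOf y ≤ 60 := Nat.le_of_dvd (by norm_num) h1
    obtain ⟨m, hm⟩ := h1
    generalize orderOf y = n at *
    interval_cases n <;> omega
  refine ⟨y ^ (orderOf y / 3), ?_, by rw [map_pow, hy]⟩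
  rw [orderOf_pow_of_dvd (Nat.div_pos (Nat.le_of_dvd (orderOf_pos y) h3) (by norm_num)).ne'
    (Nat.div_dvd_of_dvd h3), Nat.div_div_self h3 (orderOf_pos y).ne']

/-- centralizers of involutions have order four -/
theorem card_cen {u : A} (huu : u * u = 1) (hu1 : u ≠ 1) : Nat.card (centralizer ({u} : Set A)) = 4 := by
  have := R.finite
  have := charP R hF
  obtain ⟨C, hC⟩ : ∃ C, C = centralizer ({u} : Set A) := ⟨_, rfl⟩
  have hmem : ∀ c, c ∈ C ↔ c * u = u * c := by
    intro c
    rw [hC, mem_centralizer_singleton_iff]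
  rw [← hC]
  have h60 := C.index_mul_card
  rw [card_eq R hF] at h60
  -- `4 ∣ |C|`
  have h4 : 4 ∣ Nat.card C := by
    have h1 : IsPGroup 2 (zpowers u) := by
      apply IsPGroup.of_card (n := 1)
      rw [Nat.card_zpowers, pow_one]
      exact orderOf_eq_prime (by rw [pow_two]; exact huu) hu1
    obtain ⟨S, hS⟩ := h1.exists_le_sylow
    have hc4 : Nat.card S = 4 := by
      apply le_antisymm (four R hF S.2)
      obtain ⟨n, hn⟩ := IsPGroup.iff_card.1 S.2
      have h2 : 2 ^ 2 ∣ Nat.card S := S.pow_dvd_card_of_pow_dvd_card (by rw [card_eq R hF]; norm_num)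
      exact Nat.le_of_dvd Nat.card_pos h2
    rw [← hc4]
    apply card_dvd_of_le
    intro c hc
    rw [hmem]
    exact comm_four R hF hc4 hc (hS (mem_zpowers u))
  have h3 : ¬ 3 ∣ Nat.card C := by
    intro h
    have : Fact (Nat.Prime 3) := ⟨by norm_num⟩
    obtain ⟨c, hc⟩ := exists_prime_orderOf_dvd_card' (G := C) 3 h
    obtain ⟨t, ht, hαt⟩ := exists_three R hF hα ho
    apply hu1
    exact KF.no_inv R hα ho (l := 3) (by norm_num) (by decide) ht hαt (c := c)
      (by rw [Subgroup.orderOf_coe, hc]) huu ((hmem _).mp c.2)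
  have h5 : C.index ≠ 3 := by
    intro h
    have h6 : C = ⊤ := KF.eq_top R (p := 5) (by norm_num) (by rw [h]; decide) (by rw [h]; decide)
    rw [h6, Subgroup.index_top] at h
    omega
  obtain ⟨m, hm⟩ := h4
  rw [hm] at h60 h3 ⊢
  have h7 : C.index * m = 15 := by
    have : C.index * (4 * m) = 4 * (C.index * m) := by ring
    omega
  have h8 : m ∣ 15 := ⟨C.index, by rw [mul_comm]; exact h7.symm⟩
  have h9 : m ≤ 15 := Nat.le_of_dvd (by norm_num) h8
  interval_cases m <;> omega

/-- four-groups meeting nontrivially are equal -/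
theorem ti {P Q : Subgroup A} (hP : Nat.card P = 4) (hQ : Nat.card Q = 4) {u : A} (hu : u ∈ P)
    (hu' : u ∈ Q) (hu1 : u ≠ 1) : P = Q := by
  have := R.finite
  obtain ⟨a, b, ha, hb, hab⟩ := exists_ab R hF hP
  have h1 := card_cen R hF hα ho (mul_self_four hP ha hb hab hu) hu1
  have key : ∀ {P : Subgroup A}, Nat.card P = 4 → u ∈ P → P = centralizer ({u} : Set A) := by
    intro P hP hu
    refine eq_of_le_of_card_ge (fun c hc => ?_) (by rw [hP, h1])
    rw [mem_centralizer_singleton_iff]
    exact comm_four R hF hP hc hu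
  rw [key hP hu, key hQ hu']

/-- no element of order three centralizes an involution -/
theorem no_three {u h : A} (huu : u * u = 1) (h3 : h ^ 3 = 1) (h1 : h ≠ 1) (hc : h * u = u * h) :
    u = 1 := by
  obtain ⟨t, ht, hαt⟩ := exists_three R hF hα ho
  exact KF.no_inv R hα ho (l := 3) (by norm_num) (by decide) ht hαt (c := h)
    (orderOf_eq_prime h3 h1) huu hc

/-- `three` -/
theorem three {P : Subgroup A} (hP : Nat.card P = 4) : ∃ h : A, h ^ 3 = 1 ∧
    h ∈ normalizer (P : Set A) ∧ ∀ u ∈ P, h * u = u * h → u = 1 := by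
  have := R.finite
  obtain ⟨a, b, ha, hb, hab⟩ := exists_ab R hF hP
  obtain ⟨-, y, -, -, -, -, -, hy3, hy1, hya, hyb, -⟩ := R.exists_frame hab
  have hy3' : y ^ 3 = 1 := by rw [pow_succ, pow_two]; exact hy3
  refine ⟨y, hy3', ?_, ?_⟩
  · have h1 : ∀ u ∈ P, y * u * y⁻¹ ∈ P := by
      intro u hu
      rcases mem_four hP ha hb hab hu with rfl | rfl | rfl | rfl
      · rw [mul_one, mul_inv_cancel]; exact one_mem _
      · rw [hya]; exact hb
      · rw [hyb]; exact mul_mem ha hb
      · have : y * (a * b) * y⁻¹ = (y * a * y⁻¹) * (y * b * y⁻¹) := by group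
        rw [this, hya, hyb]
        exact mul_mem hb (mul_mem ha hb)
    rw [mem_normalizer_iff]
    intro u
    refine ⟨h1 u, fun h => ?_⟩
    have h2 := h1 _ (h1 _ h)
    have h3 : y * (y * (y * u * y⁻¹) * y⁻¹) * y⁻¹ = (y * y * y) * u * (y * y * y)⁻¹ := by group
    rw [h3, hy3, one_mul, inv_one, mul_one] at h2
    exact h2
  · intro u hu hc
    exact no_three R hF hα ho (mul_self_four hP ha hb hab hu) hy3' hy1 hc

/-- `ovr` -/
theorem ovr {P K : Subgroup A} (hP : Nat.card P = 4) (hPK : P < K) : ∃ h ∈ K, h ^ 3 = 1 ∧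
    h ∈ normalizer (P : Set A) ∧ ∀ u ∈ P, h * u = u * h → u = 1 := by
  have := R.finite
  have := charP R hF
  obtain ⟨a, b, ha, hb, hab⟩ := exists_ab R hF hP
  have h4 : 4 ∣ Nat.card K := by rw [← hP]; exact card_dvd_of_le hPK.le
  have h60 := K.index_mul_card
  rw [card_eq R hF] at h60
  have hne : Nat.card K ≠ 4 := by
    intro h
    exact hPK.ne (eq_of_le_of_card_ge hPK.le (by rw [h, hP]))
  have h5 : K.index ≠ 3 := by
    intro h
    have h6 : K = ⊤ := KF.eq_top R (p := 5) (by norm_num) (by rw [h]; decide) (by rw [h]; decide)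
    rw [h6, Subgroup.index_top] at h
    omega
  by_cases hK : Nat.card K = 60
  · have h1 : K = ⊤ := eq_top_of_card_eq _ (by rw [hK, card_eq R hF])
    obtain ⟨h, h2, h3⟩ := three R hF hα ho hP
    exact ⟨h, by rw [h1]; trivial, h2, h3⟩
  have hK12 : Nat.card K = 12 := by
    obtain ⟨m, hm⟩ := h4
    rw [hm] at h60 hne hK ⊢
    have h7 : K.index * m = 15 := by
      have : K.index * (4 * m) = 4 * (K.index * m) := by ring
      omega
    have h8 : m ∣ 15 := ⟨K.index, by rw [mul_comm]; exact h7.symm⟩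
    have h9 : m ≤ 15 := Nat.le_of_dvd (by norm_num) h8
    interval_cases m <;> omega
  -- `P` is normal in `K`
  have hnorm : ∀ k ∈ K, k ∈ normalizer (P : Set A) := by
    intro k hk
    obtain ⟨Q, hQ⟩ : ∃ Q, Q = P.map (MulAut.conj k).toMonoidHom := ⟨_, rfl⟩
    have hQ4 : Nat.card Q = 4 := by
      rw [hQ, card_map_of_injective (MulAut.conj k).injective, hP]
    have hQK : Q ≤ K := by
      rw [hQ]
      rintro _ ⟨u, hu, rfl⟩
      exact mul_mem (mul_mem hk (hPK.le hu)) (inv_mem hk)
    by_cases hPQ : P = Q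
    · rw [mem_normalizer_iff_map_conj_eq]
      exact (hQ.symm.trans hPQ.symm)
    exfalso
    have hd : Disjoint P Q := by
      rw [disjoint_def]
      intro u hu hu'
      by_contra hu1
      exact hPQ (ti R hF hα ho hP hQ4 hu hu' hu1)
    have h1 := mul_injective_of_disjoint hd
    have h2 : Nat.card (P × Q) ≤ Nat.card K := by
      refine Nat.card_le_card_of_injective
        (fun g : P × Q => (⟨g.1 * g.2, mul_mem (hPK.le g.1.2) (hQK g.2.2)⟩ : K)) ?_
      intro g g' h
      exact h1 (congrArg Subtype.val h)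
    rw [Nat.card_prod, hP, hQ4, hK12] at h2
    omega
  have : Fact (Nat.Prime 3) := ⟨by norm_num⟩
  obtain ⟨c, hc⟩ := exists_prime_orderOf_dvd_card' (G := K) 3 (by rw [hK12]; norm_num)
  rw [← Subgroup.orderOf_coe] at hc
  have hc3 : (c : A) ^ 3 = 1 := by rw [← hc, pow_orderOf_eq_one]
  have hc1 : (c : A) ≠ 1 := by
    intro h
    rw [h, orderOf_one] at hc
    omega
  exact ⟨c, c.2, hc3, hnorm c c.2, fun u hu h =>
    no_three R hF hα ho (mul_self_four hP ha hb hab hu) hc3 hc1 h⟩

end cen

/-- `self` -/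
theorem self {P : Subgroup A} (hP : Nat.card P = 4) {γ : MulAut A} (hγ : ∀ u ∈ P, γ u = u) :
    ∃ u ∈ P, γ = MulAut.conj u := by
  obtain ⟨a, b, ha, hb, hab⟩ := exists_ab R hF hP
  obtain ⟨Φ, -, -, -, -, -, -, -, -, -, -, -, -, -, -, -, h, -⟩ := R.exists_frame hab
  obtain ⟨u, hu, h1⟩ := h γ (hγ a ha) (hγ b hb)
  rw [fld_eq R hF (R.fld γ), map_one, mul_one] at h1
  refine ⟨u, ?_, h1⟩
  rcases hu with rfl | rfl | rfl | rfl
  · exact one_mem _
  · exact ha
  · exact hb
  · exact mul_mem ha hb

/-- `eight` -/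
theorem eight {W : Subgroup (MulAut A)} (hW : IsPGroup 2 W) : Nat.card W ≤ 8 := by
  have := R.finite
  have := R.finite_aut
  obtain ⟨W', hW'⟩ : ∃ W' : Subgroup W, W' = (R.o1.comp W.subtype).ker := ⟨_, rfl⟩
  have h1 : W'.index ≤ 2 := by
    rw [hW', Subgroup.index_ker]
    refine (Nat.card_le_card_of_injective Subtype.val Subtype.val_injective).trans ?_
    rw [Nat.card_eq_fintype_card, Fintype.card_units_int]
  have h2 : Nat.card W' ≤ 4 := by
    -- `W'` is the image of a 2-subgroup of `A`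
    have hinn : ∀ w : W', ∃ l : A, ((w : W) : MulAut A) = MulAut.conj l := by
      intro w
      have h3 : (w : W) ∈ (R.o1.comp W.subtype).ker := hW' ▸ w.2
      rw [MonoidHom.mem_ker] at h3
      obtain ⟨l, hl⟩ := R.mem_inn_iff.2 ⟨fld_eq R hF (R.fld ((w : W) : MulAut A)), h3⟩
      exact ⟨l, hl.symm⟩
    choose f hf using hinn
    let φ : W' →* A :=
      { toFun := f
        map_one' := R.conj_injective (by rw [← hf, map_one]; rfl)
        map_mul' := fun x y => R.conj_injective (by rw [← hf, map_mul, ← hf, ← hf]; rfl) }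
    have hinj : Function.Injective φ := by
      intro x y h
      apply Subtype.ext
      apply Subtype.ext
      rw [hf, hf]
      exact congrArg _ h
    have h4 : IsPGroup 2 W' := hW.to_subgroup W'
    have h5 : IsPGroup 2 φ.range := h4.of_surjective φ.rangeRestrict φ.rangeRestrict_surjective
    have h6 := four R hF h5
    rwa [Nat.card_congr (MonoidHom.ofInjective hinj).toEquiv]
  rw [← W'.index_mul_card]
  calc W'.index * Nat.card W' ≤ 2 * 4 := Nat.mul_le_mul h1 h2
    _ = 8 := by norm_num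

end Ty

open Cfsg.Agent.SignalizersComponents.IntrinsicBasic
open Cfsg.Agent.OddHalf.D6
open Cfsg.Agent.UGT.Res.EFacts Cfsg.Agent.UGT.Res.BBS
open Cfsg.Agent.UGT.Paired.Basic Cfsg.Agent.UGT.Paired.Inst

universe u

variable {G : Type u} [Group G] [Finite G] {BB : G → Subgroup G → Prop} (S : BBS BB) {x₀ : G}
  {L₀ : Subgroup G}

section

variable {L P : Subgroup G}

omit [Finite G] in
theorem card_sub (hP : P ≤ L) : Nat.card (P.subgroupOf L) = Nat.card P :=
  Nat.card_congr (subgroupOfEquivOfLe hP).toEquiv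

omit [Finite G] in
theorem mem_norm {h : L} (hn : h ∈ normalizer (P.subgroupOf L : Set L)) (hP : P ≤ L) :
    (h : G) ∈ normalizer (P : Set G) := by
  rw [mem_normalizer_iff]
  intro u
  rw [mem_normalizer_iff] at hn
  constructor
  · intro hu
    exact (hn ⟨u, hP hu⟩).mp hu
  · intro hu
    have h1 : (h : G) * u * (h : G)⁻¹ ∈ L := hP hu
    have h2 : u ∈ L := by
      have h3 : (h : G)⁻¹ * (h * u * (h : G)⁻¹) * h = u := by group
      rw [← h3]
      exact mul_mem (mul_mem (inv_mem h.2) h1) h.2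
    exact (hn ⟨u, h2⟩).mpr hu

end

include S in
/-- **the structure `Five`** -/
theorem five (h₀ : BB x₀ L₀) (h60 : Nat.card L₀ = 60) : NADefs.Five (Cl L₀) := by
  have hdata : ∀ {L : Subgroup G}, L ∈ Cl L₀ → ∃ (F : Type) (_ : Field F) (_ : Finite F)
      (R : Cfsg.Agent.GH.L2Aut.Rep F L), Nat.card F = 5 ∧ ∃ α : MulAut L, α * α = 1 ∧ R.o1 α = -1 := by
    intro L hL
    obtain ⟨x, hx⟩ := exists_bd S h₀ hL
    obtain ⟨F, i1, i2, h5, ⟨R⟩⟩ := S.rep hx.1
    have hC := S.cf hx.1 R
    have hcard : Nat.card L = 60 := by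
      obtain ⟨g, rfl⟩ := hL
      rw [← h60]
      exact (card_map_of_injective (MulAut.conj g).injective)
    have h1 := R.card_mul_two
    rw [hcard] at h1
    refine ⟨F, i1, i2, R, ?_, act L x hC.xN, hC.sq, hC.o1 hC.xN⟩
    by_contra hne
    have h6 : 6 ≤ Nat.card F := by omega
    have h7 : 6 ^ 2 ≤ Nat.card F ^ 2 := Nat.pow_le_pow_left h6 2
    have h8 : 6 * (6 ^ 2 - 1) ≤ Nat.card F * (Nat.card F ^ 2 - 1) :=
      Nat.mul_le_mul h6 (Nat.sub_le_sub_right h7 1)
    omega
  exact
    { three := by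
        intro L hL P hP h4
        obtain ⟨F, _, _, R, hF, α, hα, ho⟩ := hdata hL
        obtain ⟨h, h1, h2, h3⟩ := Ty.three R hF hα ho (P := P.subgroupOf L) (by rw [card_sub hP, h4])
        refine ⟨h, h.2, congrArg Subtype.val h1, mem_norm h2 hP, fun u hu hc => ?_⟩
        exact congrArg Subtype.val (h3 ⟨u, hP hu⟩ hu (Subtype.ext hc))
      ovr := by
        intro L hL P hP h4 K hPK hK
        obtain ⟨F, _, _, R, hF, α, hα, ho⟩ := hdata hL
        obtain ⟨h, hhK, h1, h2, h3⟩ := Ty.ovr R hF hα ho (P := P.subgroupOf L) (K := K.subgroupOf L)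
          (by rw [card_sub hP, h4]) (by
            rw [lt_iff_le_and_ne]
            refine ⟨fun u hu => hPK.le hu, fun h => hPK.ne ?_⟩
            have h5 := congrArg (Subgroup.map L.subtype) h
            rwa [subgroupOf_map_subtype, subgroupOf_map_subtype, inf_of_le_left hP,
              inf_of_le_left hK] at h5)
        refine ⟨h, hhK, congrArg Subtype.val h1, mem_norm h2 hP, fun u hu hc => ?_⟩
        exact congrArg Subtype.val (h3 ⟨u, hP hu⟩ hu (Subtype.ext hc))
      ti := by
        intro L hL P Q hP hQ h4 h4' u hu hu' hu1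
        obtain ⟨F, _, _, R, hF, α, hα, ho⟩ := hdata hL
        have h := Ty.ti R hF hα ho (P := P.subgroupOf L) (Q := Q.subgroupOf L)
          (by rw [card_sub hP, h4]) (by rw [card_sub hQ, h4']) (u := ⟨u, hP hu⟩) hu hu'
          (fun h => hu1 (congrArg Subtype.val h))
        have h5 := congrArg (Subgroup.map L.subtype) h
        rwa [subgroupOf_map_subtype, subgroupOf_map_subtype, inf_of_le_left hP,
          inf_of_le_left hQ] at h5
      self := by
        intro L hL P hP h4 c hc hcu
        obtain ⟨F, _, _, R, hF, α, hα, ho⟩ := hdata hL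
        obtain ⟨⟨u, huL⟩, hu, h⟩ := Ty.self R hF (P := P.subgroupOf L) (by rw [card_sub hP, h4])
          (γ := act L c hc) (by
            rintro ⟨v, hv⟩ hv'
            exact (act_fix hc hv).mpr (hcu v hv').symm)
        refine ⟨u⁻¹, inv_mem hu, ?_⟩
        rw [← act_one_iff' (mul_mem hc (inv_mem (le_normalizer huL))),
          ← act_mul hc (inv_mem (le_normalizer huL)), act_inv (le_normalizer huL), act_of_mem huL, h,
          mul_inv_cancel]
      eight := by
        intro L hL W hW hW2 hWf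
        obtain ⟨F, _, _, R, hF, α, hα, ho⟩ := hdata hL
        obtain ⟨V, hV⟩ : ∃ V, V = (W.subgroupOf (normalizer (L : Set G))).map L.normalizerMonoidHom :=
          ⟨_, rfl⟩
        have h1 : IsPGroup 2 V := by
          rw [hV]
          exact (hW2.comap_of_injective (normalizer (L : Set G)).subtype
            (normalizer (L : Set G)).subtype_injective).map _
        have h2 := Ty.eight R hF h1
        refine le_trans ?_ h2
        refine Nat.card_le_card_of_injective
          (fun w : W => (⟨act L w (hW w.2), by rw [hV]; exact ⟨⟨w, hW w.2⟩, w.2, rfl⟩⟩ : V)) ?_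
        intro w w' h
        have h3 : act L w (hW w.2) = act L w' (hW w'.2) := congrArg Subtype.val h
        have h4 : (w : G) * (w' : G)⁻¹ = 1 := by
          apply hWf _ (mul_mem w.2 (inv_mem w'.2))
          rw [← act_one_iff' (mul_mem (hW w.2) (inv_mem (hW w'.2))),
            ← act_mul (hW w.2) (inv_mem (hW w'.2)), act_inv (hW w'.2), h3, mul_inv_cancel]
        exact Subtype.ext (mul_inv_eq_one.mp h4)
      four := by
        intro L hL P hP hP2
        obtain ⟨F, _, _, R, hF, α, hα, ho⟩ := hdata hL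
        rw [← card_sub hP]
        exact Ty.four R hF (hP2.comap_of_injective L.subtype L.subtype_injective) }

end Cfsg.Agent.UGT.Paired.FiveKF
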