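import Cfsg.Agent.UGT.Paired.NADefs

/-!
# Theorem P, (4), general part

`Hyp.exists_conf`: if `z` is an involution of `N` normalizing `L` and `N`, `L` are not `Sim`, then there are commuting
Sylow 2-subgroups `P` of `L` and `Q` of `N`, four-groups, as in `NADefs.Conf`, `z ∈ Q`, and `|L| = 60`.
-/

set_option autoImplicit false

open Subgroup
open Cfsg.Agent.SignalizersComponents.IntrinsicBasic
open Cfsg.Agent.UGT.ThE.Base
open Cfsg.Agent.UGT.Paired.Basic
open Cfsg.Agent.UGT.Paired.Twin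
open Cfsg.Agent.UGT.Paired.NADefs

namespace Cfsg.Agent.UGT.Paired.NA

variable {G : Type*} [Group G]

/-- `S` is a Sylow 2-subgroup of `L` -/
structure Max2 (L S : Subgroup G) : Prop where
  le : S ≤ L
  two : IsPGroup 2 S
  max : ∀ T : Subgroup G, T ≤ L → IsPGroup 2 T → Nat.card T ≤ Nat.card S

/-- The facts on `L₂(q)` used in the general part of (4). -/
structure NAF (Λ : Set (Subgroup G)) (Y : Subgroup G → G → Prop) : Prop where
  /-- an involution of `N(L)` is trivial, inner, of PGL type or of field type on `L` -/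
  tri : ∀ L ∈ Λ, ∀ z ∈ normalizer (L : Set G), Inv z → z ∈ centralizer (L : Set G) ∨
    (∃ a ∈ L, Inv a ∧ z * a ∈ centralizer (L : Set G)) ∨
    (∃ y, Y L y ∧ y * z = z * y ∧ ∃ s ∈ L, s * z = z * s ∧ s * y * s⁻¹ = y⁻¹) ∨
    ∀ N ∈ Λ, z ∈ N → (∀ c ∈ L, c * z = z * c → c ∈ normalizer (N : Set G)) →
      ∃ u ∈ L, Inv u ∧ u ∈ centralizer (N : Set G)
  /-- the centralizer of an involution contains a Sylow 2-subgroup -/
  cenSyl : ∀ L ∈ Λ, ∀ a ∈ L, Inv a → ∃ S, Max2 L S ∧ a ∈ S ∧ ∀ s ∈ S, s * a = a * s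
  /-- Sylow 2-subgroups are generated by involutions -/
  gen2 : ∀ L ∈ Λ, ∀ S, Max2 L S → ∀ K : Subgroup G, (∀ u ∈ S, Inv u → u ∈ K) → S ≤ K
  self : ∀ L ∈ Λ, ∀ S, Max2 L S → ∀ l ∈ L, (∀ s ∈ S, l * s = s * l) → l ∈ S
  abel : ∀ L ∈ Λ, ∀ S, Max2 L S → (∀ s ∈ S, ∀ t ∈ S, s * t = t * s) → Nat.card S = 4 ∧ ∀ s ∈ S, s * s = 1
  genC : ∀ L ∈ Λ, ∀ S, Max2 L S → Nat.card S = 4 → Nat.card L = 60 ∨
    ∀ K : Subgroup G, (∀ u ∈ S, Inv u → ∀ l ∈ L, l * u = u * l → l ∈ K) → L ≤ K

/-- a nontrivial 2-group contains an involution -/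
theorem exists_inv [Finite G] {S : Subgroup G} (hS : IsPGroup 2 S) (hne : S ≠ ⊥) : ∃ u ∈ S, Inv u := by
  obtain ⟨w, hw, hww, hw1, -⟩ := exists_central hS (le_refl S)
    (fun s hs n hn => mul_mem (mul_mem hs hn) (inv_mem hs)) hne
  exact ⟨w, hw, hww, hw1⟩

end Cfsg.Agent.UGT.Paired.NA

namespace Cfsg.Agent.UGT.Paired.Basic.Hyp

open Cfsg.Agent.UGT.Paired.NA

variable {G : Type*} [Group G] [Finite G] {Λ : Set (Subgroup G)} {B : G → Subgroup G → Prop}
  {Y : Subgroup G → G → Prop}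

variable (H : Hyp Λ B Y) (hP : Pair Λ B)
include H hP

theorem na_nontriv {L N : Subgroup G} (hL : L ∈ Λ) (hN : N ∈ Λ) (hns : ¬ Sim N L) {z : G} (hz : z ∈ N)
    (hzi : Inv z) : z ∉ centralizer (L : Set G) := by
  intro h
  apply hns
  exact (H.star hN hL fun l hl => H.ctrl hP hN hz hzi (mem_cen.mp h l hl)).symm

/-- `z` is inner on `L` -/
theorem na_inner (F : NAF Λ Y) {L N : Subgroup G} (hL : L ∈ Λ) (hN : N ∈ Λ) (hns : ¬ Sim N L) {z : G}
    (hz : z ∈ N) (hzi : Inv z) (hzL : z ∈ normalizer (L : Set G)) :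
    ∃ a ∈ L, Inv a ∧ z * a ∈ centralizer (L : Set G) := by
  rcases F.tri L hL z hzL hzi with h | h | ⟨y, hy, hyz, s, hs, hsz, hsy⟩ | h
  · exact absurd h (H.na_nontriv hP hL hN hns hz hzi)
  · exact h
  · exfalso
    have h1 : y ∈ centralizer (N : Set G) := H.tor N hN z hz hzi L y hy (H.ctrl hP hN hz hzi hyz) s
      (H.ctrl hP hN hz hzi hsz) hyz hsz hsy
    exact hns (H.star hL hN fun n hn => H.H hy n (mem_cen.mp h1 n hn))
  · exfalso
    obtain ⟨u, hu, hui, huN⟩ := h N hN hz fun c _ hcz => H.ctrl hP hN hz hzi hcz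
    exact H.na_nontriv hP hN hL (fun h => hns h.symm) hu hui huN

/-- the Sylow 2-subgroup of `N(L) ∩ N(N)` contains one of `L` -/
theorem na_max (F : NAF Λ Y) {L N T : Subgroup G} (hL : L ∈ Λ) (hN : N ∈ Λ) (hns : ¬ Sim N L)
    (hT : IsPGroup 2 T)
    (hconj : ∀ S : Subgroup G, S ≤ normalizer (L : Set G) ⊓ normalizer (N : Set G) → IsPGroup 2 S →
      ∃ m ∈ normalizer (L : Set G) ⊓ normalizer (N : Set G), ∀ t ∈ S, m * t * m⁻¹ ∈ T) {z : G}
    (hz : z ∈ N) (hzi : Inv z) (hzL : z ∈ normalizer (L : Set G)) : Max2 L (T ⊓ L) := by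
  obtain ⟨a, haL, hai, hza⟩ := H.na_inner hP F hL hN hns hz hzi hzL
  obtain ⟨S, hS, -, hSa⟩ := F.cenSyl L hL a haL hai
  have hSM : S ≤ normalizer (L : Set G) ⊓ normalizer (N : Set G) := by
    intro s hs
    refine mem_inf.mpr ⟨le_normalizer (hS.le hs), H.ctrl hP hN hz hzi ?_⟩
    have h1 := comm_of_mem (hS.le hs) hza
    have h2 := hSa s hs
    apply mul_right_cancel (b := a)
    calc s * z * a = s * (z * a) := by group
      _ = z * a * s := h1
      _ = z * (s * a) := by rw [h2]; group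
      _ = z * s * a := by group
  obtain ⟨m, hm, hmS⟩ := hconj S hSM hS.two
  have h1 : cj m S ≤ T ⊓ L := by
    intro x hx
    rw [mem_cj] at hx
    have h2 : m * (m⁻¹ * x * m) * m⁻¹ = x := by group
    refine mem_inf.mpr ⟨?_, ?_⟩
    · have := hmS _ hx
      rwa [h2] at this
    · have := L_conj (mem_inf.mp hm).1 (hS.le hx)
      rwa [h2] at this
  have h2 : Nat.card S ≤ Nat.card (T ⊓ L : Subgroup G) := by
    rw [← card_cj m S]
    exact card_le_of_le h1
  exact ⟨inf_le_right, hT.to_le inf_le_left, fun R hR hR2 => (hS.max R hR hR2).trans h2⟩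

/-- `Q = T ∩ N` acts on `L` as a subgroup of `Z(P)`, `P = T ∩ L`, so `P` is a four-group -/
theorem na_half (F : NAF Λ Y) {L N T : Subgroup G} (hL : L ∈ Λ) (hN : N ∈ Λ) (hns : ¬ Sim N L)
    (hTM : T ≤ normalizer (L : Set G) ⊓ normalizer (N : Set G)) (hPmax : Max2 L (T ⊓ L))
    (hQmax : Max2 N (T ⊓ N)) :
    (∀ u ∈ T ⊓ L, ∀ z ∈ T ⊓ N, u * z = z * u) ∧ Nat.card (T ⊓ L : Subgroup G) = 4 ∧
      (∀ u ∈ T ⊓ L, u * u = 1) ∧ (∀ z ∈ T ⊓ N, ∃ u ∈ T ⊓ L, z * u ∈ centralizer (L : Set G)) ∧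
      Nat.card L = 60 := by
  obtain ⟨P, hPd⟩ : ∃ P, P = T ⊓ L := ⟨_, rfl⟩
  obtain ⟨Q, hQd⟩ : ∃ Q, Q = T ⊓ N := ⟨_, rfl⟩
  rw [← hPd] at hPmax ⊢
  rw [← hQd] at hQmax ⊢
  have hTL : ∀ t ∈ T, t ∈ normalizer (L : Set G) := fun t ht => (mem_inf.mp (hTM ht)).1
  have hTN : ∀ t ∈ T, t ∈ normalizer (N : Set G) := fun t ht => (mem_inf.mp (hTM ht)).2
  have mP : ∀ u, u ∈ P ↔ u ∈ T ∧ u ∈ L := fun u => hPd ▸ mem_inf
  have mQ : ∀ u, u ∈ Q ↔ u ∈ T ∧ u ∈ N := fun u => hQd ▸ mem_inf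
  have hPQ : P ⊓ Q = ⊥ := by
    by_contra h
    obtain ⟨u, hu, hui⟩ := exists_inv (hPmax.two.to_le (inf_le_left : P ⊓ Q ≤ P)) h
    exact hns (Or.inl (H.ti hP hN hL ((mQ u).mp hu.2).2 ((mP u).mp hu.1).2 hui))
  have hcomm : ∀ u ∈ P, ∀ z ∈ Q, u * z = z * u := by
    intro u hu z hz
    have hu' := (mP u).mp hu
    have hz' := (mQ z).mp hz
    have h1 : u * z * u⁻¹ * z⁻¹ ∈ P ⊓ Q := by
      refine mem_inf.mpr ⟨?_, ?_⟩
      · have : u * z * u⁻¹ * z⁻¹ = u * (z * u⁻¹ * z⁻¹) := by group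
        rw [this]
        exact mul_mem hu ((mP _).mpr ⟨mul_mem (mul_mem hz'.1 (inv_mem hu'.1)) (inv_mem hz'.1),
          L_conj (hTL z hz'.1) (inv_mem hu'.2)⟩)
      · exact mul_mem ((mQ _).mpr ⟨mul_mem (mul_mem hu'.1 hz'.1) (inv_mem hu'.1),
          L_conj (hTN u hu'.1) hz'.2⟩) (inv_mem hz)
    rw [hPQ, mem_bot] at h1
    calc u * z = u * z * u⁻¹ * z⁻¹ * (z * u) := by group
      _ = z * u := by rw [h1, one_mul]
  -- every element of `Q` acts on `L` as a central element of `P`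
  let K : Subgroup G :=
    { carrier := {q | ∃ u ∈ P, (∀ v ∈ P, v * u = u * v) ∧ q * u ∈ centralizer (L : Set G)}
      one_mem' := ⟨1, one_mem P, fun v _ => by rw [mul_one, one_mul], by rw [one_mul]; exact one_mem _⟩
      mul_mem' := by
        rintro a b ⟨l, hl, hlP, hal⟩ ⟨m, hm, hmP, hbm⟩
        refine ⟨m * l, mul_mem hm hl, ?_, ?_⟩
        · intro v hv
          calc v * (m * l) = (v * m) * l := by group
            _ = m * (v * l) := by rw [hmP v hv]; group
            _ = m * l * v := by rw [hlP v hv]; group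
        have h1 : l * (b * m) = b * m * l := comm_of_mem ((mP l).mp hl).2 hbm
        have h2 : a * b * (m * l) = a * l * (b * m) := by
          calc a * b * (m * l) = a * (b * m * l) := by group
            _ = a * (l * (b * m)) := by rw [h1]
            _ = a * l * (b * m) := by group
        rw [h2]
        exact mul_mem hal hbm
      inv_mem' := by
        rintro a ⟨l, hl, hlP, hal⟩
        refine ⟨l⁻¹, inv_mem hl, ?_, ?_⟩
        · intro v hv
          have := hlP v hv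
          calc v * l⁻¹ = l⁻¹ * (l * v) * l⁻¹ := by group
            _ = l⁻¹ * (v * l) * l⁻¹ := by rw [this]
            _ = l⁻¹ * v := by group
        have h1 : l * (a * l) = a * l * l := comm_of_mem ((mP l).mp hl).2 hal
        have h2 : l * a = a * l := mul_right_cancel (by rw [← h1]; group : l * a * l = a * l * l)
        have h3 : a⁻¹ * l⁻¹ = (a * l)⁻¹ := by rw [← h2, mul_inv_rev]
        rw [h3]
        exact inv_mem hal }
  have hQK : Q ≤ K := by
    apply F.gen2 N hN Q hQmax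
    intro z hz hzi
    have hz' := (mQ z).mp hz
    obtain ⟨a, haL, -, hza⟩ := H.na_inner hP F hL hN hns hz'.2 hzi (hTL z hz'.1)
    have hcom : ∀ v ∈ P, v * a = a * v := by
      intro v hv
      have h1 := comm_of_mem ((mP v).mp hv).2 hza
      apply mul_left_cancel (a := z)
      calc z * (v * a) = (z * v) * a := by group
        _ = v * (z * a) := by rw [← hcomm v hv z hz]; group
        _ = z * a * v := h1
        _ = z * (a * v) := by group
    exact ⟨a, F.self L hL P hPmax a haL fun v hv => (hcom v hv).symm, hcom, hza⟩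
  choose f hf using fun q : Q => hQK q.2
  have hinj : Function.Injective (fun q : Q => (⟨f q, (hf q).1⟩ : P)) := by
    intro a b hab
    have h2 : f a = f b := congrArg Subtype.val hab
    have h3 : (a : G) * f a * ((b : G) * f b)⁻¹ ∈ centralizer (L : Set G) :=
      mul_mem (hf a).2.2 ((centralizer (L : Set G)).inv_mem (hf b).2.2)
    rw [h2] at h3
    have h4 : (a : G) * f b * ((b : G) * f b)⁻¹ = (a : G) * (b : G)⁻¹ := by group
    rw [h4] at h3
    have h5 : (a : G) * (b : G)⁻¹ = 1 := by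
      by_contra hne
      have h6 : Q ⊓ centralizer (L : Set G) ≠ ⊥ := by
        intro h7
        apply hne
        rw [← mem_bot, ← h7]
        exact mem_inf.mpr ⟨mul_mem a.2 (inv_mem b.2), h3⟩
      obtain ⟨u, hu, hui⟩ := exists_inv (hQmax.two.to_le (inf_le_left :
        Q ⊓ centralizer (L : Set G) ≤ Q)) h6
      exact H.na_nontriv hP hL hN hns ((mQ u).mp hu.1).2 hui hu.2
    exact Subtype.ext (mul_inv_eq_one.mp h5)
  have hcard : Nat.card P ≤ Nat.card Q := by
    obtain ⟨g, hg⟩ := H.tr L hL N hN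
    rw [← card_cj g P]
    refine hQmax.max _ (hg ▸ cj_mono hPmax.le) ?_
    exact hPmax.two.map _
  have hsurj := (hinj.bijective_of_nat_card_le hcard).2
  have hab : ∀ s ∈ P, ∀ t ∈ P, s * t = t * s := by
    intro s hs t ht
    obtain ⟨q, hq⟩ := hsurj ⟨t, ht⟩
    have h1 : f q = t := congrArg Subtype.val hq
    rw [← h1]
    exact (hf q).2.1 s hs
  obtain ⟨hP4, hPe⟩ := F.abel L hL P hPmax hab
  refine ⟨hcomm, hP4, hPe, fun z hz => ?_, ?_⟩
  · obtain ⟨u, hu, -, h⟩ := hQK hz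
    exact ⟨u, hu, h⟩
  · rcases F.genC L hL P hPmax hP4 with h | h
    · exact h
    · exfalso
      apply hns
      refine (H.star hN hL (h _ fun u hu hui l hl hlu => ?_)).symm
      obtain ⟨q, hq⟩ := hsurj ⟨u, hu⟩
      have h1 : f q = u := congrArg Subtype.val hq
      have h2 : (q : G) * u ∈ centralizer (L : Set G) := h1 ▸ (hf q).2.2
      have hlq : l * (q : G) = q * l := by
        have h3 := comm_of_mem hl h2
        apply mul_right_cancel (b := u)
        calc l * (q : G) * u = l * (q * u) := by group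
          _ = q * u * l := h3
          _ = q * (l * u) := by rw [hlu]; group
          _ = q * l * u := by group
      have hu' : u ∈ normalizer (L : Set G) := le_normalizer ((mP u).mp hu).2
      have hqi : Inv (q : G) := by
        refine ⟨?_, ?_⟩
        · by_contra hne
          -- `q²` centralizes `L`
          have h3 : (q : G) * q ∈ centralizer (L : Set G) := by
            have h4 := comm_of_mem ((mP u).mp hu).2 h2
            have h5 : (q : G) * q = (q * u) * (q * u) := by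
              calc (q : G) * q = q * (u * u) * q := by rw [hui.sq]; group
                _ = q * u * (u * q) := by group
                _ = q * u * (q * u) := by rw [hcomm u hu q q.2]
            rw [h5]
            exact mul_mem h2 h2
          have h6 : Q ⊓ centralizer (L : Set G) ≠ ⊥ := by
            intro h7
            apply hne
            rw [← mem_bot, ← h7]
            exact mem_inf.mpr ⟨mul_mem q.2 q.2, h3⟩
          obtain ⟨w, hw, hwi⟩ := exists_inv (hQmax.two.to_le (inf_le_left :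
            Q ⊓ centralizer (L : Set G) ≤ Q)) h6
          exact H.na_nontriv hP hL hN hns ((mQ w).mp hw.1).2 hwi hw.2
        · intro h3
          rw [h3, one_mul] at h2
          exact hui.ne (H.disj hL ((mP u).mp hu).2 h2)
      exact H.ctrl hP hN ((mQ q).mp q.2).2 hqi hlq

/-- (4), general part -/
theorem exists_conf (F : NAF Λ Y) {L N : Subgroup G} (hL : L ∈ Λ) (hN : N ∈ Λ) (hns : ¬ Sim N L) {z : G}
    (hz : z ∈ N) (hzi : Inv z) (hzL : z ∈ normalizer (L : Set G)) :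
    Nat.card L = 60 ∧ ∃ P Q, Conf Λ L N P Q ∧ z ∈ Q := by
  obtain ⟨T, hzT, hTM, hT, hconj⟩ := exists_syl (normalizer (L : Set G) ⊓ normalizer (N : Set G)) (zpowers z)
    (isPGroup_zpowers hzi.sq) (zpowers_le.mpr (mem_inf.mpr ⟨hzL, le_normalizer hz⟩))
  have hPmax := H.na_max hP F hL hN hns hT hconj hz hzi hzL
  obtain ⟨u, hu, hui⟩ := exists_inv hPmax.two (by
    intro h
    obtain ⟨v, hv, hvi⟩ := H.even L hL
    have h1 := hPmax.max (zpowers v) (zpowers_le.mpr hv) (isPGroup_zpowers hvi.sq)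
    rw [h, Subgroup.card_bot, Nat.card_zpowers, hvi.order] at h1
    omega)
  have huN : u ∈ normalizer (N : Set G) := (mem_inf.mp (hTM (mem_inf.mp hu).1)).2
  have hns' : ¬ Sim L N := fun h => hns h.symm
  have hQmax := H.na_max hP F hN hL hns' hT (by rwa [inf_comm]) (mem_inf.mp hu).2 hui huN
  obtain ⟨h1, h2, h3, h4, h5⟩ := H.na_half hP F hL hN hns hTM hPmax hQmax
  obtain ⟨-, h2', h3', h4', -⟩ := H.na_half hP F hN hL hns' (by rwa [inf_comm]) hQmax hPmax
  exact ⟨h5, T ⊓ L, T ⊓ N, ⟨hL, hN, hns, inf_le_right, inf_le_right, h2, h2', h3, h3', h1, h4, h4'⟩,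
    mem_inf.mpr ⟨hzT (mem_zpowers z), hz⟩⟩

end Cfsg.Agent.UGT.Paired.Basic.Hyp
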