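import Cfsg.Agent.UGT.Paired.FiveKF
import Cfsg.Agent.UGT.Paired.NA
import Cfsg.Agent.S0811
import Cfsg.Agent.S0812

/-!
# The structure `NA.NAF` for a system `BBS` of bad pairs

* `naf : BBS BB → BB x₀ L₀ → NAF (Cl L₀) (Yd BB L₀)`.
-/

set_option autoImplicit false

open Cfsg.Agent.GH.L2Aut Cfsg.Agent.OddHalf Cfsg.Agent.Lib.SL2Mat Cfsg.Agent.Lib.AutSL2
  Cfsg.Agent.Lib.AutSL2Out
open Cfsg.Agent.UGT.Res
open Subgroup

namespace Cfsg.Agent.UGT.Paired.NAKF

namespace Ty

section unip

variable {F : Type*} [Field F] [Finite F] {L : Type*} [Group L]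

/-- involutions of `PGL(2,F)` fix no nontrivial unipotent element -/
theorem unip' (R : Cfsg.Agent.GH.L2Aut.Rep F L) {p : ℕ} [hc : CharP F p] (hpp : p.Prime) (hodd : Odd p)
    {φ : MulAut L} (h : φ * φ = 1) (hφP : φ ∈ R.PGL) (hg1 : φ ≠ 1) {b : L} (hb : b ^ p = 1) (hφ : φ b = b) :
    b = 1 := by
  have : Fact p.Prime := ⟨hpp⟩
  by_contra hb1
  obtain ⟨x, hx, hxp⟩ : ∃ x, R.π x = b ∧ x ^ p = 1 := by
    obtain ⟨x, rfl⟩ := R.surj b
    rw [← map_pow, R.ker] at hb
    rcases hb with h1 | h1
    · exact ⟨x, rfl, h1⟩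
    · refine ⟨-x, R.π_neg x, ?_⟩
      rw [hodd.neg_pow, h1, neg_neg]
  -- `x - 1` is nilpotent
  obtain ⟨N, hN⟩ : ∃ N, N = x.1 - 1 := ⟨_, rfl⟩
  have hxN : x.1 = 1 + N := by rw [hN]; abel
  have hchar : CharP (Matrix (Fin 2) (Fin 2) F) p := inferInstance
  have hNp : N ^ p = 0 := by
    have h1 : x.1 ^ p = 1 := by
      rw [← Matrix.SpecialLinearGroup.coe_pow, hxp, Matrix.SpecialLinearGroup.coe_one]
    rw [hxN, add_pow_char_of_commute p (Commute.one_left N), one_pow] at h1
    exact left_eq_add.mp h1.symm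
  have hnil : IsNilpotent N := ⟨p, hNp⟩
  have htr : N.trace = 0 := (Matrix.isNilpotent_trace_of_isNilpotent hnil).eq_zero
  have hdet : N.det = 0 := by
    have h1 := congrArg Matrix.det hNp
    rw [Matrix.det_pow, Matrix.det_zero] at h1
    exact pow_eq_zero_iff (hpp.ne_zero) |>.1 h1
  have hN0 : N ≠ 0 := by
    intro h1
    apply hb1
    rw [← hx, R.ker]
    left
    apply Subtype.ext
    rw [hxN, h1, add_zero]
    rfl
  have hxs : ∀ c : F, x.1 ≠ c • (1 : Matrix (Fin 2) (Fin 2) F) := by
    intro c h1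
    have h3 : N = (c - 1) • (1 : Matrix (Fin 2) (Fin 2) F) := by
      rw [hN, h1, sub_smul, one_smul]
    rw [h3, Matrix.trace_smul, Matrix.trace_one, Fintype.card_fin, smul_eq_mul] at htr
    apply hN0
    rw [h3]
    rcases mul_eq_zero.1 htr with h4 | h4
    · rw [h4, zero_smul]
    · exact absurd (by exact_mod_cast h4) R.two
  obtain ⟨g, rfl⟩ := R.mem_PGL.1 hφP
  have hgtr := R.tr_of_inv hg1 h
  -- `g` commutes with `x`
  have hcg : conjGL g x = x := by
    rw [← hx, R.gl_apply, R.π_eq_iff] at hφ
    rcases hφ with h1 | h1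
    · exact h1
    · exfalso
      have h3 : (conjGL g x).1.trace = x.1.trace := by
        rw [conjGL_val, Matrix.trace_mul_comm, ← Matrix.mul_assoc, ← Units.val_mul, inv_mul_cancel,
          Units.val_one, Matrix.one_mul]
      rw [h1] at h3
      have h4 : (-x).1.trace = -x.1.trace := by
        change (-x.1).trace = _
        rw [Matrix.trace_neg]
      have h5 : x.1.trace = 2 := by
        rw [hxN, Matrix.trace_add, htr, Matrix.trace_one, Fintype.card_fin, add_zero]
        norm_num
      rw [h4, h5] at h3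
      have h6 : (2 : F) * 2 = 0 := by linear_combination -h3
      rcases mul_eq_zero.1 h6 with h7 | h7 <;> exact R.two h7
  have hcomm : x.1 * g.1 = g.1 * x.1 := (of_conjGL_eq hcg).symm
  obtain ⟨a, c, hac⟩ := exists_ab hxs hcomm
  have h1 : a + c = 0 := by
    have h3 : g.1 = (a + c) • (1 : Matrix (Fin 2) (Fin 2) F) + c • N := by
      rw [hac, hxN, smul_add, add_smul, add_assoc]
    rw [h3, Matrix.trace_add, Matrix.trace_smul, Matrix.trace_smul, htr, Matrix.trace_one,
      Fintype.card_fin, smul_zero, add_zero, smul_eq_mul] at hgtr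
    rcases mul_eq_zero.1 hgtr with h4 | h4
    · exact h4
    · exact absurd (by exact_mod_cast h4) R.two
  have h3 : g.1 = c • N := by
    rw [hac, hxN, smul_add, ← add_assoc, ← add_smul, h1, zero_smul, zero_add]
  have h4 : g.1.det ≠ 0 := (Matrix.GeneralLinearGroup.det g).ne_zero
  apply h4
  rw [h3, Matrix.det_smul, hdet, mul_zero]


end unip

variable {F : Type*} [Field F] [Finite F] {A : Type*} [Group A] (R : Cfsg.Agent.GH.L2Aut.Rep F A)

include R

/-- elements commuting with a four-group -/
theorem mem_of_comm {a b : A} (hab : Four a b) {l : A} (h1 : l * a = a * l) (h2 : l * b = b * l) :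
    l = 1 ∨ l = a ∨ l = b ∨ l = a * b := by
  obtain ⟨Φ, -, -, -, -, -, -, -, -, -, -, -, -, -, -, -, h, -⟩ := R.exists_frame hab
  obtain ⟨u, hu, h3⟩ := h (MulAut.conj l) (by rw [MulAut.conj_apply, h1, mul_inv_cancel_right])
    (by rw [MulAut.conj_apply, h2, mul_inv_cancel_right])
  have h4 : R.fld (MulAut.conj l) = 1 := R.mem_PGL_iff_fld.1 (R.conj_mem_PGL l)
  rw [h4, map_one, mul_one] at h3
  rw [R.conj_injective h3]
  exact hu

/-- a Sylow subgroup centralizing a given involution -/
theorem exists_syl {a : A} (haa : a * a = 1) (ha1 : a ≠ 1) :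
    ∃ P : Sylow 2 A, a ∈ P ∧ ∀ s ∈ P, s * a = a * s := by
  have := R.finite
  obtain ⟨P₀⟩ : Nonempty (Sylow 2 A) := inferInstance
  obtain ⟨c, d, hc, -, hcd⟩ := R.exists_four_mem P₀
  obtain ⟨w, hw, hww, hw1, hwc⟩ := ThE.Base.exists_central P₀.2 (le_refl (P₀ : Subgroup A))
    (fun s hs n hn => mul_mem (mul_mem hs hn) (inv_mem hs)) (by
      intro h
      have hc' : c ∈ (P₀ : Subgroup A) := hc
      rw [h, mem_bot] at hc'
      exact hcd.a1 hc')
  obtain ⟨g, hg⟩ := R.inv_conj hww hw1 haa ha1
  refine ⟨g • P₀, ?_, ?_⟩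
  · rw [← hg]
    exact ⟨w, hw, rfl⟩
  · rintro _ ⟨s, hs, rfl⟩
    change g * s * g⁻¹ * a = a * (g * s * g⁻¹)
    rw [← hg]
    have h1 := hwc s hs
    calc g * s * g⁻¹ * (g * w * g⁻¹) = g * (s * w) * g⁻¹ := by group
      _ = g * (w * s) * g⁻¹ := by rw [h1]
      _ = g * w * g⁻¹ * (g * s * g⁻¹) := by group

/-- Sylow 2-subgroups are generated by involutions -/
theorem gen_inv (P : Sylow 2 A) {K : Subgroup A} (hK : ∀ u ∈ P, u * u = 1 → u ≠ 1 → u ∈ K) :
    (P : Subgroup A) ≤ K := by
  have := R.finite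
  obtain ⟨a, b, ha, hb, hab⟩ := R.exists_four_mem P
  obtain ⟨w, hw, hww, hw1, hwc⟩ := ThE.Base.exists_central P.2 (le_refl (P : Subgroup A))
    (fun s hs n hn => mul_mem (mul_mem hs hn) (inv_mem hs)) (by
      intro h
      have ha' : a ∈ (P : Subgroup A) := ha
      rw [h, mem_bot] at ha'
      exact hab.a1 ha')
  obtain ⟨B, v, c1, c2, c3, c4, c5, c6, c7, c8⟩ := R.cent_data (φ := MulAut.conj w) (R.conj_mem_PGL w)
    (fun h => hw1 (R.conj_injective (by rw [h, map_one]))) (by rw [← map_mul, hww, map_one])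
  have hfix : ∀ s ∈ P, MulAut.conj w s = s := by
    intro s hs
    have h1 := hwc s hs
    rw [MulAut.conj_apply]
    rw [h1, mul_inv_cancel_right]
  obtain ⟨s, hs, hsB⟩ : ∃ s ∈ P, s ∉ B := by
    by_contra hcon
    push Not at hcon
    have key : ∀ c ∈ P, c * c = 1 → c ≠ 1 → c = w := by
      intro c hc hcc hc1
      rcases c3 c (hcon c hc) hcc with h | h
      · exact absurd h hc1
      · exact R.conj_injective h
    exact hab.ne ((key a ha hab.aa hab.a1).trans (key b hb hab.bb hab.b1).symm)
  have key : ∀ t ∈ P, t ∉ B → t ∈ K := by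
    intro t ht htB
    rcases c4 t (hfix t ht) with h | ⟨h, -⟩
    · exact absurd h htB
    · exact hK t ht h (fun h1 => htB (by rw [h1]; exact one_mem _))
  intro t ht
  by_cases htB : t ∈ B
  · have h1 : s * t ∈ K := key _ (mul_mem hs ht) (fun h => hsB (by
      have := mul_mem h (inv_mem htB)
      rwa [mul_inv_cancel_right] at this))
    have h2 := mul_mem (inv_mem (key s hs hsB)) h1
    rwa [inv_mul_cancel_left] at h2
  · exact key t ht htB

omit R [Field F] [Finite F] in
theorem four_mem {P : Subgroup A} {a b u : A} (ha : a ∈ P) (hb : b ∈ P)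
    (hu : u = 1 ∨ u = a ∨ u = b ∨ u = a * b) : u ∈ P := by
  rcases hu with rfl | rfl | rfl | rfl
  · exact one_mem _
  · exact ha
  · exact hb
  · exact mul_mem ha hb

theorem self (P : Sylow 2 A) {l : A} (h : ∀ s ∈ P, l * s = s * l) : l ∈ P := by
  obtain ⟨a, b, ha, hb, hab⟩ := R.exists_four_mem P
  exact four_mem (P := (P : Subgroup A)) ha hb (mem_of_comm R hab (h a ha) (h b hb))

/-- a group contained in `{1, a, b, ab}` -/
theorem card_le_four {P : Subgroup A} {a b : A} (h : ∀ u ∈ P, u = 1 ∨ u = a ∨ u = b ∨ u = a * b) :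
    Nat.card P ≤ 4 := by
  classical
  have := R.finite
  let s : Finset A := {1, a, b, a * b}
  have h1 : Nat.card P ≤ Nat.card s := by
    refine Nat.card_le_card_of_injective (fun u : P => (⟨u, ?_⟩ : s)) ?_
    · have := h u u.2
      simp only [s, Finset.mem_insert, Finset.mem_singleton]
      exact this
    · intro u v huv
      exact Subtype.ext (congrArg (fun z : s => (z : A)) huv)
  refine h1.trans ?_
  rw [Nat.card_eq_fintype_card, Fintype.card_coe]
  exact Finset.card_le_four

theorem abel (P : Sylow 2 A) (h : ∀ s ∈ P, ∀ t ∈ P, s * t = t * s) :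
    Nat.card P = 4 ∧ ∀ s ∈ P, s * s = 1 := by
  have := R.finite
  obtain ⟨a, b, ha, hb, hab⟩ := R.exists_four_mem P
  have h1 : ∀ u ∈ P, u = 1 ∨ u = a ∨ u = b ∨ u = a * b := fun u hu =>
    mem_of_comm R hab (h u hu a ha) (h u hu b hb)
  constructor
  · apply le_antisymm (card_le_four R h1)
    obtain ⟨n, hn⟩ := IsPGroup.iff_card.1 P.2
    have h4 : (2 : ℕ) ^ 2 ∣ Nat.card A := by
      have hodd : Odd (Nat.card F) := odd_card R.two
      obtain ⟨k, hk⟩ := hodd
      have h5 := R.card_mul_two
      have h6 : Nat.card F * (Nat.card F ^ 2 - 1) = (2 * k + 1) * (4 * (k * (k + 1))) := by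
        rw [hk]
        congr 1
        have : (2 * k + 1) ^ 2 = 4 * (k * (k + 1)) + 1 := by ring
        omega
      rw [h6] at h5
      obtain ⟨j, hj⟩ : Even (k * (k + 1)) := Nat.even_mul_succ_self k
      have h7 : Nat.card A * 2 = ((2 * k + 1) * j * 4) * 2 := by rw [h5, hj]; ring
      have h8 := Nat.eq_of_mul_eq_mul_right (by norm_num) h7
      exact ⟨(2 * k + 1) * j, by rw [h8]; ring⟩
    exact Nat.le_of_dvd Nat.card_pos (P.pow_dvd_card_of_pow_dvd_card h4)
  · intro s hs
    rcases h1 s hs with rfl | rfl | rfl | rfl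
    · exact one_mul 1
    · exact hab.aa
    · exact hab.bb
    · exact hab.right.bb

/-- a maximal dihedral subgroup -/
theorem coatom_of {H : Subgroup A} (hH : IsCoatom H) {m : ℕ} (hm : Even m) (hm6 : 6 ≤ m)
    (e : H ≃* DihedralGroup m) {u : A} (huu : u * u = 1) (hu1 : u ≠ 1) :
    IsCoatom (centralizer ({u} : Set A)) ∧ 12 ≤ Nat.card (centralizer ({u} : Set A)) := by
  have := R.finite
  obtain ⟨k, hk⟩ := hm
  have : NeZero m := ⟨by omega⟩
  have h2k : (k : ZMod m) + k = 0 := by
    have h1 : ((k + k : ℕ) : ZMod m) = 0 := by rw [← hk]; exact ZMod.natCast_self m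
    rwa [Nat.cast_add] at h1
  obtain ⟨c, hc⟩ : ∃ c : H, c = e.symm (DihedralGroup.r k) := ⟨_, rfl⟩
  have hcc : c * c = 1 := by
    rw [hc, ← map_mul, DihedralGroup.r_mul_r, h2k, ← DihedralGroup.one_def, map_one]
  have hc1 : c ≠ 1 := by
    intro h
    rw [hc, map_eq_one_iff _ e.symm.injective, DihedralGroup.one_def] at h
    have h1 : (k : ZMod m) = 0 := DihedralGroup.r.inj h
    rw [ZMod.natCast_eq_zero_iff] at h1
    have h2 := Nat.le_of_dvd (by omega) h1
    omega
  have hcen : ∀ h : H, h * c = c * h := by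
    intro h
    apply e.injective
    rw [map_mul, map_mul, hc, e.apply_symm_apply]
    rcases e h with i | i
    · rw [DihedralGroup.r_mul_r, DihedralGroup.r_mul_r, add_comm]
    · rw [DihedralGroup.sr_mul_r, DihedralGroup.r_mul_sr]
      congr 1
      rw [eq_sub_iff_add_eq, add_assoc, h2k, add_zero]
  have hle : H ≤ centralizer ({(c : A)} : Set A) := by
    intro h hh
    rw [mem_centralizer_singleton_iff]
    exact congrArg Subtype.val (hcen ⟨h, hh⟩)
  have heq : centralizer ({(c : A)} : Set A) = H := by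
    by_contra hne
    have h1 := hH.2 _ (lt_of_le_of_ne hle (Ne.symm hne))
    have h2 : (c : A) ∈ center A := by
      rw [Subgroup.mem_center_iff]
      intro g
      have : g ∈ centralizer ({(c : A)} : Set A) := by rw [h1]; trivial
      exact mem_centralizer_singleton_iff.mp this
    rw [R.center_eq_bot, mem_bot] at h2
    exact hc1 (Subtype.ext h2)
  obtain ⟨g, hg⟩ := R.inv_conj (s := (c : A)) (t := u) (congrArg Subtype.val hcc)
    (fun h => hc1 (Subtype.ext h)) huu hu1
  have hcu : centralizer ({u} : Set A) = (MulAut.conj g : A ≃* A).mapSubgroup H := by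
    ext z
    rw [MulEquiv.coe_mapSubgroup, Subgroup.mem_map_equiv, ← heq, mem_centralizer_singleton_iff,
      mem_centralizer_singleton_iff]
    have e1 : (MulAut.conj g : A ≃* A).symm z = g⁻¹ * z * g := rfl
    rw [e1, ← hg]
    constructor
    · intro h
      calc g⁻¹ * z * g * c = g⁻¹ * (z * (g * c * g⁻¹)) * g := by group
        _ = g⁻¹ * (g * c * g⁻¹ * z) * g := by rw [h]
        _ = c * (g⁻¹ * z * g) := by group
    · intro h
      calc z * (g * c * g⁻¹) = g * (g⁻¹ * z * g * c) * g⁻¹ := by group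
        _ = g * (c * (g⁻¹ * z * g)) * g⁻¹ := by rw [h]
        _ = g * c * g⁻¹ * z := by group
  rw [hcu]
  constructor
  · exact ((MulAut.conj g : A ≃* A).mapSubgroup.isCoatom_iff H).2 hH
  · rw [MulEquiv.coe_mapSubgroup, card_map_of_injective (MulAut.conj g : A ≃* A).injective,
      Nat.card_congr e.toEquiv, DihedralGroup.nat_card]
    omega

/-- centralizers of involutions are maximal, `q ≥ 11` -/
theorem coatom (hq : 11 ≤ Nat.card F) {u : A} (huu : u * u = 1) (hu1 : u ≠ 1) :
    IsCoatom (centralizer ({u} : Set A)) ∧ 12 ≤ Nat.card (centralizer ({u} : Set A)) := by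
  have hodd : Odd (Nat.card F) := odd_card R.two
  obtain ⟨k, hk⟩ := hodd
  let _ := Fintype.ofFinite F
  have hcard : Fintype.card F = Nat.card F := Nat.card_eq_fintype_card.symm
  let f : A ≃* Matrix.ProjectiveSpecialLinearGroup (Fin 2) F := Cfsg.Agent.UGT.SL.toEquiv R
  have hgcd : Nat.gcd 2 (Nat.card F - 1) = 2 := Nat.gcd_eq_left (by omega)
  have key : ∀ (m : ℕ) (H : Subgroup (Matrix.ProjectiveSpecialLinearGroup (Fin 2) F)), IsCoatom H →
      Even m → 6 ≤ m → Nonempty (H ≃* DihedralGroup m) →
      IsCoatom (centralizer ({u} : Set A)) ∧ 12 ≤ Nat.card (centralizer ({u} : Set A)) := by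
    rintro m H hH hm hm6 ⟨e⟩
    exact coatom_of R (H := H.map f.symm.toMonoidHom) ((f.symm.mapSubgroup.isCoatom_iff H).2 hH) hm hm6
      ((H.equivMapOfInjective _ f.symm.injective).symm.trans e) huu hu1
  by_cases h4 : Nat.card F % 4 = 3
  · obtain ⟨H, h1, h2⟩ := Cfsg.Agent.S0811.result (F := F) hcard (by
      simp only [Finset.mem_insert, Finset.mem_singleton, not_or]
      omega)
    rw [hgcd] at h2
    exact key _ H h1 (by rw [Nat.even_iff]; omega) (by omega) h2
  · obtain ⟨H, h1, h2⟩ := Cfsg.Agent.S0812.result (F := F) hcard (by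
      simp only [Finset.mem_insert, Finset.mem_singleton, not_or]
      omega)
    rw [hgcd] at h2
    exact key _ H h1 (by rw [Nat.even_iff]; omega) (by omega) h2

theorem genC (h5 : 4 < Nat.card F) (P : Sylow 2 A) (hP : Nat.card P = 4) : Nat.card A = 60 ∨
    ∀ K : Subgroup A, (∀ u ∈ P, u * u = 1 → u ≠ 1 → ∀ l, l * u = u * l → l ∈ K) → K = ⊤ := by
  have := R.finite
  have hodd : Odd (Nat.card F) := odd_card R.two
  obtain ⟨k, hk⟩ := hodd
  have hc := R.card_mul_two
  by_cases h : Nat.card F = 5
  · left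
    rw [h] at hc
    omega
  right
  have hq : 11 ≤ Nat.card F := by
    by_contra hcon
    have h79 : Nat.card F = 7 ∨ Nat.card F = 9 := by omega
    have h8 : (2 : ℕ) ^ 3 ∣ Nat.card A := by
      rcases h79 with h | h
      · rw [h] at hc
        omega
      · rw [h] at hc
        omega
    have h9 := Nat.le_of_dvd Nat.card_pos (P.pow_dvd_card_of_pow_dvd_card h8)
    rw [hP] at h9
    omega
  intro K hK
  obtain ⟨a, b, ha, hb, hab⟩ := R.exists_four_mem P
  have hCa : centralizer ({a} : Set A) ≤ K := fun l hl =>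
    hK a ha hab.aa hab.a1 l (mem_centralizer_singleton_iff.mp hl)
  have hCb : centralizer ({b} : Set A) ≤ K := fun l hl =>
    hK b hb hab.bb hab.b1 l (mem_centralizer_singleton_iff.mp hl)
  obtain ⟨h1, h2⟩ := coatom R hq hab.aa hab.a1
  obtain ⟨h3, -⟩ := coatom R hq hab.bb hab.b1
  by_contra hKt
  have e1 : K = centralizer ({a} : Set A) := by
    by_contra hne
    exact hKt (h1.2 K (lt_of_le_of_ne hCa (Ne.symm hne)))
  have e2 : K = centralizer ({b} : Set A) := by
    by_contra hne
    exact hKt (h3.2 K (lt_of_le_of_ne hCb (Ne.symm hne)))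
  have h4 := card_le_four R (P := K) (a := a) (b := b) (fun l hl =>
    mem_of_comm R hab (mem_centralizer_singleton_iff.mp (e1 ▸ hl))
      (mem_centralizer_singleton_iff.mp (e2 ▸ hl)))
  rw [← e1] at h2
  omega

/-- the field case for `q = 9` -/
theorem nine {α : MulAut A} (h1 : α * α = 1) (h2 : α ∉ R.PGL) : ∃ a b y : A, Four a b ∧
    y * y * y = 1 ∧ y * a * y⁻¹ = b ∧ α a = a ∧ α y = y := by
  obtain ⟨R', -, -, h3, -⟩ := R.ftype_rep h2 h1
  obtain ⟨i, j, w, d, hσi, hσj, hσw, -, hi, hj, hij, hwi, hwj, hw3, -⟩ := exists_std (F := F) R.two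
  refine ⟨R'.π i, R'.π j, R'.π w, R'.four_of_pair hi hj hij, ?_, ?_, ?_, ?_⟩
  · rw [← map_mul, ← map_mul, hw3, (R'.ker _).2 (Or.inr rfl)]
  · rw [← map_mul, hwi, map_mul, mul_inv_cancel_right]
  · rw [h3, R'.fa_apply, hσi]
  · rw [h3, R'.fa_apply, hσw]

theorem card_nine {α : MulAut A} (h5 : 4 < Nat.card F) (hq : Nat.card F < 11) (h1 : α * α = 1)
    (h2 : α ∉ R.PGL) : Nat.card F = 9 := by
  have hodd : Odd (Nat.card F) := odd_card R.two
  obtain ⟨k, hk⟩ := hodd
  obtain ⟨K, -, hcard⟩ := exists_fixed_field (R.fld α)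
  rw [R.fld_order_two h2 h1] at hcard
  have h3 : Nat.card K < 4 := by
    by_contra hcon
    have h4 : 4 ^ 2 ≤ Nat.card K ^ 2 := Nat.pow_le_pow_left (by omega) 2
    omega
  generalize Nat.card K = n at *
  interval_cases n <;> omega

end Ty

open Cfsg.Agent.SignalizersComponents.IntrinsicBasic
open Cfsg.Agent.OddHalf.D6
open Cfsg.Agent.UGT.Res.EFacts Cfsg.Agent.UGT.Res.BBS
open Cfsg.Agent.UGT.ThE.Base (IsT IsS K_conj)
open Cfsg.Agent.UGT.Paired.Basic Cfsg.Agent.UGT.Paired.Inst Cfsg.Agent.UGT.Paired.NA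
open scoped commutatorElement

universe u

variable {G : Type u} [Group G] [Finite G] {BB : G → Subgroup G → Prop} (S : BBS BB) {x₀ : G}
  {L₀ : Subgroup G}

section max

variable {L : Subgroup G}

/-- `Max2 L S`: `S` is a Sylow subgroup of `L` -/
theorem exists_sylow {P : Subgroup G} (h : Max2 L P) :
    ∃ Q : Sylow 2 L, (Q : Subgroup L) = P.subgroupOf L := by
  obtain ⟨Q, hQ⟩ := (h.two.comap_of_injective L.subtype L.subtype_injective).exists_le_sylow
  refine ⟨Q, (eq_of_le_of_card_ge hQ ?_).symm⟩
  have h1 := h.max ((Q : Subgroup L).map L.subtype) (by rintro _ ⟨a, -, rfl⟩; exact a.2) (Q.2.map _)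
  rw [card_map_of_injective L.subtype_injective] at h1
  exact h1.trans (le_of_eq (Nat.card_congr (subgroupOfEquivOfLe h.le).toEquiv).symm)

theorem max_of (Q : Sylow 2 L) : Max2 L ((Q : Subgroup L).map L.subtype) where
  le := by rintro _ ⟨a, -, rfl⟩; exact a.2
  two := Q.2.map _
  max := by
    intro T hT hT2
    obtain ⟨Q', hQ'⟩ := (hT2.comap_of_injective L.subtype L.subtype_injective).exists_le_sylow
    rw [card_map_of_injective L.subtype_injective, ← Nat.card_congr (subgroupOfEquivOfLe hT).toEquiv,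
      Nat.card_congr (Q.equiv Q').toEquiv]
    exact card_le_of_le hQ'

end max

include S in
/-- **the structure `NAF`** -/
theorem naf (h₀ : BB x₀ L₀) : NAF (Cl L₀) (Yd BB L₀) := by
  have hH := Inst.hyp S h₀
  have hrep : ∀ {L : Subgroup G}, L ∈ Cl L₀ → ∃ (F : Type) (_ : Field F) (_ : Finite F),
      4 < Nat.card F ∧ Nonempty (Cfsg.Agent.GH.L2Aut.Rep F L) := by
    intro L hL
    obtain ⟨x, hx⟩ := exists_bd S h₀ hL
    obtain ⟨F, i1, i2, h5, hR⟩ := S.rep hx.1
    exact ⟨F, i1, i2, by omega, hR⟩
  exact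
    { tri := by
        intro L hL z hz hzi
        obtain ⟨F, _, _, h5, ⟨R⟩⟩ := hrep hL
        obtain ⟨x, hx⟩ := exists_bd S h₀ hL
        have C := S.cf hx.1 R
        have hα := act_sq hz hzi.sq
        by_cases hf : R.fld (act L z hz) = 1
        · rcases Int.units_eq_one_or (R.o1 (act L z hz)) with ho | ho
          · by_cases h1 : act L z hz = 1
            · exact Or.inl ((act_one_iff' hz).mp h1)
            · obtain ⟨⟨s, hs⟩, h2⟩ := R.mem_inn_iff.2 ⟨hf, ho⟩
              refine Or.inr (Or.inl ⟨s, hs, ⟨?_, ?_⟩, ?_⟩)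
              · have h4 : (⟨s, hs⟩ : L) * ⟨s, hs⟩ = 1 :=
                  R.conj_injective (by rw [map_mul, h2, hα, map_one])
                exact congrArg Subtype.val h4
              · rintro rfl
                apply h1
                rw [← h2]
                exact map_one (MulAut.conj : L →* MulAut L)
              · rw [← act_one_iff' (mul_mem hz (le_normalizer hs)), ← act_mul hz (le_normalizer hs),
                  act_of_mem hs, h2, hα]
          · obtain ⟨h1, h2⟩ := PglType.pgl_of R hα ho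
            obtain ⟨h3, h4⟩ := PglType.pgl_of R C.sq (C.o1 C.xN)
            obtain ⟨⟨l, hl⟩, hy⟩ := R.dtype_conj h1 h2 hα h3 h4 C.sq
            obtain ⟨y, hyd, hyx, s, hs, hsy⟩ := hH.exy hx
            obtain ⟨-, hyL, -, -⟩ := hH.Ymem hyd
            have hfix : ∀ t ∈ L, t * x = x * t → l⁻¹ * t * l * z = z * (l⁻¹ * t * l) := by
              intro t ht htx
              have h5 := (act_fix C.xN ht).mpr htx
              have hlt : l⁻¹ * t * l ∈ L := mul_mem (mul_mem (inv_mem hl) ht) hl
              rw [← act_fix hz hlt]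
              have e1 : (⟨l⁻¹ * t * l, hlt⟩ : L) = (MulAut.conj (⟨l, hl⟩ : L))⁻¹ ⟨t, ht⟩ := by
                rw [← map_inv, MulAut.conj_apply, inv_inv]
                rfl
              have e2 : act L z hz = (MulAut.conj (⟨l, hl⟩ : L))⁻¹ * act L x C.xN *
                  MulAut.conj (⟨l, hl⟩ : L) := by
                rw [← hy]
                group
              rw [e1, e2, MulAut.mul_apply, MulAut.mul_apply, MulAut.apply_inv_self, h5]
            refine Or.inr (Or.inr (Or.inl ⟨l⁻¹ * y * l, ?_, hfix y hyL hyx, l⁻¹ * s * l,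
              mul_mem (mul_mem (inv_mem hl) hs.mem) hl, hfix s hs.mem hs.comm, ?_⟩))
            · have h5 := yd_cj S (g := l⁻¹) hyd
              rwa [inv_inv, mem_normalizer_iff_cj.mp (le_normalizer (inv_mem hl))] at h5
            · calc l⁻¹ * s * l * (l⁻¹ * y * l) * (l⁻¹ * s * l)⁻¹ = l⁻¹ * (s * y * s⁻¹) * l := by group
                _ = (l⁻¹ * y * l)⁻¹ := by rw [hsy]; group
        · right; right; right
          intro N hN hzN hcN
          obtain ⟨F', _, _, h5', ⟨R'⟩⟩ := hrep hN
          have hP : act L z hz ∉ R.PGL := fun h => hf (R.mem_PGL_iff_fld.1 h)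
          by_cases hq : 11 ≤ Nat.card F
          · obtain ⟨J, hJ, hJf, e, heJ, hee, he1⟩ := TT.PGLSolv.field R hq hα hP
            have hJJ : ⁅J, J⁆ = J := by
              refine le_antisymm ?_ hJ
              rw [commutator_le]
              intro c hc d hd
              exact mul_mem (mul_mem (mul_mem hc hd) (inv_mem hc)) (inv_mem hd)
            have hD : ⁅J.map L.subtype, J.map L.subtype⁆ = J.map L.subtype := by
              rw [← map_commutator, hJJ]
            have hDz : ∀ d ∈ J.map L.subtype, d * z = z * d := by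
              rintro _ ⟨⟨d, hdL⟩, hd, rfl⟩
              exact (act_fix hz hdL).mp (hJf _ hd)
            have hDN : J.map L.subtype ≤ normalizer (N : Set G) := by
              intro d hd
              refine hcN d ?_ (hDz d hd)
              obtain ⟨⟨d, hdL⟩, -, rfl⟩ := hd
              exact hdL
            have h6 := Inst.sol R' hzN hzi.ne hDN hD hDz
            exact ⟨e, e.2, ⟨congrArg Subtype.val hee, fun h => he1 (Subtype.ext h)⟩,
              h6 ⟨e, heJ, rfl⟩⟩
          · have h9 := Ty.card_nine R h5 (by omega) hα hP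
            obtain ⟨a, b, y, hab, hy3, hya, hαa, hαy⟩ := Ty.nine R hα hP
            have hyz : (y : G) * z = z * y := (act_fix hz y.2).mp hαy
            have haz : (a : G) * z = z * a := (act_fix hz a.2).mp hαa
            have hyN := hcN y y.2 hyz
            have haN := hcN a a.2 haz
            have hy3' : (y : G) ^ 3 = 1 := by
              rw [pow_succ, pow_two]
              exact congrArg Subtype.val hy3
            have hyo : orderOf (y : G) ∣ 3 := orderOf_dvd_of_pow_eq_one hy3'
            have h9' : Nat.card F' = 9 := by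
              have h6 := R.card_mul_two
              have h7 := R'.card_mul_two
              have h8 : Nat.card N = Nat.card L := by
                obtain ⟨g, rfl⟩ := cl_tr hL hN
                exact card_map_of_injective (MulAut.conj g).injective
              rw [h8, h6, h9] at h7
              rcases lt_trichotomy (Nat.card F') 9 with h | h | h
              · exfalso
                have e1 : Nat.card F' ^ 2 ≤ 8 ^ 2 := Nat.pow_le_pow_left (by omega) 2
                have e2 : Nat.card F' * (Nat.card F' ^ 2 - 1) ≤ 8 * (8 ^ 2 - 1) :=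
                  Nat.mul_le_mul (by omega) (Nat.sub_le_sub_right e1 1)
                omega
              · exact h
              · exfalso
                have e1 : 10 ^ 2 ≤ Nat.card F' ^ 2 := Nat.pow_le_pow_left (by omega) 2
                have e2 : 10 * (10 ^ 2 - 1) ≤ Nat.card F' * (Nat.card F' ^ 2 - 1) :=
                  Nat.mul_le_mul (by omega) (Nat.sub_le_sub_right e1 1)
                omega
            have : CharP F' 3 := by
              obtain ⟨p, hc, hp, -⟩ := FldFacts.exists_char (F := F') R'.two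
              have := Fintype.ofFinite F'
              obtain ⟨n, -, hn⟩ := FiniteField.card F' p
              rw [← Nat.card_eq_fintype_card, h9'] at hn
              have h1 : p ∣ 3 ^ 2 := by
                have : (3 : ℕ) ^ 2 = 9 := by norm_num
                rw [this, hn]
                exact dvd_pow_self p n.pos.ne'
              have h2 : p = 3 := (Nat.prime_dvd_prime_iff_eq hp (by norm_num)).mp
                (hp.dvd_of_dvd_pow h1)
              rwa [← h2]
            have hηo : Odd (orderOf (act N y hyN)) :=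
              Odd.of_dvd_nat (by decide : Odd 3) ((orderOf_act_dvd hyN).trans hyo)
            obtain ⟨c, hc⟩ := L2Fact.inn_of_odd R' (by omega) hηo
            have hcz : c * ⟨z, hzN⟩ = ⟨z, hzN⟩ * c := by
              have h1 : act N y hyN ⟨z, hzN⟩ = ⟨z, hzN⟩ := (act_fix hyN hzN).mpr hyz.symm
              rw [← hc] at h1
              have h2 : c * ⟨z, hzN⟩ * c⁻¹ = ⟨z, hzN⟩ := h1
              rwa [mul_inv_eq_iff_eq_mul] at h2
            have hc3 : c ^ 3 = 1 := by
              apply R'.conj_injective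
              rw [map_pow, hc, map_one]
              have h1 := orderOf_act_dvd hyN
              exact orderOf_dvd_iff_pow_eq_one.mp (h1.trans hyo)
            have hzz : (⟨z, hzN⟩ : N) * ⟨z, hzN⟩ = 1 := Subtype.ext hzi.sq
            have hc1 : c = 1 := Ty.unip' R' (p := 3) (by norm_num) (by decide)
              (φ := MulAut.conj (⟨z, hzN⟩ : N)) (by rw [← map_mul, hzz, map_one])
              (R'.conj_mem_PGL _) (fun h => hzi.ne (by
                have h1 : (⟨z, hzN⟩ : N) = 1 := R'.conj_injective (by rw [h, map_one])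
                exact congrArg Subtype.val h1)) hc3 (by
                rw [MulAut.conj_apply, ← hcz, mul_inv_cancel_right])
            have hyC : (y : G) ∈ centralizer (N : Set G) := by
              rw [← act_one_iff' hyN, ← hc, hc1, map_one]
            have hyaG : (y : G) * a * (y : G)⁻¹ = b := congrArg Subtype.val hya
            refine ⟨b * (a : G)⁻¹, mul_mem b.2 (inv_mem a.2), ?_, ?_⟩
            · have hainv : (a : G)⁻¹ = a :=
                inv_eq_of_mul_eq_one_left (congrArg Subtype.val hab.aa)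
              rw [hainv]
              exact ⟨congrArg Subtype.val hab.symm.right.bb,
                fun h => hab.symm.right.b1 (Subtype.ext h)⟩
            · have e1 : (b : G) * (a : G)⁻¹ = y * (a * (y : G)⁻¹ * (a : G)⁻¹) := by
                rw [← hyaG]; group
              rw [e1]
              exact mul_mem hyC (K_conj haN (inv_mem hyC))
      cenSyl := by
        intro L hL a ha hai
        obtain ⟨F, _, _, h5, ⟨R⟩⟩ := hrep hL
        obtain ⟨P, h1, h2⟩ := Ty.exists_syl R (a := ⟨a, ha⟩) (Subtype.ext hai.sq)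
          (fun h => hai.ne (congrArg Subtype.val h))
        refine ⟨_, max_of P, ⟨_, h1, rfl⟩, ?_⟩
        rintro _ ⟨s, hs, rfl⟩
        exact congrArg Subtype.val (h2 s hs)
      gen2 := by
        intro L hL P hP K hK
        obtain ⟨F, _, _, h5, ⟨R⟩⟩ := hrep hL
        obtain ⟨Q, hQ⟩ := exists_sylow hP
        have h1 := Ty.gen_inv R Q (K := K.subgroupOf L) (by
          intro u hu huu hu1
          have hu' : u ∈ (Q : Subgroup L) := hu
          rw [hQ] at hu'
          exact hK u hu' ⟨congrArg Subtype.val huu, fun h => hu1 (Subtype.ext h)⟩)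
        intro s hs
        have h2 : (⟨s, hP.le hs⟩ : L) ∈ (Q : Subgroup L) := by rw [hQ]; exact hs
        exact h1 h2
      self := by
        intro L hL P hP l hl h
        obtain ⟨F, _, _, h5, ⟨R⟩⟩ := hrep hL
        obtain ⟨Q, hQ⟩ := exists_sylow hP
        have h1 := Ty.self R Q (l := ⟨l, hl⟩) (by
          intro s hs
          have hs' : s ∈ (Q : Subgroup L) := hs
          rw [hQ] at hs'
          exact Subtype.ext (h s hs'))
        have h2 : (⟨l, hl⟩ : L) ∈ (Q : Subgroup L) := h1
        rw [hQ] at h2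
        exact h2
      abel := by
        intro L hL P hP h
        obtain ⟨F, _, _, h5, ⟨R⟩⟩ := hrep hL
        obtain ⟨Q, hQ⟩ := exists_sylow hP
        have h1 := Ty.abel R Q (by
          intro s hs t ht
          have hs' : s ∈ (Q : Subgroup L) := hs
          have ht' : t ∈ (Q : Subgroup L) := ht
          rw [hQ] at hs' ht'
          exact Subtype.ext (h s hs' t ht'))
        refine ⟨?_, fun s hs => ?_⟩
        · rw [← h1.1, ← Nat.card_congr (subgroupOfEquivOfLe hP.le).toEquiv, ← hQ]
        · have h2 : (⟨s, hP.le hs⟩ : L) ∈ (Q : Subgroup L) := by rw [hQ]; exact hs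
          exact congrArg Subtype.val (h1.2 _ h2)
      genC := by
        intro L hL P hP h4
        obtain ⟨F, _, _, h5, ⟨R⟩⟩ := hrep hL
        obtain ⟨Q, hQ⟩ := exists_sylow hP
        have hQ4 : Nat.card Q = 4 := by
          have h1 : Nat.card (Q : Subgroup L) = 4 := by
            rw [hQ, Nat.card_congr (subgroupOfEquivOfLe hP.le).toEquiv, h4]
          exact h1
        rcases Ty.genC R h5 Q hQ4 with h1 | h1
        · exact Or.inl h1
        right
        intro K hK
        have h2 := h1 (K.subgroupOf L) (by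
          intro u hu huu hu1 l hlu
          have hu' : u ∈ (Q : Subgroup L) := hu
          rw [hQ] at hu'
          exact hK u hu' ⟨congrArg Subtype.val huu, fun h => hu1 (Subtype.ext h)⟩ l l.2
            (congrArg Subtype.val hlu))
        exact subgroupOf_eq_top.mp h2 }

end Cfsg.Agent.UGT.Paired.NAKF
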