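import Cfsg.Agent.UGT.Paired.Main
import Cfsg.Agent.UGT.Paired.FiveKF
import Cfsg.Agent.UGT.Paired.NAKF
import Cfsg.Agent.UGT.Res.COneIn

/-!
# Theorem P for a system `BBS` of bad pairs

* `eq_of_pair`: `x` bad for `L`, `L₁` a conjugate of `L` commuting with `L` and normalized by `x`, the conjugates of
  `L` in a normal simple subgroup: `L₁ = L`;
* `eq_of_pair'`: the same, the normal simple subgroup given by `Normal` and `IsSimpleGroup`;
* `false_of_simple`: there is no bad pair in a simple group.
-/

set_option autoImplicit false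
set_option linter.dupNamespace false

open Cfsg Subgroup
open Cfsg.Agent.SignalizersComponents.IntrinsicBasic
open Cfsg.Agent.UGT.Res.EFacts Cfsg.Agent.UGT.Res.BBS
open Cfsg.Agent.UGT.Paired.Basic

namespace Cfsg.Agent.UGT.Paired.OfBBS

universe u

variable {G : Type u} [Group G] [Finite G] {BB : G → Subgroup G → Prop} {L : Subgroup G} {x : G}

/-- **Theorem P for a system of bad pairs**: `X` is a normal simple subgroup (as a subgroup: `hXs`, containing all
conjugates of `L`: `hLX`). -/
theorem eq_of_pair (S : BBS BB) (h : BB x L) {X : Subgroup G}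
    (hXs : ∀ K : Subgroup G, K ≤ X → (∀ a ∈ X, ∀ k ∈ K, a * k * a⁻¹ ∈ K) → K = ⊥ ∨ K = X)
    (hLX : ∀ g, cj g L ≤ X) {g : G} (hc : cj g L ≤ centralizer (L : Set G))
    (hx : x ∈ normalizer ((cj g L : Subgroup G) : Set G)) : cj g L = L := by
  by_contra hne
  have hmem : L ∈ Inst.Cl L := ⟨1, (cj_one L).symm⟩
  refine (Inst.hyp S h).false_of_pair (NAKF.naf S h) (fun h60 => FiveKF.five S h (h60 L hmem))
    (fun h1 h2 => S.uniq h1.1 h2.1) hXs ?_ (x := x) (L := L) (N := cj g L) ⟨h, hmem⟩ ⟨g, rfl⟩ hne
    (Or.inr ?_) hx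
  · rintro _ ⟨k, rfl⟩
    exact hLX k
  · intro n hn l hl
    exact (mem_centralizer_iff.mp (hc hn) l hl).symm

/-- the same with `X` normal and simple -/
theorem eq_of_pair' (S : BBS BB) (h : BB x L) {X : Subgroup G} (hX : X.Normal) [IsSimpleGroup X] (hLX : L ≤ X)
    {g : G} (hc : cj g L ≤ centralizer (L : Set G))
    (hx : x ∈ normalizer ((cj g L : Subgroup G) : Set G)) : cj g L = L := by
  refine eq_of_pair S h (X := X) ?_ ?_ hc hx
  · intro K hKX hK
    have hn : (K.subgroupOf X).Normal := by
      refine ⟨fun k hk a => ?_⟩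
      rw [mem_subgroupOf] at hk ⊢
      exact hK a a.2 k hk
    rcases hn.eq_bot_or_eq_top with h1 | h1
    · left
      rw [subgroupOf_eq_bot] at h1
      rw [← inf_of_le_left hKX]
      exact h1.eq_bot
    · right
      rw [subgroupOf_eq_top] at h1
      exact le_antisymm hKX h1
  · rintro k _ ⟨l, hl, rfl⟩
    exact hX.conj_mem l (hLX hl) k

/-- a simple group with a bad pair is perfect -/
theorem noSign (S : BBS BB) [IsSimpleGroup G] (h : BB x L) : Parity.NoSign G := by
  apply Parity.noSign_of_perfect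
  rcases (inferInstance : (commutator G).Normal).eq_bot_or_eq_top with h1 | h1
  · exfalso
    rw [commutator_eq_bot_iff_center_eq_top] at h1
    obtain ⟨F, _, _, h5, ⟨R⟩⟩ := S.rep h
    obtain ⟨t, u, ht, -⟩ := S.four h
    obtain ⟨k, hk, hki⟩ := Inst.even R
    exact hki.ne (eq_one_of_mem_centralizer R hk (center_le_centralizer _ (h1 ▸ mem_top k)))
  · exact h1

/-- **there is no bad pair in a simple group** -/
theorem false_of_simple (S : BBS BB) [IsSimpleGroup G] (h : BB x L) : False := by
  have hG := noSign S h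
  refine Res.COneIn.false_of_unpaired S hG h fun g hc hP => ?_
  refine eq_of_pair S h (X := ⊤) ?_ (fun _ => le_top) hc (hP.mem S)
  intro K _ hK
  have hn : K.Normal := ⟨fun k hk a => hK a (mem_top a) k hk⟩
  exact hn.eq_bot_or_eq_top

end Cfsg.Agent.UGT.Paired.OfBBS
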