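import Cfsg.Agent.UGT.Paired.Twin

/-!
# Theorem P, (5), (6), (7)

From `NoAdj`: `Hyp.com` (COM: involutions `u ∈ L`, `v ∈ N` generating a 2-group force `Sim L N`), `Hyp.sim_of_conj`
(`Sim (cj z L) L` for an involution `z ∈ N` forces `Sim N L`), `Hyp.not_mem` (a bad involution lies in no member),
`Hyp.sim_of_comm` (an involution `c ∈ N` commuting with `x` bad for `L` forces `Sim N L`).
-/

set_option autoImplicit false

open Subgroup
open Cfsg.Agent.SignalizersComponents.IntrinsicBasic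
open Cfsg.Agent.UGT.ThE.Base
open Cfsg.Agent.UGT.Paired.Basic
open Cfsg.Agent.UGT.Paired.Twin

namespace Cfsg.Agent.UGT.Paired.Com

variable {G : Type*} [Group G]

/-- the diagonal of `L × L^v`, `v` an involution -/
theorem exists_diag {L : Subgroup G} {v : G} (hv : v * v = 1)
    (hc : ∀ a ∈ L, ∀ b ∈ L, a * (v * b * v⁻¹) = (v * b * v⁻¹) * a) (hL : ⁅L, L⁆ = L) :
    ∃ D : Subgroup G, ⁅D, D⁆ = D ∧ (∀ d ∈ D, d * v = v * d) ∧
      ∀ d, d ∈ D ↔ ∃ l ∈ L, d = l * (v * l * v⁻¹) := by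
  have hvi : v⁻¹ = v := inv_eq_of_mul_eq_one_left hv
  let δ : L →* G :=
    { toFun := fun l => l * (v * l * v⁻¹)
      map_one' := by rw [Subgroup.coe_one, mul_one, mul_inv_cancel, one_mul]
      map_mul' := fun a b => by
        rw [Subgroup.coe_mul]
        have h1 := hc b b.2 a a.2
        calc (a : G) * b * (v * (a * b) * v⁻¹) = a * (b * (v * a * v⁻¹)) * (v * b * v⁻¹) := by group
          _ = a * (v * a * v⁻¹ * b) * (v * b * v⁻¹) := by rw [h1]
          _ = a * (v * a * v⁻¹) * (b * (v * b * v⁻¹)) := by group }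
  have hmem : ∀ d, d ∈ δ.range ↔ ∃ l ∈ L, d = l * (v * l * v⁻¹) := by
    intro d
    constructor
    · rintro ⟨l, rfl⟩
      exact ⟨l, l.2, rfl⟩
    · rintro ⟨l, hl, rfl⟩
      exact ⟨⟨l, hl⟩, rfl⟩
  refine ⟨δ.range, ?_, ?_, hmem⟩
  · have h1 : commutator ↥L = ⊤ := by
      have h2 : (⁅(⊤ : Subgroup L), (⊤ : Subgroup L)⁆).map L.subtype = L := by
        rw [map_commutator, ← MonoidHom.range_eq_map, range_subtype]
        exact hL
      rw [commutator_def]
      apply map_injective L.subtype_injective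
      rw [h2, ← MonoidHom.range_eq_map, range_subtype]
    rw [MonoidHom.range_eq_map, ← map_commutator, ← commutator_def, h1]
  · intro d hd
    obtain ⟨l, hl, rfl⟩ := (hmem d).mp hd
    have h1 := hc l hl l hl
    rw [hvi] at h1 ⊢
    calc l * (v * l * v) * v = l * v * l * (v * v) := by group
      _ = (v * v) * l * v * l := by rw [hv]; group
      _ = v * ((v * l * v) * l) := by group
      _ = v * (l * (v * l * v)) := by rw [h1]

end Cfsg.Agent.UGT.Paired.Com

namespace Cfsg.Agent.UGT.Paired.Basic.Hyp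

open Cfsg.Agent.UGT.Paired.Com

variable {G : Type*} [Group G] [Finite G] {Λ : Set (Subgroup G)} {B : G → Subgroup G → Prop}
  {Y : Subgroup G → G → Prop}

variable (H : Hyp Λ B Y) (hP : Pair Λ B) (hNA : NoAdj Λ)
include H hP hNA

/-- (5), COM -/
theorem com (k : ℕ) : ∀ {L N : Subgroup G}, L ∈ Λ → N ∈ Λ → ∀ {u v : G}, u ∈ L → v ∈ N → Inv u → Inv v →
    (u * v) ^ 2 ^ k = 1 → Sim L N := by
  induction k with
  | zero =>
    intro L N hL hN u v hu hv hui hvi h
    rw [pow_zero, pow_one] at h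
    have h1 : u = v := by rw [← hvi.inv]; exact eq_inv_of_mul_eq_one_left h
    subst h1
    exact Or.inl (H.ti hP hL hN hu hv hui)
  | succ k ih =>
    intro L N hL hN u v hu hv hui hvi h
    by_contra hns
    have hvL : v ∉ normalizer (L : Set G) := fun h1 => hns (hNA L hL N hN v hv hvi h1).symm
    have huN : u ∉ normalizer (N : Set G) := fun h1 => hns (hNA N hN L hL u hu hui h1)
    have e1 : u * (v * u * v⁻¹) = (u * v) ^ 2 := by rw [hvi.inv, pow_two]; group
    have e2 : v * (u * v * u⁻¹) = ((u * v) ^ 2)⁻¹ := by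
      rw [pow_two, hui.inv]
      calc v * (u * v * u) = v⁻¹ * u⁻¹ * v⁻¹ * u⁻¹ := by rw [hvi.inv, hui.inv]; group
        _ = _ := by group
    have h1 : Sim L (cj v L) := ih hL (H.cl L hL v) hu (conj_mem_cj hu) hui (hui.conj v) (by
      rw [e1, ← pow_mul, ← pow_succ']; exact h)
    have h2 : Sim N (cj u N) := ih hN (H.cl N hN u) hv (conj_mem_cj hv) hvi (hvi.conj u) (by
      rw [e2, inv_pow, ← pow_mul, ← pow_succ', h, inv_one])
    have h3 : L ≠ cj v L := fun h4 => hvL (mem_normalizer_iff_cj.mpr h4.symm)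
    have h4 : N ≠ cj u N := fun h4 => huN (mem_normalizer_iff_cj.mpr h4.symm)
    obtain ⟨D, hD, hDv, hDm⟩ := exists_diag (L := L) hvi.sq
      (fun a ha b hb => comm_of_sim h1 h3 ha (conj_mem_cj hb)) (H.perf L hL)
    have h5 : D ≤ centralizer (N : Set G) := H.sol N hN v hv hvi.ne D
      (fun d hd => H.ctrl hP hN hv hvi (hDv d hd)) hD hDv
    have h6 : u * (v * u * v⁻¹) ∈ centralizer (N : Set G) := h5 ((hDm _).mpr ⟨u, hu, rfl⟩)
    apply hvi.ne
    apply H.disj hN hv
    have h7 : v = ((u * v) ^ 2)⁻¹ * (u * v * u⁻¹)⁻¹ := by rw [← e2]; group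
    rw [h7]
    refine mul_mem (inv_mem (e1 ▸ h6)) (inv_mem ?_)
    exact le_cen_of_sim h2 h4 (conj_mem_cj hv)

/-- (6) -/
theorem sim_of_conj {L N : Subgroup G} (hL : L ∈ Λ) (hN : N ∈ Λ) {z : G} (hz : z ∈ N) (hzi : Inv z)
    (h : Sim L (cj z L)) : Sim N L := by
  by_cases h1 : z ∈ normalizer (L : Set G)
  · exact hNA L hL N hN z hz hzi h1
  · obtain ⟨u, hu, hui⟩ := H.even L hL
    have h2 : L ≠ cj z L := fun h3 => h1 (mem_normalizer_iff_cj.mpr h3.symm)
    have h3 := comm_of_sim h h2 hu (conj_mem_cj (g := z) hu)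
    rw [hzi.inv] at h3
    refine (H.com hP hNA 2 hL hN hu hz hui hzi ?_).symm
    calc (u * z) ^ 2 ^ 2 = u * ((z * u * z) * u) * (z * u * z) := by
          rw [show (2 : ℕ) ^ 2 = 4 by norm_num, pow_succ, pow_succ, pow_two]; group
      _ = u * (u * (z * u * z)) * (z * u * z) := by rw [h3]
      _ = (u * u) * z * u * (z * z) * u * z := by group
      _ = z * (u * u) * z := by rw [hui.sq, hzi.sq, one_mul, mul_one, ← hui.sq]; group
      _ = 1 := by rw [hui.sq, mul_one, hzi.sq]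

omit hNA in
/-- (7): a bad involution lies in no member of `Λ` -/
theorem not_mem {x : G} {L N : Subgroup G} (hB : B x L) (hN : N ∈ Λ) : x ∉ N := by
  intro hx
  have hxi := H.Binv hB
  obtain ⟨y, hy, hyx, s, hs, hsy⟩ := H.exy hB
  have h1 : y ∈ centralizer (N : Set G) := H.tor N hN x hx hxi L y hy (H.ctrl hP hN hx hxi hyx) s
    (H.ctrl hP hN hx hxi hs.comm) hyx hs.comm hsy
  have h2 : N ≤ normalizer (L : Set G) := fun n hn => H.H hy n (mem_cen.mp h1 n hn)
  rcases H.star (H.Bmem hB) hN h2 with h3 | h3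
  · subst h3
    apply H.Bout hB x hx
    rw [hxi.sq]
    exact one_mem _
  · apply H.Bout hB 1 (one_mem L)
    rw [mul_one]
    exact mem_cen.mpr fun l hl => (h3 x hx l hl).symm

/-- (7), second part -/
theorem sim_of_comm {x : G} {L N : Subgroup G} (hB : B x L) (hN : N ∈ Λ) {c : G} (hc : c ∈ N)
    (hci : Inv c) (hcx : c * x = x * c) : Sim N L := by
  apply H.sim_of_conj hP hNA (H.Bmem hB) hN hc hci
  have h1 := H.Bcj c x L hB
  rw [hcx, mul_inv_cancel_right] at h1
  exact H.one hB h1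

end Cfsg.Agent.UGT.Paired.Basic.Hyp
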