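import Cfsg.Agent.UGT.Paired.NA
import Cfsg.Agent.UGT.Paired.Com

/-!
# Theorem P, (4), the case `q = 5`

`Hyp.noAdj`: `NoAdj Λ`.
-/

set_option autoImplicit false

open Subgroup
open Cfsg.Agent.SignalizersComponents.IntrinsicBasic
open Cfsg.Agent.UGT.ThE.Base
open Cfsg.Agent.UGT.Paired.Basic
open Cfsg.Agent.UGT.Paired.Twin
open Cfsg.Agent.UGT.Paired.NADefs

namespace Cfsg.Agent.UGT.Paired.NAFive

variable {G : Type*} [Group G]

/-- two subgroups of `S` with trivial intersection -/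
theorem card_mul_le [Finite G] {A B S : Subgroup G} (hA : A ≤ S) (hB : B ≤ S) (h : A ⊓ B = ⊥) :
    Nat.card A * Nat.card B ≤ Nat.card S := by
  rw [← Nat.card_prod]
  refine Nat.card_le_card_of_injective (fun q : A × B => (⟨q.1 * q.2, mul_mem (hA q.1.2) (hB q.2.2)⟩ : S)) ?_
  rintro ⟨a, b⟩ ⟨c, d⟩ heq
  have h1 : (a : G) * b = c * d := congrArg Subtype.val heq
  have h2 : (c : G)⁻¹ * a = d * (b : G)⁻¹ := by
    rw [inv_mul_eq_iff_eq_mul, ← mul_assoc, ← h1, mul_inv_cancel_right]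
  have h3 : (c : G)⁻¹ * a ∈ A ⊓ B :=
    mem_inf.mpr ⟨mul_mem (inv_mem c.2) a.2, h2 ▸ mul_mem d.2 (inv_mem b.2)⟩
  rw [h, mem_bot] at h3
  have h4 : (c : G) = a := inv_mul_eq_one.mp h3
  rw [h3] at h2
  have h5 : (d : G) = b := mul_inv_eq_one.mp h2.symm
  exact Prod.ext (Subtype.ext h4.symm) (Subtype.ext h5.symm)

/-- an automorphism of order three of a four-group without fixed points -/
theorem four_orbit [Finite G] {Q : Subgroup G} (hQ4 : Nat.card Q = 4) (hQe : ∀ z ∈ Q, z * z = 1) {h : G}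
    (h3 : h ^ 3 = 1) (hn : h ∈ normalizer (Q : Set G)) (hf : ∀ u ∈ Q, h * u = u * h → u = 1) {z w : G}
    (hz : z ∈ Q) (hz1 : z ≠ 1) (hw : w ∈ Q) (hw1 : w ≠ 1) :
    (w = z ∨ w = h * z * h⁻¹ ∨ w = h ^ 2 * z * (h ^ 2)⁻¹) ∧
      (h * z * h⁻¹) * (h ^ 2 * z * (h ^ 2)⁻¹) = z := by
  have hinv : ∀ a ∈ Q, a⁻¹ = a := fun a ha => inv_eq_of_mul_eq_one_left (hQe a ha)
  have hcomm : ∀ a ∈ Q, ∀ b ∈ Q, a * b = b * a := by
    intro a ha b hb
    have := hinv _ (mul_mem ha hb)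
    rw [mul_inv_rev, hinv a ha, hinv b hb] at this
    exact this.symm
  have hc : ∀ a ∈ Q, h * a * h⁻¹ ∈ Q := fun a ha => (mem_normalizer_iff.mp hn a).mp ha
  have h1 := hc z hz
  have e2 : h ^ 2 * z * (h ^ 2)⁻¹ = h * (h * z * h⁻¹) * h⁻¹ := by rw [pow_two]; group
  have h2 : h ^ 2 * z * (h ^ 2)⁻¹ ∈ Q := by rw [e2]; exact hc _ h1
  have e3 : h * (h ^ 2 * z * (h ^ 2)⁻¹) * h⁻¹ = z := by
    calc h * (h ^ 2 * z * (h ^ 2)⁻¹) * h⁻¹ = h ^ 3 * z * (h ^ 3)⁻¹ := by
          rw [pow_succ' h 2]; group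
      _ = z := by rw [h3, one_mul, inv_one, mul_one]
  -- the product of the orbit is fixed by `h`
  have hprod : z * (h * z * h⁻¹) * (h ^ 2 * z * (h ^ 2)⁻¹) = 1 := by
    apply hf _ (mul_mem (mul_mem hz h1) h2)
    have : h * (z * (h * z * h⁻¹) * (h ^ 2 * z * (h ^ 2)⁻¹)) * h⁻¹ =
        z * (h * z * h⁻¹) * (h ^ 2 * z * (h ^ 2)⁻¹) := by
      calc h * (z * (h * z * h⁻¹) * (h ^ 2 * z * (h ^ 2)⁻¹)) * h⁻¹
          = (h * z * h⁻¹) * (h * (h * z * h⁻¹) * h⁻¹) * (h * (h ^ 2 * z * (h ^ 2)⁻¹) * h⁻¹) := by group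
        _ = (h * z * h⁻¹) * (h ^ 2 * z * (h ^ 2)⁻¹) * z := by rw [e3, ← e2]
        _ = z * ((h * z * h⁻¹) * (h ^ 2 * z * (h ^ 2)⁻¹)) := hcomm _ (mul_mem h1 h2) _ hz
        _ = _ := by group
    calc h * (z * (h * z * h⁻¹) * (h ^ 2 * z * (h ^ 2)⁻¹))
        = h * (z * (h * z * h⁻¹) * (h ^ 2 * z * (h ^ 2)⁻¹)) * h⁻¹ * h := by group
      _ = _ := by rw [this]
  have hne1 : h * z * h⁻¹ ≠ z := by
    intro heq
    apply hz1
    apply hf z hz
    calc h * z = h * z * h⁻¹ * h := by group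
      _ = z * h := by rw [heq]
  have h1ne : h * z * h⁻¹ ≠ 1 := by
    intro heq
    apply hz1
    calc z = h⁻¹ * (h * z * h⁻¹) * h := by group
      _ = 1 := by rw [heq]; group
  refine ⟨?_, ?_⟩
  · by_contra hno
    push Not at hno
    obtain ⟨hw2, hw3, hw4⟩ := hno
    have h2ne : h ^ 2 * z * (h ^ 2)⁻¹ ≠ 1 := by
      intro heq
      apply hz1
      calc z = (h ^ 2)⁻¹ * (h ^ 2 * z * (h ^ 2)⁻¹) * h ^ 2 := by group
        _ = 1 := by rw [heq]; group
    have hne2 : h ^ 2 * z * (h ^ 2)⁻¹ ≠ z := by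
      intro heq
      rw [heq] at e3
      exact hne1 e3
    have hne3 : h ^ 2 * z * (h ^ 2)⁻¹ ≠ h * z * h⁻¹ := by
      intro heq
      apply hne1
      rw [e2] at heq
      exact mul_left_cancel (mul_right_cancel heq)
    classical
    have hset : ({1, z, h * z * h⁻¹, h ^ 2 * z * (h ^ 2)⁻¹, w} : Finset G).card = 5 := by
      rw [Finset.card_insert_of_notMem, Finset.card_insert_of_notMem, Finset.card_insert_of_notMem,
        Finset.card_insert_of_notMem, Finset.card_singleton]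
      · simp only [Finset.mem_singleton]; exact Ne.symm hw4
      · simp only [Finset.mem_insert, Finset.mem_singleton, not_or]
        exact ⟨hne3.symm, Ne.symm hw3⟩
      · simp only [Finset.mem_insert, Finset.mem_singleton, not_or]
        exact ⟨hne1.symm, hne2.symm, Ne.symm hw2⟩
      · simp only [Finset.mem_insert, Finset.mem_singleton, not_or]
        exact ⟨hz1.symm, h1ne.symm, h2ne.symm, hw1.symm⟩
    have hsub : (({1, z, h * z * h⁻¹, h ^ 2 * z * (h ^ 2)⁻¹, w} : Finset G) : Set G) ⊆ (Q : Set G) := by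
      intro a ha
      simp only [Finset.coe_insert, Finset.coe_singleton, Set.mem_insert_iff, Set.mem_singleton_iff] at ha
      rcases ha with rfl | rfl | rfl | rfl | rfl
      · exact one_mem Q
      · exact hz
      · exact h1
      · exact h2
      · exact hw
    have := Set.ncard_le_ncard hsub (Set.toFinite _)
    rw [Set.ncard_coe_finset, hset] at this
    have h4 : (Q : Set G).ncard = 4 := by rw [← hQ4]; rfl
    omega
  · have hz' := hinv z hz
    rw [mul_assoc] at hprod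
    exact (eq_inv_of_mul_eq_one_right hprod).trans hz'

end Cfsg.Agent.UGT.Paired.NAFive

namespace Cfsg.Agent.UGT.Paired.Basic.Hyp

open Cfsg.Agent.UGT.Paired.NAFive
open Cfsg.Agent.UGT.Paired.Com

variable {G : Type*} [Group G] [Finite G] {Λ : Set (Subgroup G)} {B : G → Subgroup G → Prop}
  {Y : Subgroup G → G → Prop}

variable (H : Hyp Λ B Y) (hP : Pair Λ B)
include H hP

/-- `h ∈ N_N(Q)` of order three moves `L` -/
theorem five_move {L N P Q : Subgroup G} (C : Conf Λ L N P Q) {h : G} (hh : h ∈ N) (h3 : h ^ 3 = 1)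
    (hn : h ∈ normalizer (Q : Set G)) (hf : ∀ u ∈ Q, h * u = u * h → u = 1) :
    cj h L ≠ L ∧ cj (h ^ 2) L ≠ L ∧ ∀ u ∈ P, u ≠ 1 → ∀ z ∈ Q, u * z ∈ centralizer (N : Set G) →
      h * u * h⁻¹ = u * (h ^ 2 * z * (h ^ 2)⁻¹) ∧ h ^ 2 * u * (h ^ 2)⁻¹ = u * (h * z * h⁻¹) := by
  have key : ∀ u ∈ P, u ≠ 1 → ∀ z ∈ Q, u * z ∈ centralizer (N : Set G) →
      h * u * h⁻¹ = u * (h ^ 2 * z * (h ^ 2)⁻¹) ∧ h ^ 2 * u * (h ^ 2)⁻¹ = u * (h * z * h⁻¹) := by
    intro u hu hu1 z hz huz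
    have hz1 : z ≠ 1 := by
      rintro rfl
      rw [mul_one] at huz
      exact H.na_nontriv hP C.mN C.mL (fun h => C.ns h.symm) (C.PL hu) ⟨C.Pe u hu, hu1⟩ huz
    obtain ⟨-, hpr⟩ := four_orbit C.Q4 C.Qe h3 hn hf hz hz1 hz hz1
    have hzi : z⁻¹ = z := inv_eq_of_mul_eq_one_left (C.Qe z hz)
    have c1 : ∀ g ∈ N, g * u * g⁻¹ = u * (z * (g * z * g⁻¹)⁻¹) := by
      intro g hg
      have h1 := comm_of_mem hg huz
      calc g * u * g⁻¹ = (g * (u * z)) * z⁻¹ * g⁻¹ := by group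
        _ = (u * z * g) * z⁻¹ * g⁻¹ := by rw [h1]
        _ = u * (z * (g * z * g⁻¹)⁻¹) := by group
    have hQm : ∀ a ∈ Q, h * a * h⁻¹ ∈ Q := fun a ha => (mem_normalizer_iff.mp hn a).mp ha
    have q1 := hQm z hz
    have e2 : h ^ 2 * z * (h ^ 2)⁻¹ = h * (h * z * h⁻¹) * h⁻¹ := by rw [pow_two]; group
    have q2 : h ^ 2 * z * (h ^ 2)⁻¹ ∈ Q := by rw [e2]; exact hQm _ q1
    have i1 : (h * z * h⁻¹)⁻¹ = h * z * h⁻¹ := inv_eq_of_mul_eq_one_left (C.Qe _ q1)
    have i2 : (h ^ 2 * z * (h ^ 2)⁻¹)⁻¹ = h ^ 2 * z * (h ^ 2)⁻¹ := inv_eq_of_mul_eq_one_left (C.Qe _ q2)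
    refine ⟨?_, ?_⟩
    · rw [c1 h hh]
      congr 1
      -- `z (z^h)⁻¹ = z^(h²)`
      rw [mul_inv_eq_iff_eq_mul]
      have : (h * z * h⁻¹ * (h ^ 2 * z * (h ^ 2)⁻¹))⁻¹ = z⁻¹ := by rw [hpr]
      rw [mul_inv_rev, i1, i2, hzi] at this
      exact this.symm
    · rw [c1 (h ^ 2) (pow_mem hh 2)]
      congr 1
      rw [mul_inv_eq_iff_eq_mul]
      exact hpr.symm
  have hex : ∃ u ∈ P, u ≠ 1 := by
    by_contra hno
    push Not at hno
    have : P = ⊥ := eq_bot_iff.mpr fun u hu => mem_bot.mpr (hno u hu)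
    have h4 := C.P4
    rw [this, Subgroup.card_bot] at h4
    omega
  obtain ⟨u, hu, hu1⟩ := hex
  obtain ⟨z, hz, huz⟩ := C.b u hu
  obtain ⟨k1, k2⟩ := key u hu hu1 z hz huz
  have hz1 : z ≠ 1 := by
    rintro rfl
    rw [mul_one] at huz
    exact H.na_nontriv hP C.mN C.mL (fun h => C.ns h.symm) (C.PL hu) ⟨C.Pe u hu, hu1⟩ huz
  have hno : ∀ w ∈ N, Inv w → w ∉ L := fun w hw hwi hwL =>
    C.ns (Or.inl (H.ti hP C.mN C.mL hw hwL hwi))
  have hzN : z ∈ N := C.QN hz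
  have hzi : Inv z := ⟨C.Qe z hz, hz1⟩
  refine ⟨fun h1 => ?_, fun h1 => ?_, key⟩
  · apply hno (h ^ 2 * z * (h ^ 2)⁻¹) (mul_mem (mul_mem (pow_mem hh 2) hzN) (inv_mem (pow_mem hh 2)))
      (hzi.conj _)
    have h2 : h * u * h⁻¹ ∈ L := h1 ▸ conj_mem_cj (C.PL hu)
    rw [k1] at h2
    exact (L.mul_mem_cancel_left (C.PL hu)).mp h2
  · apply hno (h * z * h⁻¹) (mul_mem (mul_mem hh hzN) (inv_mem hh)) (hzi.conj _)
    have h2 : h ^ 2 * u * (h ^ 2)⁻¹ ∈ L := h1 ▸ conj_mem_cj (C.PL hu)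
    rw [k2] at h2
    exact (L.mul_mem_cancel_left (C.PL hu)).mp h2

/-- `b ∘ a = id` -/
theorem five_ba (F : Five Λ) {L N P Q : Subgroup G} (C : Conf Λ L N P Q) {u z : G} (hu : u ∈ P) (hz : z ∈ Q)
    (h : z * u ∈ centralizer (L : Set G)) : z * u ∈ centralizer (N : Set G) := by
  by_cases hz1 : z = 1
  · subst hz1
    rw [one_mul] at h ⊢
    rw [H.disj C.mL (C.PL hu) h]
    exact one_mem _
  have hu1 : u ≠ 1 := by
    rintro rfl
    rw [mul_one] at h
    exact H.na_nontriv hP C.mL C.mN C.ns (C.QN hz) ⟨C.Qe z hz, hz1⟩ h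
  obtain ⟨t, htN, ht3, htn, htf⟩ := F.three N C.mN Q C.QN C.Q4
  obtain ⟨m1, m2, key⟩ := H.five_move hP C htN ht3 htn htf
  obtain ⟨w, hw, huw⟩ := C.b u hu
  obtain ⟨k1, k2⟩ := key u hu hu1 w hw huw
  have hw1 : w ≠ 1 := by
    rintro rfl
    rw [mul_one] at huw
    exact H.na_nontriv hP C.mN C.mL (fun h => C.ns h.symm) (C.PL hu) ⟨C.Pe u hu, hu1⟩ huw
  obtain ⟨hor, hpr⟩ := four_orbit C.Q4 C.Qe ht3 htn htf hw hw1 hz hz1
  have huz : z * u = u * z := (C.comm u hu z hz).symm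
  -- if `L` commutes with one of its conjugates, then with all, and `w` centralizes `L`
  have hfin : Sim L (cj t L) → Sim L (cj (t ^ 2) L) → False := by
    intro s1 s2
    have c1 : u * (t ^ 2 * w * (t ^ 2)⁻¹) ∈ centralizer (L : Set G) := by
      rw [← k1]
      exact le_cen_of_sim s1 (Ne.symm m1) (conj_mem_cj (C.PL hu))
    have c2 : u * (t * w * t⁻¹) ∈ centralizer (L : Set G) := by
      rw [← k2]
      exact le_cen_of_sim s2 (Ne.symm m2) (conj_mem_cj (C.PL hu))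
    have hQm : ∀ a ∈ Q, t * a * t⁻¹ ∈ Q := fun a ha => (mem_normalizer_iff.mp htn a).mp ha
    have c3 : w ∈ centralizer (L : Set G) := by
      have h1 : (u * (t * w * t⁻¹)) * (u * (t ^ 2 * w * (t ^ 2)⁻¹)) = w := by
        have h2 := C.comm u hu _ (hQm w hw)
        calc (u * (t * w * t⁻¹)) * (u * (t ^ 2 * w * (t ^ 2)⁻¹))
            = u * ((t * w * t⁻¹) * u) * (t ^ 2 * w * (t ^ 2)⁻¹) := by group
          _ = u * (u * (t * w * t⁻¹)) * (t ^ 2 * w * (t ^ 2)⁻¹) := by rw [h2]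
          _ = (u * u) * ((t * w * t⁻¹) * (t ^ 2 * w * (t ^ 2)⁻¹)) := by group
          _ = w := by rw [C.Pe u hu, one_mul, hpr]
      rw [← h1]
      exact mul_mem c2 c1
    exact H.na_nontriv hP C.mL C.mN C.ns (C.QN hw) ⟨C.Qe w hw, hw1⟩ c3
  have hstar : ∀ g : G, z * u ∈ cj g L → Sim L (cj g L) := by
    intro g hg
    have hne : z * u ≠ 1 := by
      intro h1
      have : z = u := by
        rw [← inv_eq_of_mul_eq_one_left (C.Pe u hu)]
        exact eq_inv_of_mul_eq_one_left h1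
      exact C.ns (Or.inl (H.ti hP C.mN C.mL (C.QN hz) (this ▸ C.PL hu) ⟨C.Qe z hz, hz1⟩))
    have hsq : z * u * (z * u) = 1 := by
      calc z * u * (z * u) = z * (u * z) * u := by group
        _ = (z * z) * (u * u) := by rw [C.comm u hu z hz]; group
        _ = 1 := by rw [C.Qe z hz, C.Pe u hu, one_mul]
    exact H.star (H.cl L C.mL g) C.mL fun l hl =>
      H.ctrl hP (H.cl L C.mL g) hg ⟨hsq, hne⟩ (comm_of_mem hl h)
  have ht2 : cj t (cj (t ^ 2) L) = L := by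
    rw [← cj_mul, ← pow_succ', ht3, cj_one]
  have hsq : cj t (cj t L) = cj (t ^ 2) L := by rw [← cj_mul, pow_two]
  rcases hor with h1 | h1 | h1
  · rw [huz, h1]
    exact huw
  · -- `z u = u^(t²)`
    exfalso
    have h2 : z * u ∈ cj (t ^ 2) L := by
      rw [huz, h1, ← k2]
      exact conj_mem_cj (C.PL hu)
    have s2 := hstar _ h2
    have s1 : Sim L (cj t L) := by
      have := sim_cj s2 t
      rw [ht2] at this
      exact this.symm
    exact hfin s1 s2
  · exfalso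
    have h2 : z * u ∈ cj t L := by
      rw [huz, h1, ← k1]
      exact conj_mem_cj (C.PL hu)
    have s1 := hstar _ h2
    have s2 : Sim L (cj (t ^ 2) L) := by
      have := sim_cj (sim_cj s1 t) t
      rw [hsq, ht2] at this
      exact this.symm
    exact hfin s1 s2

/-- the conclusion of the general part -/
def _root_.Cfsg.Agent.UGT.Paired.NAFive.HasConf (Λ : Set (Subgroup G)) : Prop :=
  ∀ L ∈ Λ, ∀ N ∈ Λ, ¬ Sim N L → ∀ z ∈ N, Inv z → z ∈ normalizer (L : Set G) →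
    ∃ P Q, Conf Λ L N P Q ∧ z ∈ Q

omit H hP [Finite G] in
theorem _root_.Cfsg.Agent.UGT.Paired.NADefs.Conf.Q_le {L N P Q : Subgroup G} (C : Conf Λ L N P Q) {z : G}
    (hz : z ∈ Q) : z ∈ normalizer (L : Set G) := by
  obtain ⟨u, hu, h⟩ := C.a z hz
  have : z = z * u * u⁻¹ := by group
  rw [this]
  exact mul_mem (K_le_M h) (inv_mem (le_normalizer (C.PL hu)))

/-- (TW): `Q` normalizes the twins of `L` -/
theorem five_tw (F : Five Λ) (hconf : HasConf Λ) {L N P Q : Subgroup G} (C : Conf Λ L N P Q)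
    {L0 : Subgroup G} (hL0 : L0 ∈ Λ) (htw : Tw Λ L L0) {z : G} (hz : z ∈ Q) :
    z ∈ normalizer (L0 : Set G) := by
  by_contra hzn
  have hns0 : ¬ Sim N L0 := fun h => C.ns ((htw N C.mN).mpr h)
  -- no involution of `Q` normalizes `L0`
  have hno : ∀ w ∈ Q, w ≠ 1 → w ∉ normalizer (L0 : Set G) := by
    intro w hw hw1 hwn
    obtain ⟨P', Q', C', hwQ'⟩ := hconf L0 hL0 N C.mN hns0 w (C.QN hw) ⟨C.Qe w hw, hw1⟩ hwn
    have := F.ti N C.mN Q Q' C.QN C'.QN C.Q4 C'.Q4 w hw hwQ' hw1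
    exact hzn (C'.Q_le (this ▸ hz))
  have hz1 : z ≠ 1 := by
    rintro rfl
    exact hzn (one_mem _)
  have hzi : Inv z := ⟨C.Qe z hz, hz1⟩
  have hmv : ∀ w ∈ Q, w ≠ 1 → L0 ≠ cj w L0 ∧ Sim L0 (cj w L0) := by
    intro w hw hw1
    refine ⟨fun h => hno w hw hw1 (mem_normalizer_iff_cj.mpr h.symm), ?_⟩
    have h1 := H.tw_cj htw w
    rw [mem_normalizer_iff_cj.mp (C.Q_le hw)] at h1
    -- `L0^w` is a twin of `L`
    have h2 : Sim (cj w L0) L := (h1 _ (H.cl L0 hL0 w)).mpr (Sim.refl _)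
    exact ((htw _ (H.cl L0 hL0 w)).mp h2).symm
  obtain ⟨u, hu, hui⟩ := H.even L0 hL0
  obtain ⟨hne0, hs0⟩ := hmv z hz hz1
  obtain ⟨D, hD, hDz, hDm⟩ := exists_diag (L := L0) hzi.sq
    (fun a ha b hb => comm_of_sim hs0 hne0 ha (conj_mem_cj hb)) (H.perf L0 hL0)
  have hzN := C.QN hz
  have hDN : D ≤ centralizer (N : Set G) := H.sol N C.mN z hzN hz1 D
    (fun d hd => H.ctrl hP C.mN hzN hzi (hDz d hd)) hD hDz
  obtain ⟨w, hw⟩ : ∃ w, w = u * (z * u * z⁻¹) := ⟨_, rfl⟩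
  have hwN : w ∈ centralizer (N : Set G) := hDN ((hDm w).mpr ⟨u, hu, hw⟩)
  have huu : u⁻¹ = u := hui.inv
  have huz : u * z * u⁻¹ = w * z := by rw [hw, huu]; group
  have hwne : w ≠ 1 := by
    intro h1
    rw [hw] at h1
    have h2 : z * u * z⁻¹ = u := by rw [← huu]; rw [← huu] at h1; exact (eq_inv_of_mul_eq_one_right h1).trans (by rw [inv_inv, huu])
    exact hui.ne (H.inf_eq hL0 hs0 hne0 hu (h2 ▸ conj_mem_cj hu))
  have hmem : w * z ∈ cj u N := huz ▸ conj_mem_cj hzN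
  have hinv : Inv (w * z) := huz ▸ hzi.conj u
  have hwzN : w * z ∈ normalizer (N : Set G) := mul_mem (K_le_M hwN) (le_normalizer hzN)
  have hNne : cj u N ≠ N := by
    intro h1
    apply hwne
    refine H.disj C.mN ?_ hwN
    exact (N.mul_mem_cancel_right hzN).mp (h1 ▸ hmem)
  have hns1 : ¬ Sim (cj u N) N := by
    intro h1
    have h2 : w * z ∈ centralizer (N : Set G) := le_cen_of_sim h1.symm hNne.symm hmem
    have h3 : z ∈ centralizer (N : Set G) := by
      have h4 : z = w⁻¹ * (w * z) := by group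
      rw [h4]
      exact mul_mem (inv_mem hwN) h2
    exact hz1 (H.disj C.mN hzN h3)
  obtain ⟨P1, Q1, C1, hQ1⟩ := hconf N C.mN (cj u N) (H.cl N C.mN u) hns1 (w * z) hmem hinv hwzN
  have hzP1 : z ∈ P1 := by
    obtain ⟨u1, hu1, h1⟩ := C1.a (w * z) hQ1
    have h2 : z * u1 ∈ centralizer (N : Set G) := by
      have h4 : z * u1 = w⁻¹ * (w * z * u1) := by group
      rw [h4]
      exact mul_mem (inv_mem hwN) h1
    have h3 := H.disj C.mN (mul_mem hzN (C1.PL hu1)) h2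
    have h4 : z = u1 := by
      rw [← inv_eq_of_mul_eq_one_left (C1.Pe u1 hu1)]
      exact eq_inv_of_mul_eq_one_left h3
    exact h4 ▸ hu1
  have hPQ : P1 = Q := F.ti N C.mN P1 Q C1.PL C.QN C1.P4 C.Q4 z hzP1 hz hz1
  -- a third element
  obtain ⟨t, ht, ht1, htz⟩ : ∃ t ∈ Q, t ≠ 1 ∧ t ≠ z := by
    by_contra hno'
    push Not at hno'
    have hle : (Q : Set G) ⊆ {1, z} := by
      intro t ht
      by_cases h1 : t = 1
      · exact Or.inl h1
      · exact Or.inr (hno' t ht h1)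
    have h1 := Set.ncard_le_ncard hle (Set.toFinite _)
    have h2 : (Q : Set G).ncard = 4 := by rw [← C.Q4]; rfl
    have h3 : ({1, z} : Set G).ncard ≤ 2 := Set.ncard_insert_le 1 {z} |>.trans (by rw [Set.ncard_singleton])
    omega
  have htw1 : t * (w * z) = (w * z) * t := C1.comm t (hPQ ▸ ht) (w * z) hQ1
  have htz' : t * z = z * t := by
    have hinv' : ∀ a ∈ Q, a⁻¹ = a := fun a ha => inv_eq_of_mul_eq_one_left (C.Qe a ha)
    have := hinv' _ (mul_mem ht hz)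
    rw [mul_inv_rev, hinv' t ht, hinv' z hz] at this
    exact this.symm
  have htw2 : t * w * t⁻¹ = w := by
    rw [mul_inv_eq_iff_eq_mul]
    apply mul_right_cancel (b := z)
    calc t * w * z = t * (w * z) := by group
      _ = w * z * t := htw1
      _ = w * (t * z) := by rw [htz']; group
      _ = w * t * z := by group
  -- `w` commutes with `L0`
  have hcen : w ∈ centralizer (L0 : Set G) := by
    obtain ⟨n1, s1⟩ := hmv t ht ht1
    have htz1 : t * z ≠ 1 := by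
      intro h1
      apply htz
      rw [← hzi.inv]
      exact eq_inv_of_mul_eq_one_left h1
    obtain ⟨n2, s2⟩ := hmv (t * z) (mul_mem ht hz) htz1
    rw [← htw2, hw]
    have h1 : t * (u * (z * u * z⁻¹)) * t⁻¹ = (t * u * t⁻¹) * ((t * z) * u * (t * z)⁻¹) := by group
    rw [h1]
    exact mul_mem (le_cen_of_sim s1 n1 (conj_mem_cj hu)) (le_cen_of_sim s2 n2 (conj_mem_cj hu))
  have hu0 : u ∈ centralizer (L0 : Set G) := by
    have h1 : z * u * z⁻¹ ∈ centralizer (L0 : Set G) := le_cen_of_sim hs0 hne0 (conj_mem_cj hu)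
    have h2 : u = w * (z * u * z⁻¹)⁻¹ := by rw [hw]; group
    rw [h2]
    exact mul_mem hcen (inv_mem h1)
  exact hui.ne (H.disj hL0 hu hu0)

/-- (4), `q = 5`: there is no `Conf` -/
theorem five_false (F : Five Λ) (hconf : HasConf Λ) {L N P Q : Subgroup G} (C : Conf Λ L N P Q) : False := by
  obtain ⟨L0, hL0, hne, hs, htw, -, x0, hB0, hx0⟩ := H.partner hP C.mL
  have hns0 : ¬ Sim N L0 := fun h => C.ns ((htw N C.mN).mp h)
  have hQL0 : ∀ z ∈ Q, z ∈ normalizer (L0 : Set G) := fun z hz =>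
    H.five_tw hP F hconf C hL0 htw.symm hz
  have hQp : IsPGroup 2 Q := IsPGroup.of_card (n := 2) (by rw [C.Q4]; norm_num)
  have hPp : IsPGroup 2 P := IsPGroup.of_card (n := 2) (by rw [C.P4]; norm_num)
  have hPe : ∃ u ∈ P, Inv u := by
    refine NA.exists_inv hPp ?_
    intro h1
    have h4 := C.P4
    rw [h1, Subgroup.card_bot] at h4
    omega
  have hQe : ∃ u ∈ Q, Inv u := by
    refine NA.exists_inv hQp ?_
    intro h1
    have h4 := C.Q4
    rw [h1, Subgroup.card_bot] at h4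
    omega
  obtain ⟨z, hz, hzi⟩ := hQe
  by_cases hev : ∃ k, k ∈ centralizer (L : Set G) ∧ k ∈ centralizer (L0 : Set G) ∧ Inv k
  · obtain ⟨k, hkL, hkL0, hki⟩ := hev
    obtain ⟨T, hQT, hTM, hT, hconj⟩ := exists_syl (normalizer (L : Set G) ⊓ normalizer (L0 : Set G)) Q hQp
      (fun z hz => mem_inf.mpr ⟨C.Q_le hz, hQL0 z hz⟩)
    obtain ⟨m, hm, hmx⟩ := hconj (zpowers x0) (zpowers_le.mpr (mem_inf.mpr ⟨hx0, H.BN hB0⟩))
      (isPGroup_zpowers (H.Binv hB0).sq)
    obtain ⟨x, hx⟩ : ∃ x, x = m * x0 * m⁻¹ := ⟨_, rfl⟩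
    have hxT : x ∈ T := hx ▸ hmx x0 (mem_zpowers x0)
    have hB : B x L0 := by
      have := H.Bcj m x0 L0 hB0
      rwa [mem_normalizer_iff_cj.mp (mem_inf.mp hm).2, ← hx] at this
    obtain ⟨m', hm', hmk⟩ := hconj (zpowers k) (zpowers_le.mpr (mem_inf.mpr ⟨K_le_M hkL, K_le_M hkL0⟩))
      (isPGroup_zpowers hki.sq)
    obtain ⟨c, hc, hcc, hc1, hcT⟩ := exists_central hT
      (N := T ⊓ (centralizer (L : Set G) ⊓ centralizer (L0 : Set G))) inf_le_left
      (fun s hs n hn => by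
        obtain ⟨h1, h2, h3⟩ := mem_inf.mp hn |>.imp_right mem_inf.mp
        exact mem_inf.mpr ⟨mul_mem (mul_mem hs h1) (inv_mem hs), mem_inf.mpr
          ⟨K_conj (mem_inf.mp (hTM hs)).1 h2, K_conj (mem_inf.mp (hTM hs)).2 h3⟩⟩) (by
        intro h
        have h2 : m' * k * m'⁻¹ ∈ T ⊓ (centralizer (L : Set G) ⊓ centralizer (L0 : Set G)) :=
          mem_inf.mpr ⟨hmk k (mem_zpowers k), mem_inf.mpr
            ⟨K_conj (mem_inf.mp hm').1 hkL, K_conj (mem_inf.mp hm').2 hkL0⟩⟩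
        rw [h, mem_bot] at h2
        exact (hki.conj m').ne h2)
    obtain ⟨hcT', hcL, hcL0⟩ := mem_inf.mp hc |>.imp_right mem_inf.mp
    have hci : Inv c := ⟨hcc, hc1⟩
    have hcN : c ∈ normalizer (N : Set G) := H.ctrl hP C.mN (C.QN hz) hzi (hcT z (hQT hz))
    obtain ⟨c', hc', hcc'⟩ := F.self N C.mN Q C.QN C.Q4 c hcN fun u hu => hcT u (hQT hu)
    have hc'1 : c' ≠ 1 := by
      rintro rfl
      rw [mul_one] at hcc'
      exact hns0 (H.n1 hL0 C.mN (H.cmp hB ⟨hcL0, hcT x hxT, hcc, hc1⟩) (mem_cen.mp hcc'))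
    obtain ⟨e, he, hce⟩ := C.a c' hc'
    have hceN := H.five_ba hP F C he hc' hce
    have he1 : e ≠ 1 := by
      rintro rfl
      rw [mul_one] at hce
      exact H.na_nontriv hP C.mL C.mN C.ns (C.QN hc') ⟨C.Qe c' hc', hc'1⟩ hce
    have hei : Inv e := ⟨C.Pe e he, he1⟩
    have heL := C.PL he
    have htN : c * e ∈ centralizer (N : Set G) := by
      have : c * e = (c * c') * (c' * e) := by
        calc c * e = c * (c' * c') * e := by rw [C.Qe c' hc']; group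
          _ = _ := by group
      rw [this]
      exact mul_mem hcc' hceN
    have hce' : e * c = c * e := comm_of_mem heL hcL
    have htL0 : c * e ∈ centralizer (L0 : Set G) :=
      mul_mem hcL0 (le_cen_of_sim hs hne heL)
    -- a conjugate of `x` commuting with `c e`
    obtain ⟨v, hv, hvi, hvx⟩ := H.cinv C.mL (mem_inf.mp (hTM hxT)).1 (H.Binv hB).sq
    obtain ⟨l, hl, hle⟩ := H.cls L C.mL v hv e heL hvi hei
    have hB' : B (l * x * l⁻¹) L0 := by
      have := H.Bcj l x L0 hB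
      rwa [cj_of_sim hs hl] at this
    have hlc : l * c = c * l := comm_of_mem hl hcL
    have hcx : c * (l * x * l⁻¹) = (l * x * l⁻¹) * c := by
      have h1 := hcT x hxT
      have h2 : l⁻¹ * c = c * l⁻¹ := comm_of_mem (inv_mem hl) hcL
      calc c * (l * x * l⁻¹) = (l * c) * x * l⁻¹ := by rw [hlc]; group
        _ = l * (x * c) * l⁻¹ := by rw [← h1]; group
        _ = l * x * (c * l⁻¹) := by group
        _ = l * x * l⁻¹ * c := by rw [← h2]; group
    have hex : e * (l * x * l⁻¹) = (l * x * l⁻¹) * e := by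
      rw [← hle]
      calc l * v * l⁻¹ * (l * x * l⁻¹) = l * (v * x) * l⁻¹ := by group
        _ = l * (x * v) * l⁻¹ := by rw [hvx]
        _ = _ := by group
    have hT0 : IsT L0 (l * x * l⁻¹) (c * e) := by
      refine ⟨htL0, ?_, ?_, ?_⟩
      · calc c * e * (l * x * l⁻¹) = c * (e * (l * x * l⁻¹)) := by group
          _ = (c * (l * x * l⁻¹)) * e := by rw [hex]; group
          _ = l * x * l⁻¹ * (c * e) := by rw [hcx]; group
      · calc c * e * (c * e) = c * (e * c) * e := by group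
          _ = (c * c) * (e * e) := by rw [hce']; group
          _ = 1 := by rw [hcc, hei.sq, one_mul]
      · intro h1
        have h2 : c = e := by
          rw [← hei.inv]
          exact eq_inv_of_mul_eq_one_left h1
        exact he1 (H.disj C.mL heL (h2 ▸ hcL))
    exact hns0 (H.n1 hL0 C.mN (H.cmp hB' hT0) (mem_cen.mp htN))
  · push Not at hev
    -- a Sylow 2-subgroup of `C(L)` containing a four-group of `L0`
    obtain ⟨g, hg⟩ := H.tr L C.mL L0 hL0
    have hP0 : cj g P ≤ L0 := hg ▸ cj_mono C.PL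
    have hP04 : Nat.card (cj g P) = 4 := by rw [card_cj]; exact C.P4
    have hP0p : IsPGroup 2 (cj g P) := hPp.map _
    have hL0L : L0 ≤ centralizer (L : Set G) := fun n hn => le_cen_of_sim hs.symm hne.symm hn
    obtain ⟨S, hPS, hSL, hS, hconj⟩ := exists_syl (centralizer (L : Set G)) (cj g P) hP0p
      (hP0.trans hL0L)
    have hSL0 : S ≤ normalizer (L0 : Set G) := by
      obtain ⟨c, hc, hcc, hc1, hcS⟩ := exists_central hS (le_refl S)
        (fun s hs n hn => mul_mem (mul_mem hs hn) (inv_mem hs)) (by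
          intro h1
          have h2 := card_le_of_le hPS
          rw [hP04, h1, Subgroup.card_bot] at h2
          omega)
      have hci : Inv c := ⟨hcc, hc1⟩
      have hex : ∃ u ∈ cj g P, Inv u := by
        obtain ⟨u, hu, hui⟩ := hPe
        exact ⟨g * u * g⁻¹, conj_mem_cj hu, hui.conj g⟩
      obtain ⟨u, hu, hui⟩ := hex
      have hcn : c ∈ normalizer (L0 : Set G) := H.ctrl hP hL0 (hP0 hu) hui (hcS u (hPS hu))
      obtain ⟨v, hv, hcv⟩ := F.self L0 hL0 (cj g P) hP0 hP04 c hcn fun u hu => hcS u (hPS hu)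
      have hcvL : c * v ∈ centralizer (L : Set G) := mul_mem (hSL hc) (hL0L (hP0 hv))
      have hvv : v * v = 1 := by
        rw [mem_cj] at hv
        have := C.Pe _ hv
        calc v * v = g * ((g⁻¹ * v * g) * (g⁻¹ * v * g)) * g⁻¹ := by group
          _ = 1 := by rw [this]; group
      have hcv1 : c * v = 1 := by
        by_contra h1
        refine hev (c * v) hcvL hcv ⟨?_, h1⟩
        calc c * v * (c * v) = c * (v * c) * v := by group
          _ = (c * c) * (v * v) := by rw [← hcS v (hPS hv)]; group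
          _ = 1 := by rw [hcc, hvv, one_mul]
      have hcL0 : c ∈ L0 := by
        have : c = v := by
          rw [← inv_eq_of_mul_eq_one_left hvv]
          exact eq_inv_of_mul_eq_one_left hcv1
        exact this ▸ hP0 hv
      intro s hs
      exact H.ctrl hP hL0 hcL0 hci (hcS s hs).symm
    have hS8 : Nat.card S ≤ 8 := by
      refine F.eight L0 hL0 S hSL0 hS fun r hr hrc => ?_
      by_contra hr1
      have h1 : S ⊓ centralizer (L0 : Set G) ≠ ⊥ := by
        intro h2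
        apply hr1
        rw [← mem_bot, ← h2]
        exact mem_inf.mpr ⟨hr, hrc⟩
      obtain ⟨w, hw, hwi⟩ := NA.exists_inv (hS.to_le (inf_le_left : S ⊓ centralizer (L0 : Set G) ≤ S)) h1
      exact hev w (hSL (mem_inf.mp hw).1) (mem_inf.mp hw).2 hwi
    -- the group `D = {z a(z)}`
    have hPc : ∀ a ∈ P, ∀ b ∈ P, a * b = b * a := by
      intro a ha b hb
      have hinv : ∀ a ∈ P, a⁻¹ = a := fun a ha => inv_eq_of_mul_eq_one_left (C.Pe a ha)
      have := hinv _ (mul_mem ha hb)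
      rw [mul_inv_rev, hinv a ha, hinv b hb] at this
      exact this.symm
    let D : Subgroup G :=
      { carrier := {d | d ∈ centralizer (L : Set G) ∧ ∃ z ∈ Q, ∃ u ∈ P, d = z * u}
        one_mem' := ⟨one_mem _, 1, one_mem Q, 1, one_mem P, (one_mul 1).symm⟩
        mul_mem' := by
          rintro a b ⟨ha, z, hz, u, hu, rfl⟩ ⟨hb, w, hw, v, hv, rfl⟩
          refine ⟨mul_mem ha hb, z * w, mul_mem hz hw, u * v, mul_mem hu hv, ?_⟩
          calc z * u * (w * v) = z * (u * w) * v := by group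
            _ = z * w * (u * v) := by rw [C.comm u hu w hw]; group
        inv_mem' := by
          rintro a ⟨ha, z, hz, u, hu, rfl⟩
          refine ⟨inv_mem ha, z⁻¹, inv_mem hz, u⁻¹, inv_mem hu, ?_⟩
          rw [mul_inv_rev, C.comm _ (inv_mem hu) _ (inv_mem hz)] }
    have hDm : ∀ d, d ∈ D ↔ d ∈ centralizer (L : Set G) ∧ ∃ z ∈ Q, ∃ u ∈ P, d = z * u := fun d => Iff.rfl
    have hDe : ∀ d ∈ D, d * d = 1 := by
      intro d hd
      obtain ⟨-, z, hz, u, hu, rfl⟩ := (hDm d).mp hd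
      calc z * u * (z * u) = z * (u * z) * u := by group
        _ = (z * z) * (u * u) := by rw [C.comm u hu z hz]; group
        _ = 1 := by rw [C.Qe z hz, C.Pe u hu, one_mul]
    have hDp : IsPGroup 2 D := by
      intro d
      refine ⟨1, Subtype.ext ?_⟩
      change (d : G) ^ 2 ^ 1 = 1
      rw [pow_one, pow_two]
      exact hDe d d.2
    have hD4 : 4 ≤ Nat.card D := by
      choose f hf using C.a
      rw [← C.Q4]
      refine Nat.card_le_card_of_injective (fun z : Q => (⟨z * f z z.2,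
        (hDm _).mpr ⟨(hf z z.2).2, z, z.2, _, (hf z z.2).1, rfl⟩⟩ : D)) ?_
      intro a b hab
      have h1 : (a : G) * f a a.2 = b * f b b.2 := congrArg Subtype.val hab
      have h2 : (b : G)⁻¹ * a = f b b.2 * (f a a.2)⁻¹ := by
        rw [inv_mul_eq_iff_eq_mul, ← mul_assoc, ← h1, mul_inv_cancel_right]
      have h3 : (b : G)⁻¹ * a ∈ Q := mul_mem (inv_mem b.2) a.2
      have h4 : (b : G)⁻¹ * a ∈ P := h2 ▸ mul_mem (hf b b.2).1 (inv_mem (hf a a.2).1)
      by_contra hne'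
      have h5 : (b : G)⁻¹ * a ≠ 1 := fun h6 => hne' (Subtype.ext (inv_mul_eq_one.mp h6)).symm
      exact C.ns (Or.inl (H.ti hP C.mN C.mL (C.QN h3) (C.PL h4) ⟨C.Qe _ h3, h5⟩))
    obtain ⟨k, hk, hkD⟩ := hconj D (fun d hd => ((hDm d).mp hd).1) hDp
    have hDS : cj k D ≤ S := by
      intro x hx
      rw [mem_cj] at hx
      have := hkD _ hx
      have h2 : k * (k⁻¹ * x * k) * k⁻¹ = x := by group
      rwa [h2] at this
    have hmeet : cj k D ⊓ cj g P ≠ ⊥ := by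
      intro h1
      have h2 := card_mul_le hDS hPS h1
      rw [hP04, card_cj] at h2
      omega
    obtain ⟨d', hd', hd'i⟩ := NA.exists_inv (hP0p.to_le (inf_le_right : cj k D ⊓ cj g P ≤ cj g P)) hmeet
    have hd1 := (mem_inf.mp hd').1
    rw [mem_cj] at hd1
    obtain ⟨d, hd⟩ : ∃ d, d = k⁻¹ * d' * k := ⟨_, rfl⟩
    rw [← hd] at hd1
    have hdi : Inv d := by
      have := hd'i.conj k⁻¹
      rwa [inv_inv, ← hd] at this
    have hdL0 : d ∈ cj k⁻¹ L0 := by
      rw [mem_cj, inv_inv, hd]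
      have : k * (k⁻¹ * d' * k) * k⁻¹ = d' := by group
      rw [this]
      exact hP0 (mem_inf.mp hd').2
    have hdN : d ∈ centralizer (N : Set G) := by
      obtain ⟨h1, z, hz, u, hu, h2⟩ := (hDm d).mp hd1
      rw [h2] at h1 ⊢
      exact H.five_ba hP F C hu hz h1
    have hkL : cj k⁻¹ L = L := mem_normalizer_iff_cj.mp (inv_mem (K_le_M hk))
    have htw' := H.tw_cj htw k⁻¹
    rw [hkL] at htw'
    have hL0' := H.cl L0 hL0 k⁻¹
    have h1 : Sim N (cj k⁻¹ L0) := H.star hL0' C.mN fun n hn =>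
      H.ctrl hP hL0' hdL0 hdi (comm_of_mem hn hdN)
    exact C.ns ((htw' N C.mN).mp h1)

/-- **Step (4)**: `NoAdj` -/
theorem noAdj (F : NA.NAF Λ Y) (F5 : (∀ L ∈ Λ, Nat.card L = 60) → Five Λ) : NoAdj Λ := by
  intro L hL N hN z hz hzi hzL
  by_contra hns
  have h60 := (H.exists_conf hP F hL hN hns hz hzi hzL).1
  have hF := F5 fun K hK => (H.card_eq hK hL).trans h60
  obtain ⟨-, P, Q, C, -⟩ := H.exists_conf hP F hL hN hns hz hzi hzL
  exact H.five_false hP hF (fun L hL N hN hns z hz hzi hzL =>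
    (H.exists_conf hP F hL hN hns hz hzi hzL).2) C

end Cfsg.Agent.UGT.Paired.Basic.Hyp
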