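import Cfsg.Agent.UGT.Paired.Link
import Cfsg.Agent.UGT.Paired.NAFive

/-!
# Theorem P: the contradiction

`Hyp.false_of_all`: if all members of `Λ` are `Sim` to each other and lie in a normal simple subgroup `X`, then
`Λ` has only one member.  `Hyp.false_of_uniq`: Theorem P for one member per bad involution.
-/

set_option autoImplicit false

open Subgroup
open Cfsg.Agent.SignalizersComponents.IntrinsicBasic
open Cfsg.Agent.UGT.ThE.Base
open Cfsg.Agent.UGT.Paired.Basic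
open Cfsg.Agent.UGT.Paired.Twin

namespace Cfsg.Agent.UGT.Paired.Basic.Hyp

variable {G : Type*} [Group G] [Finite G] {Λ : Set (Subgroup G)} {B : G → Subgroup G → Prop}
  {Y : Subgroup G → G → Prop}

omit [Finite G] in
theorem eq_of_all (H : Hyp Λ B Y) (hall : ∀ L ∈ Λ, ∀ N ∈ Λ, Sim N L) {X : Subgroup G}
    (hXs : ∀ K : Subgroup G, K ≤ X → (∀ x ∈ X, ∀ k ∈ K, x * k * x⁻¹ ∈ K) → K = ⊥ ∨ K = X)
    (hΛX : ∀ L ∈ Λ, L ≤ X) {L : Subgroup G} (hL : L ∈ Λ) : L = X := by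
  obtain ⟨K, hK⟩ : ∃ K : Subgroup G, K = ⨆ N ∈ Λ, N := ⟨_, rfl⟩
  have hle : ∀ N ∈ Λ, N ≤ K := fun N hN => hK ▸ le_iSup₂ (f := fun (N : Subgroup G) (_ : N ∈ Λ) => N) N hN
  have hKX : K ≤ X := by
    rw [hK]
    exact iSup₂_le hΛX
  have hconj : ∀ g, ∀ k ∈ K, g * k * g⁻¹ ∈ K := by
    intro g k hk
    have h1 : K ≤ cj g⁻¹ K := by
      conv_lhs => rw [hK]
      refine iSup₂_le fun N hN => ?_
      have h2 := cj_mono (g := g⁻¹) (hle _ (H.cl N hN g))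
      rwa [cj_inv_cj] at h2
    have h2 := h1 hk
    rw [mem_cj, inv_inv] at h2
    exact h2
  have hbot : ∀ S : Subgroup G, L ≤ S → S ≠ ⊥ := by
    rintro S hLS rfl
    exact H.ne_bot hL (le_bot_iff.mp hLS)
  have h1 : K = X := (hXs K hKX fun x _ k hk => hconj x k hk).resolve_left (hbot K (hle L hL))
  have h2 : K ≤ normalizer (L : Set G) := by
    rw [hK]
    exact iSup₂_le fun N hN n hn => mem_normalizer_of_sim (hall N hN L hL) hn
  exact (hXs L (hΛX L hL) fun x hx k hk => L_conj (h2 (h1 ▸ hx)) hk).resolve_left (hbot L le_rfl)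

omit [Finite G] in
theorem false_of_all (H : Hyp Λ B Y) (hP : Pair Λ B) (hall : ∀ L ∈ Λ, ∀ N ∈ Λ, Sim N L) {X : Subgroup G}
    (hXs : ∀ K : Subgroup G, K ≤ X → (∀ x ∈ X, ∀ k ∈ K, x * k * x⁻¹ ∈ K) → K = ⊥ ∨ K = X)
    (hΛX : ∀ L ∈ Λ, L ≤ X) : False := by
  obtain ⟨x, L, N, hB, hN, hne, -⟩ := hP
  apply hne
  rw [H.eq_of_all hall hXs hΛX hN, H.eq_of_all hall hXs hΛX (H.Bmem hB)]

/-- Theorem P, one member of `Λ` for every bad involution: no bad involution for `L` normalizes a commuting `N ≠ L` -/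
theorem false_of_uniq (H : Hyp Λ B Y) (hNA : Pair Λ B → NoAdj Λ)
    (hu : ∀ {x : G} {L N : Subgroup G}, B x L → B x N → L = N) {X : Subgroup G}
    (hXs : ∀ K : Subgroup G, K ≤ X → (∀ x ∈ X, ∀ k ∈ K, x * k * x⁻¹ ∈ K) → K = ⊥ ∨ K = X)
    (hΛX : ∀ L ∈ Λ, L ≤ X) {x : G} {L N : Subgroup G} (hB : B x L) (hN : N ∈ Λ) (hne : N ≠ L)
    (hs : Sim N L) (hx : x ∈ normalizer (N : Set G)) : False := by
  have hP : Pair Λ B := ⟨x, L, N, hB, hN, hne, hs, hx⟩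
  exact H.false_of_all hP (H.all_of_uniq hP (hNA hP) hu) hXs hΛX

/-- **Theorem P**, one member of `Λ` for every bad involution -/
theorem false_of_pair (H : Hyp Λ B Y) (F : NA.NAF Λ Y) (F5 : (∀ L ∈ Λ, Nat.card L = 60) → NADefs.Five Λ)
    (hu : ∀ {x : G} {L N : Subgroup G}, B x L → B x N → L = N) {X : Subgroup G}
    (hXs : ∀ K : Subgroup G, K ≤ X → (∀ x ∈ X, ∀ k ∈ K, x * k * x⁻¹ ∈ K) → K = ⊥ ∨ K = X)
    (hΛX : ∀ L ∈ Λ, L ≤ X) {x : G} {L N : Subgroup G} (hB : B x L) (hN : N ∈ Λ) (hne : N ≠ L)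
    (hs : Sim N L) (hx : x ∈ normalizer (N : Set G)) : False :=
  H.false_of_uniq (fun hP => H.noAdj hP F F5) hu hXs hΛX hB hN hne hs hx

end Cfsg.Agent.UGT.Paired.Basic.Hyp
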