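import Cfsg.Agent.UGT.Paired.NA

/-!
# Step (4) of Theorem P, first part, from `ti` and `ctrl` only (no partner)
-/

set_option autoImplicit false

open Subgroup
open Cfsg.Agent.SignalizersComponents.IntrinsicBasic
open Cfsg.Agent.UGT.ThE.Base
open Cfsg.Agent.UGT.Paired.Basic

namespace Cfsg.Agent.UGT.Paired.Basic.Hyp

variable {G : Type*} [Group G] [Finite G] {Λ : Set (Subgroup G)} {B : G → Subgroup G → Prop}
  {Y : Subgroup G → G → Prop}

theorem nontriv_of (H : Hyp Λ B Y)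
    (hctrl : ∀ L ∈ Λ, ∀ u ∈ L, Inv u → ∀ c, c * u = u * c → c ∈ normalizer (L : Set G)) :
    ∀ L ∈ Λ, ∀ N ∈ Λ, ∀ z ∈ N, Inv z → ¬ Sim N L → z ∉ centralizer (L : Set G) := by
  intro L hL N hN z hz hzi hns h
  exact hns (H.star hN hL fun l hl => hctrl N hN z hz hzi l (mem_cen.mp h l hl)).symm

/-- an involution of `N` normalizing `L` is inner on `L`, if `N`, `L` are not `Sim` -/
theorem inner_of (H : Hyp Λ B Y) (F : NA.NAF Λ Y)
    (hctrl : ∀ L ∈ Λ, ∀ u ∈ L, Inv u → ∀ c, c * u = u * c → c ∈ normalizer (L : Set G)) :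
    ∀ L ∈ Λ, ∀ N ∈ Λ, ∀ z ∈ N, Inv z → z ∈ normalizer (L : Set G) → ¬ Sim N L →
      ∃ p ∈ L, Inv p ∧ z * p ∈ centralizer (L : Set G) := by
  intro L hL N hN z hz hzi hzL hns
  have hc : ∀ c, c * z = z * c → c ∈ normalizer (N : Set G) := hctrl N hN z hz hzi
  rcases F.tri L hL z hzL hzi with h | h | ⟨y, hy, hyz, s, hs, hsz, hsy⟩ | h
  · exact absurd h (H.nontriv_of hctrl L hL N hN z hz hzi hns)
  · exact h
  · exfalso
    have h1 : y ∈ centralizer (N : Set G) := H.tor N hN z hz hzi L y hy (hc y hyz) s (hc s hsz) hyz hsz hsy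
    exact hns (H.star hL hN fun n hn => H.H hy n (mem_cen.mp h1 n hn))
  · exfalso
    obtain ⟨u, hu, hui, huN⟩ := h N hN hz fun c _ hcz => hc c hcz
    exact H.nontriv_of hctrl N hN L hL u hu hui (fun h => hns h.symm) huN

end Cfsg.Agent.UGT.Paired.Basic.Hyp
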