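import Cfsg.Agent.UGT.ThE.Base
import Cfsg.Agent.SignalizersComponents.IntrinsicBasic

/-!
# Theorem P (commuting conjugates of bad components): interface

`Λ` is a conjugacy class of simple subgroups `L ≅ L₂(q)`, `q ≥ 5` odd, of the finite group `G`;
`B x L` ("`x` is bad for `L`"): `x` is an involution of `N(L)` of PGL type on `L`;
`Y L y`: `y` generates the full odd torus of `C_L(x)`, for some `x` bad for `L`.
Hypotheses (structure `Hyp`): members `L` of `Λ` with the same bad `x` commute (`one`); if `t` is an involution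
of `C(x) ∩ C(L)` (`IsT L x t`), then `x t` is bad for `L` (`mul`) and the `C(t)`-conjugates of `L` commute (`cmp`);
`C(y) ≤ N(L)` if `Y L y` (`H`, Theorem H).  No core, no rank, no component appears.

`Sim L N`: `L = N` or `[L, N] = 1`.  `Cp L z`: the `C(z)`-conjugates of `L` are equal or commute.
-/

set_option autoImplicit false

open Subgroup
open Cfsg.Agent.SignalizersComponents.IntrinsicBasic
open Cfsg.Agent.UGT.ThE.Base

namespace Cfsg.Agent.UGT.Paired.Basic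

variable {G : Type*} [Group G]

/-- `L` and `N` are equal or commute -/
def Sim (L N : Subgroup G) : Prop := L = N ∨ ∀ l ∈ L, ∀ n ∈ N, l * n = n * l

/-- `u` is an involution -/
structure Inv (u : G) : Prop where
  sq : u * u = 1
  ne : u ≠ 1

/-- the `C(z)`-conjugates of `L` are equal or commute -/
def Cp (L : Subgroup G) (z : G) : Prop := ∀ c, c * z = z * c → Sim L (cj c L)

/-- The hypotheses of Theorem P (without the facts used only in its step (4)). -/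
structure Hyp (Λ : Set (Subgroup G)) (B : G → Subgroup G → Prop) (Y : Subgroup G → G → Prop) : Prop where
  tr : ∀ L ∈ Λ, ∀ N ∈ Λ, ∃ g, cj g L = N
  cl : ∀ L ∈ Λ, ∀ g, cj g L ∈ Λ
  Bcj : ∀ (g x : G) (L : Subgroup G), B x L → B (g * x * g⁻¹) (cj g L)
  Bmem : ∀ {x : G} {L : Subgroup G}, B x L → L ∈ Λ
  Binv : ∀ {x : G} {L : Subgroup G}, B x L → Inv x
  BN : ∀ {x : G} {L : Subgroup G}, B x L → x ∈ normalizer (L : Set G)
  Bout : ∀ {x : G} {L : Subgroup G}, B x L → ∀ l ∈ L, x * l ∉ centralizer (L : Set G)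
  one : ∀ {x : G} {L N : Subgroup G}, B x L → B x N → Sim L N
  mul : ∀ {x t : G} {L : Subgroup G}, B x L → IsT L x t → B (x * t) L
  cmp : ∀ {x t : G} {L : Subgroup G}, B x L → IsT L x t → Cp L t
  H : ∀ {L : Subgroup G} {y : G}, Y L y → ∀ c, c * y = y * c → c ∈ normalizer (L : Set G)
  -- facts on `L₂(q)` and its automorphisms
  simp : ∀ L ∈ Λ, ∀ N : Subgroup G, N ≤ L → (∀ l ∈ L, ∀ n ∈ N, l * n * l⁻¹ ∈ N) → N = ⊥ ∨ N = L
  perf : ∀ L ∈ Λ, ⁅L, L⁆ = L
  even : ∀ L ∈ Λ, ∃ u ∈ L, Inv u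
  cls : ∀ L ∈ Λ, ∀ u ∈ L, ∀ v ∈ L, Inv u → Inv v → ∃ l ∈ L, l * u * l⁻¹ = v
  /-- `Out(L)` is solvable -/
  inn : ∀ L ∈ Λ, ∀ D : Subgroup G, D ≤ normalizer (L : Set G) → ⁅D, D⁆ = D → ∀ d ∈ D, ∃ l ∈ L,
    d * l ∈ centralizer (L : Set G)
  /-- `C_{Aut L}(a)` is solvable for `1 ≠ a ∈ L` -/
  sol : ∀ L ∈ Λ, ∀ a ∈ L, a ≠ 1 → ∀ D : Subgroup G, D ≤ normalizer (L : Set G) → ⁅D, D⁆ = D →
    (∀ d ∈ D, d * a = a * d) → D ≤ centralizer (L : Set G)
  /-- `C_{Aut L}(x)` is solvable for `x` of PGL type -/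
  solx : ∀ {x : G} {L : Subgroup G}, B x L → ∀ D : Subgroup G, D ≤ normalizer (L : Set G) → ⁅D, D⁆ = D →
    (∀ d ∈ D, d * x = x * d) → D ≤ centralizer (L : Set G)
  Ymem : ∀ {L : Subgroup G} {y : G}, Y L y → L ∈ Λ ∧ y ∈ L ∧ y ≠ 1 ∧ Odd (orderOf y)
  /-- the odd tori generate `L` -/
  gen : ∀ L ∈ Λ, ∀ N : Subgroup G, (∀ y, Y L y → y ∈ N) → L ≤ N
  /-- no subgroup of `L` of index `m > 1`, `m` a divisor of the order of the torus -/
  idx : ∀ {L : Subgroup G} {y : G}, Y L y → ∀ S : Subgroup L, S ≠ ⊤ → ¬ S.index ∣ orderOf y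
  /-- automorphisms of odd order have nontrivial fixed points -/
  fixo : ∀ L ∈ Λ, ∀ g ∈ normalizer (L : Set G), Odd (orderOf g) → ∃ c ∈ L, c ≠ 1 ∧ c * g = g * c
  /-- the torus of `C_L(x)` -/
  exy : ∀ {x : G} {L : Subgroup G}, B x L → ∃ y, Y L y ∧ y * x = x * y ∧ ∃ s, IsS L x s ∧ s * y * s⁻¹ = y⁻¹
  /-- the order of the torus is prime to the order of `C_{PGL₂(q)}(z)`, `z` an involution of `L₂(q)` -/
  tor : ∀ L ∈ Λ, ∀ z ∈ L, Inv z → ∀ (N : Subgroup G) (y : G), Y N y → y ∈ normalizer (L : Set G) →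
    ∀ s ∈ normalizer (L : Set G), y * z = z * y → s * z = z * s → s * y * s⁻¹ = y⁻¹ →
    y ∈ centralizer (L : Set G)
  cenx : ∀ {x : G} {L : Subgroup G}, B x L → ∀ e ∈ normalizer (L : Set G), e * e = 1 → e * x = x * e →
    e ∈ centralizer (L : Set G) ∨ e * x ∈ centralizer (L : Set G) ∨
      ∃ s, IsS L x s ∧ (e * s ∈ centralizer (L : Set G) ∨ e * x * s ∈ centralizer (L : Set G))
  conjS : ∀ {x : G} {L : Subgroup G}, B x L → ∀ s, IsS L x s → ∃ l ∈ L, l * (x * s) * l⁻¹ = x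

/-- Conclusion of step (4) (no adjacency): an involution of `N` normalizes `L` only if `N = L` or `[N, L] = 1` -/
def NoAdj (Λ : Set (Subgroup G)) : Prop :=
  ∀ L ∈ Λ, ∀ N ∈ Λ, ∀ z ∈ N, Inv z → z ∈ normalizer (L : Set G) → Sim N L

theorem Sim.symm {L N : Subgroup G} (h : Sim L N) : Sim N L := by
  rcases h with h | h
  · exact Or.inl h.symm
  · exact Or.inr fun n hn l hl => (h l hl n hn).symm

theorem Sim.refl (L : Subgroup G) : Sim L L := Or.inl rfl

theorem sim_cj {L N : Subgroup G} (h : Sim L N) (g : G) : Sim (cj g L) (cj g N) := by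
  rcases h with rfl | h
  · exact Or.inl rfl
  · right
    intro l hl n hn
    rw [mem_cj] at hl hn
    have h1 := h _ hl _ hn
    calc l * n = g * ((g⁻¹ * l * g) * (g⁻¹ * n * g)) * g⁻¹ := by group
      _ = g * ((g⁻¹ * n * g) * (g⁻¹ * l * g)) * g⁻¹ := by rw [h1]
      _ = n * l := by group

theorem sim_of_cj {L N : Subgroup G} {g : G} (h : Sim (cj g L) (cj g N)) : Sim L N := by
  have := sim_cj h g⁻¹
  rwa [cj_inv_cj, cj_inv_cj] at this

theorem Inv.conj {u : G} (h : Inv u) (g : G) : Inv (g * u * g⁻¹) where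
  sq := by
    calc g * u * g⁻¹ * (g * u * g⁻¹) = g * (u * u) * g⁻¹ := by group
      _ = 1 := by rw [h.sq]; group
  ne := by
    intro h1
    apply h.ne
    calc u = g⁻¹ * (g * u * g⁻¹) * g := by group
      _ = 1 := by rw [h1]; group

theorem Inv.inv {u : G} (h : Inv u) : u⁻¹ = u := inv_eq_of_mul_eq_one_left h.sq

theorem Inv.order {u : G} (h : Inv u) : orderOf u = 2 :=
  orderOf_eq_prime (by rw [pow_two]; exact h.sq) h.ne

theorem cp_cj {L : Subgroup G} {z : G} (h : Cp L z) (g : G) : Cp (cj g L) (g * z * g⁻¹) := by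
  intro c hc
  have h1 : (g⁻¹ * c * g) * z = z * (g⁻¹ * c * g) := by
    calc (g⁻¹ * c * g) * z = g⁻¹ * (c * (g * z * g⁻¹)) * g := by group
      _ = g⁻¹ * ((g * z * g⁻¹) * c) * g := by rw [hc]
      _ = _ := by group
  have h2 := sim_cj (h _ h1) g
  rw [← cj_mul] at h2
  have h3 : g * (g⁻¹ * c * g) = c * g := by group
  rwa [h3, cj_mul] at h2

theorem mem_cen {L : Subgroup G} {c : G} : c ∈ centralizer (L : Set G) ↔ ∀ l ∈ L, l * c = c * l :=
  mem_centralizer_iff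

end Cfsg.Agent.UGT.Paired.Basic
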