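import Cfsg.Agent.UGT.Paired.Main

/-!
# Theorem P, END for arbitrary `c`

`Hyp.all`: all members of `Λ` are `Sim` to each other (no condition on the number of members for which `x` is bad).
-/

set_option autoImplicit false

open Subgroup
open Cfsg.Agent.SignalizersComponents.IntrinsicBasic
open Cfsg.Agent.UGT.ThE.Base
open Cfsg.Agent.UGT.Paired.Basic
open Cfsg.Agent.UGT.Paired.Twin

namespace Cfsg.Agent.UGT.Paired.EndC

variable {G : Type*} [Group G]

/-- product of two commuting subgroups -/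
theorem exists_prod [Finite G] {V A : Subgroup G} (hc : ∀ v ∈ V, ∀ a ∈ A, v * a = a * v) (h : V ⊓ A = ⊥) :
    ∃ W : Subgroup G, Nat.card W = Nat.card V * Nat.card A ∧ ∀ w, w ∈ W ↔ ∃ v ∈ V, ∃ a ∈ A, w = v * a := by
  let W : Subgroup G :=
    { carrier := {w | ∃ v ∈ V, ∃ a ∈ A, w = v * a}
      one_mem' := ⟨1, one_mem V, 1, one_mem A, (one_mul 1).symm⟩
      mul_mem' := by
        rintro _ _ ⟨v, hv, a, ha, rfl⟩ ⟨u, hu, b, hb, rfl⟩
        refine ⟨v * u, mul_mem hv hu, a * b, mul_mem ha hb, ?_⟩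
        calc v * a * (u * b) = v * (a * u) * b := by group
          _ = v * u * (a * b) := by rw [← hc u hu a ha]; group
      inv_mem' := by
        rintro _ ⟨v, hv, a, ha, rfl⟩
        refine ⟨v⁻¹, inv_mem hv, a⁻¹, inv_mem ha, ?_⟩
        rw [mul_inv_rev, hc _ (inv_mem hv) _ (inv_mem ha)] }
  refine ⟨W, ?_, fun w => Iff.rfl⟩
  rw [← Nat.card_prod]
  symm
  apply Nat.card_congr
  refine Equiv.ofBijective (fun q : V × A => (⟨q.1 * q.2, q.1, q.1.2, q.2, q.2.2, rfl⟩ : W)) ⟨?_, ?_⟩
  · rintro ⟨a, b⟩ ⟨c, d⟩ heq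
    have h1 : (a : G) * b = c * d := congrArg Subtype.val heq
    have h2 : (c : G)⁻¹ * a = d * (b : G)⁻¹ := by
      rw [inv_mul_eq_iff_eq_mul, ← mul_assoc, ← h1, mul_inv_cancel_right]
    have h3 : (c : G)⁻¹ * a ∈ V ⊓ A :=
      mem_inf.mpr ⟨mul_mem (inv_mem c.2) a.2, h2 ▸ mul_mem d.2 (inv_mem b.2)⟩
    rw [h, mem_bot] at h3
    have h4 : (c : G) = a := inv_mul_eq_one.mp h3
    rw [h3] at h2
    have h5 : (d : G) = b := mul_inv_eq_one.mp h2.symm
    exact Prod.ext (Subtype.ext h4.symm) (Subtype.ext h5.symm)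
  · rintro ⟨w, v, hv, a, ha, rfl⟩
    exact ⟨⟨⟨v, hv⟩, ⟨a, ha⟩⟩, rfl⟩

/-- The members `K' ∈ Ω` come in commuting pairs `{K', K'^x}`. -/
structure Sys (Λ Ω : Set (Subgroup G)) (x : G) : Prop where
  xx : x * x = 1
  mem : ∀ K ∈ Ω, K ∈ Λ
  ne : ∀ K ∈ Ω, K ≠ cj x K
  sim : ∀ K ∈ Ω, ∀ M ∈ Ω, Sim K M
  cjx : ∀ K ∈ Ω, cj x K ∈ Ω
  dis : ∀ K ∈ Ω, ∀ u ∈ K, u ∈ centralizer (K : Set G) → u = 1
  four : ∀ K ∈ Ω, ∃ U : Subgroup G, U ≤ K ∧ Nat.card U = 4 ∧ ∀ u ∈ U, u * u = 1

namespace Sys

variable {Λ Ω : Set (Subgroup G)} {x : G} (S : Sys Λ Ω x)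
include S

theorem xi : x⁻¹ = x := inv_eq_of_mul_eq_one_left S.xx

theorem cjm {K : Subgroup G} {u : G} (hu : u ∈ K) : x * u * x ∈ cj x K := by
  have := conj_mem_cj (g := x) hu
  rwa [S.xi] at this

theorem cm {K : Subgroup G} (hK : K ∈ Ω) {u w : G} (hu : u ∈ K) (hw : w ∈ K) :
    u * (x * w * x) = x * w * x * u :=
  comm_of_sim (S.sim K hK _ (S.cjx K hK)) (S.ne K hK) hu (S.cjm hw)

theorem cj_cj (K : Subgroup G) : cj x (cj x K) = K := by rw [← cj_mul, S.xx, cj_one]

/-- the diagonal four-group in `K × K^x` -/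
theorem diag {K U : Subgroup G} (hK : K ∈ Ω) (hU : U ≤ K) (h4 : Nat.card U = 4) (h2 : ∀ u ∈ U, u * u = 1) :
    ∃ V : Subgroup G, Nat.card V = 4 ∧ (∀ v, v ∈ V ↔ ∃ u ∈ U, v = u * (x * u * x)) ∧
      (∀ v ∈ V, v * v = 1) ∧ (∀ v ∈ V, v * x = x * v) ∧ ∀ n ∈ U, ∀ v ∈ V, n * v = v * n := by
  have hUc : ∀ a ∈ U, ∀ b ∈ U, a * b = b * a := by
    intro a ha b hb
    have hinv : ∀ a ∈ U, a⁻¹ = a := fun a ha => inv_eq_of_mul_eq_one_left (h2 a ha)
    have := hinv _ (mul_mem ha hb)
    rw [mul_inv_rev, hinv a ha, hinv b hb] at this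
    exact this.symm
  have hxx := S.xx
  let δ : U →* G :=
    { toFun := fun u => u * (x * u * x)
      map_one' := by
        rw [Subgroup.coe_one, mul_one, one_mul]
        exact hxx
      map_mul' := fun a b => by
        rw [Subgroup.coe_mul]
        have h1 := S.cm hK (hU b.2) (hU a.2)
        calc (a : G) * b * (x * (a * b) * x) = a * b * (x * a * (x * x) * b * x) := by
              rw [hxx]; group
          _ = a * (b * (x * a * x)) * (x * b * x) := by group
          _ = a * (x * a * x * b) * (x * b * x) := by rw [h1]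
          _ = a * (x * a * x) * (b * (x * b * x)) := by group }
  have hmem : ∀ v, v ∈ δ.range ↔ ∃ u ∈ U, v = u * (x * u * x) := by
    intro v
    constructor
    · rintro ⟨u, rfl⟩
      exact ⟨u, u.2, rfl⟩
    · rintro ⟨u, hu, rfl⟩
      exact ⟨⟨u, hu⟩, rfl⟩
  have hinj : Function.Injective δ := by
    rw [injective_iff_map_eq_one]
    intro u hu
    have h1 : (u : G) * (x * u * x) = 1 := hu
    apply Subtype.ext
    apply S.dis K hK u (hU u.2)
    have h3 : (u : G) = (x * u * x)⁻¹ := eq_inv_of_mul_eq_one_left h1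
    have h4 : (x * (u : G) * x) ∈ centralizer (K : Set G) :=
      le_cen_of_sim (S.sim K hK _ (S.cjx K hK)) (S.ne K hK) (S.cjm (hU u.2))
    rw [h3]
    exact inv_mem h4
  refine ⟨δ.range, ?_, hmem, ?_, ?_, ?_⟩
  · rw [← h4]
    exact (Nat.card_congr (MonoidHom.ofInjective hinj).toEquiv).symm
  · intro v hv
    obtain ⟨u, hu, rfl⟩ := (hmem v).mp hv
    have h1 := S.cm hK (hU hu) (hU hu)
    calc u * (x * u * x) * (u * (x * u * x)) = u * (x * u * x * u) * (x * u * x) := by group
      _ = (u * u) * x * u * (x * x) * u * x := by rw [← h1]; group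
      _ = x * (u * u) * x := by rw [h2 u hu, hxx, one_mul, mul_one, ← h2 u hu]; group
      _ = 1 := by rw [h2 u hu, mul_one, hxx]
  · intro v hv
    obtain ⟨u, hu, rfl⟩ := (hmem v).mp hv
    have h1 := S.cm hK (hU hu) (hU hu)
    calc u * (x * u * x) * x = u * x * u * (x * x) := by group
      _ = (x * x) * u * x * u := by rw [hxx]; group
      _ = x * (x * u * x * u) := by group
      _ = x * (u * (x * u * x)) := by rw [h1]
  · intro n hn v hv
    obtain ⟨u, hu, rfl⟩ := (hmem v).mp hv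
    have h1 := S.cm hK (hU hn) (hU hu)
    calc n * (u * (x * u * x)) = (n * u) * (x * u * x) := by group
      _ = u * (n * (x * u * x)) := by rw [hUc n hn u hu]; group
      _ = u * (x * u * x) * n := by rw [h1]; group

theorem build [Finite G] (R : Finset (Subgroup G)) : (∀ K ∈ R, K ∈ Ω) → (∀ K ∈ R, ∀ M ∈ R, K ≠ cj x M) →
    ∃ A : Subgroup G, Nat.card A = 4 ^ R.card ∧ (∀ a ∈ A, a * a = 1) ∧ (∀ a ∈ A, a * x = x * a) ∧
      (∀ K ∈ Ω, K ∉ R → cj x K ∉ R → ∀ a ∈ A, a ∈ centralizer (K : Set G)) ∧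
      (R.Nonempty → ∃ n, ∃ K ∈ Ω, n ∈ K ∧ Inv n ∧ ∀ a ∈ A, n * a = a * n) := by
  classical
  induction R using Finset.induction_on with
  | empty =>
    intro _ _
    refine ⟨⊥, by simp, ?_, ?_, ?_, fun h => absurd h (by simp)⟩
    · intro a ha
      rw [mem_bot.mp ha, one_mul]
    · intro a ha
      rw [mem_bot.mp ha, one_mul, mul_one]
    · intro K _ _ _ a ha
      rw [mem_bot.mp ha]
      exact one_mem _
  | insert K R hKR ih =>
    intro hR hRp
    have hKΩ : K ∈ Ω := hR K (Finset.mem_insert_self K R)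
    have hxKR : cj x K ∉ R := by
      intro h
      exact hRp _ (Finset.mem_insert_of_mem h) K (Finset.mem_insert_self K R) rfl
    obtain ⟨A, hA4, hA2, hAx, hAc, -⟩ := ih (fun M hM => hR M (Finset.mem_insert_of_mem hM))
      (fun M hM M' hM' => hRp M (Finset.mem_insert_of_mem hM) M' (Finset.mem_insert_of_mem hM'))
    have hAK := hAc K hKΩ hKR hxKR
    obtain ⟨U, hU, hU4, hU2⟩ := S.four K hKΩ
    obtain ⟨V, hV4, hVm, hV2, hVx, hUV⟩ := S.diag hKΩ hU hU4 hU2
    have hVA : ∀ v ∈ V, ∀ a ∈ A, v * a = a * v := by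
      intro v hv a ha
      obtain ⟨u, hu, rfl⟩ := (hVm v).mp hv
      have h1 := comm_of_mem (hU hu) (hAK a ha)
      have h2 := hAx a ha
      calc u * (x * u * x) * a = u * x * u * (x * a) := by group
        _ = u * x * (u * a) * x := by rw [← h2]; group
        _ = u * (x * a) * u * x := by rw [h1]; group
        _ = (u * a) * x * u * x := by rw [← h2]; group
        _ = a * (u * (x * u * x)) := by rw [h1]; group
    have hVA1 : V ⊓ A = ⊥ := by
      rw [eq_bot_iff]
      intro v hv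
      obtain ⟨hv1, hv2⟩ := mem_inf.mp hv
      obtain ⟨u, hu, rfl⟩ := (hVm v).mp hv1
      have h1 := hAK _ hv2
      have h2 : (x * u * x) ∈ centralizer (K : Set G) :=
        le_cen_of_sim (S.sim K hKΩ _ (S.cjx K hKΩ)) (S.ne K hKΩ) (S.cjm (hU hu))
      have h3 : u ∈ centralizer (K : Set G) := by
        have : u = u * (x * u * x) * (x * u * x)⁻¹ := by group
        rw [this]
        exact mul_mem h1 (inv_mem h2)
      have h4 := S.dis K hKΩ u (hU hu) h3
      rw [mem_bot, h4, mul_one, one_mul, S.xx]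
    obtain ⟨W, hW, hWm⟩ := exists_prod hVA hVA1
    have hne : U ≠ ⊥ := by
      intro h
      rw [h, Subgroup.card_bot] at hU4
      omega
    obtain ⟨n, hn, hni⟩ := NA.exists_inv (IsPGroup.of_card (n := 2) (by rw [hU4]; norm_num)) hne
    refine ⟨W, ?_, ?_, ?_, ?_, fun _ => ⟨n, K, hKΩ, hU hn, hni, ?_⟩⟩
    · rw [hW, hV4, hA4, Finset.card_insert_of_notMem hKR, pow_succ]
      ring
    · intro w hw
      obtain ⟨v, hv, a, ha, rfl⟩ := (hWm w).mp hw
      calc v * a * (v * a) = v * (a * v) * a := by group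
        _ = (v * v) * (a * a) := by rw [← hVA v hv a ha]; group
        _ = 1 := by rw [hV2 v hv, hA2 a ha, one_mul]
    · intro w hw
      obtain ⟨v, hv, a, ha, rfl⟩ := (hWm w).mp hw
      calc v * a * x = v * (a * x) := by group
        _ = (v * x) * a := by rw [hAx a ha]; group
        _ = x * (v * a) := by rw [hVx v hv]; group
    · intro M hM hMR hxMR w hw
      obtain ⟨v, hv, a, ha, rfl⟩ := (hWm w).mp hw
      rw [Finset.mem_insert, not_or] at hMR hxMR
      refine mul_mem ?_ (hAc M hM hMR.2 hxMR.2 a ha)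
      obtain ⟨u, hu, rfl⟩ := (hVm v).mp hv
      refine mul_mem (le_cen_of_sim (S.sim M hM K hKΩ) hMR.1 (hU hu))
        (le_cen_of_sim (S.sim M hM _ (S.cjx K hKΩ)) ?_ (S.cjm (hU hu)))
      intro h
      apply hxMR.1
      rw [h, S.cj_cj]
    · intro w hw
      obtain ⟨v, hv, a, ha, rfl⟩ := (hWm w).mp hw
      calc n * (v * a) = (n * v) * a := by group
        _ = v * (n * a) := by rw [hUV n hn v hv]; group
        _ = v * a * n := by rw [comm_of_mem (hU hn) (hAK a ha)]; group

end Sys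

end Cfsg.Agent.UGT.Paired.EndC

namespace Cfsg.Agent.UGT.Paired.Basic.Hyp

open Cfsg.Agent.UGT.Paired.EndC

variable {G : Type*} [Group G] [Finite G] {Λ : Set (Subgroup G)} {B : G → Subgroup G → Prop}
  {Y : Subgroup G → G → Prop}

/-- the orbit of `L` under a subgroup of `C(x)` -/
theorem orb (H : Hyp Λ B Y) {x : G} {L A : Subgroup G} (hB : B x L) (hA : ∀ a ∈ A, a * x = x * a) :
    Nat.card A ≤ Nat.card (A ⊓ normalizer (L : Set G) : Subgroup G) * {K | B x K}.ncard := by
  let act : MulAction A (Subgroup G) :=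
    { smul := fun l K => cj (l : G) K
      one_smul := fun K => cj_one K
      mul_smul := fun a b K => cj_mul (a : G) (b : G) K }
  have h1 : (MulAction.stabilizer A L).index = (MulAction.orbit A L).ncard := MulAction.index_stabilizer A L
  have h2 : MulAction.orbit A L ⊆ {K | B x K} := by
    rintro _ ⟨a, rfl⟩
    change B x (cj (a : G) L)
    have h3 := H.Bcj a x L hB
    rwa [hA a a.2, mul_inv_cancel_right] at h3
  have h3 : Nat.card (MulAction.stabilizer A L) ≤ Nat.card (A ⊓ normalizer (L : Set G) : Subgroup G) := by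
    refine Nat.card_le_card_of_injective (fun a : MulAction.stabilizer A L =>
      (⟨((a : A) : G), mem_inf.mpr ⟨(a : A).2, mem_normalizer_iff_cj.mpr a.2⟩⟩ :
        (A ⊓ normalizer (L : Set G) : Subgroup G))) ?_
    intro a b hab
    have h4 : ((a : A) : G) = ((b : A) : G) :=
      congrArg (fun w : (A ⊓ normalizer (L : Set G) : Subgroup G) => (w : G)) hab
    exact Subtype.ext (Subtype.ext h4)
  rw [← Subgroup.card_mul_index (MulAction.stabilizer A L), h1]
  exact Nat.mul_le_mul h3 (Set.ncard_le_ncard h2 (Set.toFinite _))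

/-- **Theorem P**: all members of `Λ` commute pairwise -/
theorem all (H : Hyp Λ B Y) (hP : Pair Λ B) (hNA : NoAdj Λ)
    (hcomm : ∀ {x : G} {L : Subgroup G}, B x L → ∀ s s', IsS L x s → IsS L x s' → s * s' = s' * s → s = s')
    (hfour : ∀ L ∈ Λ, ∃ U : Subgroup G, U ≤ L ∧ Nat.card U = 4 ∧ ∀ u ∈ U, u * u = 1) :
    ∀ L ∈ Λ, ∀ N ∈ Λ, Sim N L := by
  classical
  intro L hL N hN
  by_contra hns
  obtain ⟨x0, L0, N0, hB0, -⟩ := id hP
  obtain ⟨g, rfl⟩ := H.tr L0 (H.Bmem hB0) L hL
  have hB := H.Bcj g x0 L0 hB0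
  obtain ⟨z', hz', hzi'⟩ := H.even N hN
  obtain ⟨z, M, hM, hz, hzi, hnsM, hsx, hne⟩ := H.link hP hNA hB hN hz' hzi' hns
  obtain ⟨x, hx⟩ : ∃ x, x = g * x0 * g⁻¹ := ⟨_, rfl⟩
  obtain ⟨L, hLd⟩ : ∃ L, L = cj g L0 := ⟨_, rfl⟩
  rw [← hx, ← hLd] at hB
  rw [← hx] at hsx hne
  rw [← hLd] at hnsM hL
  have hxi := H.Binv hB
  have hxx := hxi.sq
  -- the involution `e`
  have hzx : x * z * x ∈ cj x M := by
    have := conj_mem_cj (g := x) hz
    rwa [hxi.inv] at this
  have hc : z * (x * z * x) = x * z * x * z := comm_of_sim hsx hne hz hzx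
  obtain ⟨e, hedef⟩ : ∃ e, e = x * z * x * z := ⟨_, rfl⟩
  rw [← hedef] at hc
  have hex : e * x = x * e := by
    have h1 : z * x * z * x = e := by rw [← hc]; group
    calc e * x = x * z * x * z * x := by rw [hedef]
      _ = x * (z * x * z * x) := by group
      _ = x * e := by rw [h1]
  have hez : z * e = e * z := by
    have h1 : z * x * z * x = e := by rw [← hc]; group
    calc z * e = z * (z * x * z * x) := by rw [h1]
      _ = (z * z) * x * z * x := by group
      _ = x * z * x * (z * z) := by rw [hzi.sq, one_mul, mul_one]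
      _ = e * z := by rw [hedef]; group
  have hzxz : z * x * z⁻¹ = x * e := by
    rw [hzi.inv]
    calc z * x * z = (x * x) * z * x * z := by rw [hxx, one_mul]
      _ = x * e := by rw [hedef]; group
  have hzxz' : z * (x * e) * z⁻¹ = x := by
    rw [← hzxz, hzi.inv]
    calc z * (z * x * z) * z = (z * z) * x * (z * z) := by group
      _ = x := by rw [hzi.sq, one_mul, mul_one]
  have hnsK : ∀ K, B x K → ¬ Sim M K := fun K hK h => hnsM ((H.tw_of_one hB hK M hM).mpr h)
  have hzz : ∀ K : Subgroup G, cj z (cj z K) = K := fun K => by rw [← cj_mul, hzi.sq, cj_one]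
  have hxxK : ∀ K : Subgroup G, cj x (cj x K) = K := fun K => by rw [← cj_mul, hxx, cj_one]
  -- `Ω`
  obtain ⟨Ω, hΩ⟩ : ∃ Ω : Set (Subgroup G), Ω = {K | B (x * e) K} := ⟨_, rfl⟩
  have hmem : ∀ K, K ∈ Ω ↔ B (x * e) K := fun K => by rw [hΩ]; exact Iff.rfl
  have hback : ∀ K ∈ Ω, B x (cj z K) := by
    intro K hK
    have := H.Bcj z _ K ((hmem K).mp hK)
    rwa [hzxz'] at this
  have hnsΩ : ∀ K ∈ Ω, ∀ K0, B x K0 → ¬ Sim K K0 := by
    intro K hK K0 hK0 h
    have hb := hback K hK
    have h1 : Sim K (cj z K) := (H.tw_of_one hb hK0 K (H.Bmem ((hmem K).mp hK))).mpr h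
    apply hnsK _ hb
    apply H.sim_of_conj hP hNA (H.Bmem hb) hM hz hzi
    rw [hzz]
    exact h1.symm
  have hxe : ∀ K ∈ Ω, cj x K = cj e K := by
    intro K hK
    have h1 := mem_normalizer_iff_cj.mp (H.BN ((hmem K).mp hK))
    rw [cj_mul] at h1
    rw [← h1, hxxK, h1]
  have hneΩ : ∀ K ∈ Ω, K ≠ cj x K := by
    intro K hK h
    have hb := hback K hK
    apply H.not_norm hP hNA hb hM hz hzi (hnsK _ hb) hsx hne
    rw [← hedef, mem_normalizer_iff_cj, ← cj_mul, ← hez, cj_mul, ← hxe K hK, ← h]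
  have S : Sys Λ Ω x :=
    { xx := hxx
      mem := fun K hK => H.Bmem ((hmem K).mp hK)
      ne := hneΩ
      sim := fun K hK K' hK' => H.one ((hmem K).mp hK) ((hmem K').mp hK')
      cjx := by
        intro K hK
        rw [hxe K hK, hmem]
        have h1 := H.Bcj e _ K ((hmem K).mp hK)
        have h2 : e * (x * e) * e⁻¹ = x * e := by
          rw [mul_inv_eq_iff_eq_mul, ← mul_assoc, hex]
        rwa [h2] at h1
      dis := fun K hK u hu hc => H.disj (H.Bmem ((hmem K).mp hK)) hu hc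
      four := fun K hK => hfour K (H.Bmem ((hmem K).mp hK)) }
  have hno : ∀ K ∈ Ω, ∀ n ∈ K, Inv n → ∀ K0, B x K0 → x * n * x * n ∉ normalizer (K0 : Set G) := by
    intro K hK n hn hni K0 hK0
    exact H.not_norm hP hNA hK0 (S.mem K hK) hn hni (hnsΩ K hK K0 hK0) (S.sim K hK _ (S.cjx K hK))
      (S.ne K hK)
  have hcard : Ω.ncard = {K | B x K}.ncard := by
    have h1 : Ω = cj z '' {K | B x K} := by
      ext K
      constructor
      · intro hK
        exact ⟨cj z K, hback K hK, hzz K⟩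
      · rintro ⟨K, hK, rfl⟩
        rw [hmem]
        have := H.Bcj z x K hK
        rwa [hzxz] at this
    rw [h1, Set.ncard_image_of_injective _ (cj_injective z)]
  have hLΩ : cj z L ∈ Ω := by
    rw [hmem]
    have := H.Bcj z x L hB
    rwa [hzxz] at this
  -- `4 ≤ c`
  have h4c : 4 ≤ {K | B x K}.ncard := by
    obtain ⟨U, hU, hU4, hU2⟩ := S.four _ hLΩ
    obtain ⟨V, hV4, hVm, -, hVx, -⟩ := S.diag hLΩ hU hU4 hU2
    have h1 := H.orb hB hVx
    have h2 : V ⊓ normalizer (L : Set G) = ⊥ := by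
      rw [eq_bot_iff]
      intro v hv
      obtain ⟨hv1, hv2⟩ := mem_inf.mp hv
      obtain ⟨u, hu, rfl⟩ := (hVm v).mp hv1
      by_cases hu1 : u = 1
      · rw [hu1, mul_one, one_mul, hxx]; exact one_mem _
      · exfalso
        apply hno _ hLΩ u (hU hu) ⟨hU2 u hu, hu1⟩ L hB
        rwa [S.cm hLΩ (hU hu) (hU hu)] at hv2
    rw [h2, Subgroup.card_bot, one_mul, hV4] at h1
    exact h1
  -- a maximal set of representatives of the pairs `{K, K^x}`
  let Ωf : Finset (Subgroup G) := Ω.toFinite.toFinset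
  have hΩf : ∀ K, K ∈ Ωf ↔ K ∈ Ω := fun K => Set.Finite.mem_toFinset _
  obtain ⟨R, ⟨hRΩ, hRp⟩, hmax⟩ := Set.exists_max_image
    {R : Finset (Subgroup G) | R ⊆ Ωf ∧ ∀ K ∈ R, ∀ M ∈ R, K ≠ cj x M} Finset.card (Set.toFinite _)
    ⟨∅, by simp⟩
  have hcov : ∀ K ∈ Ωf, K ∈ R ∪ R.image (cj x) := by
    intro K hK
    rw [Finset.mem_union, Finset.mem_image]
    by_contra hno'
    push Not at hno'
    obtain ⟨h1, h2⟩ := hno'
    have h3 := hmax (insert K R) (by
      refine ⟨Finset.insert_subset hK hRΩ, ?_⟩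
      intro K1 hK1 K2 hK2
      rcases Finset.mem_insert.mp hK1 with h4 | h4 <;> rcases Finset.mem_insert.mp hK2 with h5 | h5
      · rw [h4, h5]
        exact hneΩ _ ((hΩf _).mp hK)
      · rw [h4]
        exact fun h => h2 K2 h5 h.symm
      · intro h
        exact h2 K1 h4 (by rw [h, hxxK, h5])
      · exact hRp K1 h4 K2 h5)
    rw [Finset.card_insert_of_notMem h1] at h3
    omega
  have hc2 : Ω.ncard ≤ 2 * R.card := by
    have h1 : Ω.ncard = Ωf.card := Set.ncard_eq_toFinset_card Ω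
    rw [h1]
    calc Ωf.card ≤ (R ∪ R.image (cj x)).card := Finset.card_le_card hcov
      _ ≤ R.card + (R.image (cj x)).card := Finset.card_union_le _ _
      _ ≤ R.card + R.card := Nat.add_le_add_left Finset.card_image_le _
      _ = 2 * R.card := by ring
  obtain ⟨A, hA4, hA2, hAx, -, hAn⟩ := S.build R (fun K hK => (hΩf K).mp (hRΩ hK)) hRp
  have hRne : R.Nonempty := by
    rw [← Finset.card_pos]
    omega
  obtain ⟨n, K1, hK1, hnK1, hni, hnA⟩ := hAn hRne
  -- the stabilizer of `L` in `A` has order at most two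
  have hst : Nat.card (A ⊓ normalizer (L : Set G) : Subgroup G) ≤ 2 := by
    have hact : ∀ w ∈ A, w ≠ 1 → w ∈ normalizer (L : Set G) →
        ∃ s, IsS L x s ∧ w * s ∈ centralizer (L : Set G) := by
      intro w hw hw1 hwn
      have hwx := hAx w hw
      have hww := hA2 w hw
      have hfin : ¬ IsT L x w := fun h =>
        hnsΩ K1 hK1 L hB (H.sim_of_fine hP hNA hB h (S.mem K1 hK1) hnK1 hni (hnA w hw))
      have hbad : ¬ B w L := fun h =>
        hnsΩ K1 hK1 L hB (H.sim_of_bad hP hNA h (S.mem K1 hK1) hnK1 hni (hnA w hw))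
      rcases H.cenx hB w hwn hww hwx with h | h | ⟨s, hs, h | h⟩
      · exact absurd ⟨h, hwx, hww, hw1⟩ hfin
      · exfalso
        by_cases h1 : w * x = 1
        · have h2 : w = x := by rw [← hxi.inv]; exact eq_inv_of_mul_eq_one_left h1
          exact hbad (h2 ▸ hB)
        · have h3 : IsT L x (w * x) := ⟨h, by rw [hwx, mul_assoc, hwx], by
            calc w * x * (w * x) = w * (x * w) * x := by group
              _ = (w * w) * (x * x) := by rw [← hwx]; group
              _ = 1 := by rw [hww, hxx, mul_one], h1⟩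
          have h4 := H.mul hB h3
          have h5 : x * (w * x) = w := by rw [hwx, ← mul_assoc, hxx, one_mul]
          exact hbad (h5 ▸ h4)
      · exact ⟨s, hs, h⟩
      · exfalso
        have hxs := H.xs_bad hB hs
        obtain ⟨t, ht⟩ : ∃ t, t = w * x * s := ⟨_, rfl⟩
        rw [← ht] at h
        have hts : s * t = t * s := comm_of_mem hs.mem h
        have h3 : t * x = x * t := by
          rw [ht]
          calc w * x * s * x = w * x * (s * x) := by group
            _ = w * x * (x * s) := by rw [hs.comm]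
            _ = (w * x) * x * s := by group
            _ = (x * w) * x * s := by rw [hwx]
            _ = x * (w * x * s) := by group
        have het : w = x * s * t := by
          have h2 : w = t * s * x := by
            rw [ht, mul_assoc (w * x), hs.sq, mul_one, mul_assoc, hxx, mul_one]
          calc w = t * s * x := h2
            _ = t * (x * s) := by rw [mul_assoc, hs.comm]
            _ = (t * x) * s := by group
            _ = x * (t * s) := by rw [h3]; group
            _ = x * s * t := by rw [← hts]; group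
        have htx : t * (x * s) = (x * s) * t := by
          calc t * (x * s) = (t * x) * s := by group
            _ = x * (t * s) := by rw [h3]; group
            _ = x * s * t := by rw [← hts]; group
        have hxss : x * s * (x * s) = 1 := by
          calc x * s * (x * s) = x * (s * x) * s := by group
            _ = (x * x) * (s * s) := by rw [hs.comm]; group
            _ = 1 := by rw [hxx, hs.sq, mul_one]
        have htt : t * t = 1 := by
          rw [het] at hww
          calc t * t = (x * s * (x * s)) * t * t := by rw [hxss, one_mul]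
            _ = (x * s) * ((x * s) * t) * t := by group
            _ = (x * s) * (t * (x * s)) * t := by rw [← htx]
            _ = x * s * t * (x * s * t) := by group
            _ = 1 := hww
        by_cases h1 : t = 1
        · rw [h1, mul_one] at het
          exact hbad (het ▸ hxs)
        · apply hbad
          rw [het]
          exact H.mul hxs ⟨h, htx, htt, h1⟩
    -- two nontrivial elements of the stabilizer are equal
    have huniq : ∀ w1 ∈ A, w1 ≠ 1 → w1 ∈ normalizer (L : Set G) → ∀ w2 ∈ A, w2 ≠ 1 →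
        w2 ∈ normalizer (L : Set G) → w1 = w2 := by
      intro w1 hw1 hw11 hw1n w2 hw2 hw21 hw2n
      by_contra hne12
      obtain ⟨s1, hs1, h1⟩ := hact w1 hw1 hw11 hw1n
      obtain ⟨s2, hs2, h2⟩ := hact w2 hw2 hw21 hw2n
      have hw12 : w1 * w2 = w2 * w1 := by
        have hinv : ∀ a ∈ A, a⁻¹ = a := fun a ha => inv_eq_of_mul_eq_one_left (hA2 a ha)
        have := hinv _ (mul_mem hw1 hw2)
        rw [mul_inv_rev, hinv w1 hw1, hinv w2 hw2] at this
        exact this.symm
      have c1 : s1 * w1 = w1 * s1 := by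
        have h3 := comm_of_mem hs1.mem h1
        exact mul_right_cancel (b := s1) (by rw [← h3]; group)
      have c2 : s2 * w2 = w2 * s2 := by
        have h3 := comm_of_mem hs2.mem h2
        exact mul_right_cancel (b := s2) (by rw [← h3]; group)
      have c12 : s2 * (w1 * s1) = w1 * s1 * s2 := comm_of_mem hs2.mem h1
      have c21 : s1 * (w2 * s2) = w2 * s2 * s1 := comm_of_mem hs1.mem h2
      have hi1 : s1⁻¹ = s1 := inv_eq_of_mul_eq_one_left hs1.sq
      have hi2 : s2⁻¹ = s2 := inv_eq_of_mul_eq_one_left hs2.sq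
      have hk : (s1 * s2) * (s2 * s1)⁻¹ ∈ centralizer (L : Set G) := by
        have h5 : (w1 * s1) * (w2 * s2) = w1 * w2 * (s2 * s1) := by
          calc (w1 * s1) * (w2 * s2) = w1 * (s1 * (w2 * s2)) := by group
            _ = w1 * (w2 * s2 * s1) := by rw [c21]
            _ = w1 * w2 * (s2 * s1) := by group
        have h6 : (w2 * s2) * (w1 * s1) = w2 * w1 * (s1 * s2) := by
          calc (w2 * s2) * (w1 * s1) = w2 * (s2 * (w1 * s1)) := by group
            _ = w2 * (w1 * s1 * s2) := by rw [c12]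
            _ = w2 * w1 * (s1 * s2) := by group
        have h7 : ((w1 * s1) * (w2 * s2))⁻¹ * ((w2 * s2) * (w1 * s1)) = (s2 * s1)⁻¹ * (s1 * s2) := by
          rw [h5, h6, ← hw12]; group
        have h8 : (s2 * s1)⁻¹ * (s1 * s2) ∈ centralizer (L : Set G) := by
          rw [← h7]
          exact mul_mem (inv_mem (mul_mem h1 h2)) (mul_mem h2 h1)
        have h9 := H.disj hL (mul_mem (inv_mem (mul_mem hs2.mem hs1.mem)) (mul_mem hs1.mem hs2.mem)) h8
        have h10 : s2 * s1 = s1 * s2 := inv_mul_eq_one.mp h9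
        rw [h10, mul_inv_cancel]
        exact one_mem _
      have h11 : s1 * s2 = s2 * s1 := by
        have := H.disj hL (mul_mem (mul_mem hs1.mem hs2.mem) (inv_mem (mul_mem hs2.mem hs1.mem))) hk
        exact mul_inv_eq_one.mp this
      have h12 := hcomm hB s1 s2 hs1 hs2 h11
      subst h12
      -- `w1 w2` centralizes `L`
      have h13 : w1 * w2 ∈ centralizer (L : Set G) := by
        have h14 : w1 * w2 = (w1 * s1) * (w2 * s1) := by
          calc w1 * w2 = w1 * (s1 * s1) * w2 := by rw [hs1.sq, mul_one]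
            _ = w1 * s1 * (s1 * w2) := by group
            _ = (w1 * s1) * (w2 * s1) := by rw [c2]
        rw [h14]
        exact mul_mem h1 h2
      have h15 : w1 * w2 ≠ 1 := by
        intro h
        apply hne12
        rw [← inv_eq_of_mul_eq_one_left (hA2 w2 hw2)]
        exact eq_inv_of_mul_eq_one_left h
      have hw : w1 * w2 ∈ A := mul_mem hw1 hw2
      exact hnsΩ K1 hK1 L hB (H.sim_of_fine hP hNA hB ⟨h13, hAx _ hw, hA2 _ hw, h15⟩
        (S.mem K1 hK1) hnK1 hni (hnA _ hw))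
    by_cases hex1 : ∃ w ∈ A, w ≠ 1 ∧ w ∈ normalizer (L : Set G)
    · obtain ⟨w, hw, hw1, hwn⟩ := hex1
      have h1 : ((A ⊓ normalizer (L : Set G) : Subgroup G) : Set G) ⊆ {1, w} := by
        intro v hv
        obtain ⟨hv1, hv2⟩ := mem_inf.mp hv
        by_cases hv3 : v = 1
        · exact Or.inl hv3
        · exact Or.inr (huniq v hv1 hv3 hv2 w hw hw1 hwn)
      have h2 := Set.ncard_le_ncard h1 (Set.toFinite _)
      have h3 : ({1, w} : Set G).ncard ≤ 2 :=
        (Set.ncard_insert_le 1 {w}).trans (by rw [Set.ncard_singleton])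
      exact h2.trans h3
    · push Not at hex1
      have h1 : A ⊓ normalizer (L : Set G) = ⊥ := by
        rw [eq_bot_iff]
        intro v hv
        obtain ⟨hv1, hv2⟩ := mem_inf.mp hv
        by_contra hv3
        exact hex1 v hv1 (fun h => hv3 (mem_bot.mpr h)) hv2
      rw [h1, Subgroup.card_bot]
      omega
  have hfinal := H.orb hB hAx
  rw [hA4] at hfinal
  have h5 : 4 ^ R.card ≤ 2 * (2 * R.card) := by
    calc 4 ^ R.card ≤ _ := hfinal
      _ ≤ 2 * (2 * R.card) := Nat.mul_le_mul hst (hcard ▸ hc2)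
  have h6 : 2 ≤ R.card := by omega
  have h7 : ∀ r : ℕ, 2 ≤ r → 4 * r < 4 ^ r := by
    intro r hr
    induction r, hr using Nat.le_induction with
    | base => norm_num
    | succ r hr ih => rw [pow_succ]; omega
  have := h7 _ h6
  omega

/-- **Theorem P** -/
theorem false_of_pair' (H : Hyp Λ B Y) (F : NA.NAF Λ Y) (F5 : (∀ L ∈ Λ, Nat.card L = 60) → NADefs.Five Λ)
    (hcomm : ∀ {x : G} {L : Subgroup G}, B x L → ∀ s s', IsS L x s → IsS L x s' → s * s' = s' * s → s = s')
    (hfour : ∀ L ∈ Λ, ∃ U : Subgroup G, U ≤ L ∧ Nat.card U = 4 ∧ ∀ u ∈ U, u * u = 1) {X : Subgroup G}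
    (hXs : ∀ K : Subgroup G, K ≤ X → (∀ x ∈ X, ∀ k ∈ K, x * k * x⁻¹ ∈ K) → K = ⊥ ∨ K = X)
    (hΛX : ∀ L ∈ Λ, L ≤ X) {x : G} {L N : Subgroup G} (hB : B x L) (hN : N ∈ Λ) (hne : N ≠ L)
    (hs : Sim N L) (hx : x ∈ normalizer (N : Set G)) : False := by
  have hP : Pair Λ B := ⟨x, L, N, hB, hN, hne, hs, hx⟩
  exact H.false_of_all hP (H.all hP (H.noAdj hP F F5) hcomm hfour) hXs hΛX

end Cfsg.Agent.UGT.Paired.Basic.Hyp
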