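import Cfsg.Agent.UGT.Res.FldFacts
import Cfsg.Agent.UGT.Res.FldCens
import Cfsg.Agent.UGT.Res.L2Fact
import Cfsg.Agent.UGT.Res.PGLFacts
import Cfsg.Agent.UGT.LTF.KF2
import Cfsg.Agent.UGT.TT.PGLSolv

/-!
# Facts on `PSL(2,F)` for Theorem P (full torus form)

* `exists_fix`: an automorphism of odd order fixes a nontrivial element.
* `cyclic`: odd groups of fixed points of an automorphism of PGL type are cyclic.
* `eq_top_of_index`: no proper subgroup has index dividing the order of such a group.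
* `no_inv`: no involution of `L` centralizes an element whose order is a prime divisor of the order of the torus.
* `perfect_inn`, `sol`: perfect groups of automorphisms are inner, those fixing `a ≠ 1` are trivial.
-/

set_option autoImplicit false

namespace Cfsg.Agent.UGT.Paired.KF

open Cfsg.Agent.GH.L2Aut Cfsg.Agent.Lib.SL2Mat Cfsg.Agent.Lib.AutSL2 Cfsg.Agent.OddHalf
open Cfsg.Agent.UGT.Res

variable {F : Type*} [Field F] [Finite F] {L : Type*} [Group L] (R : Cfsg.Agent.GH.L2Aut.Rep F L)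

include R

/-- automorphisms of odd order are inner times a standard field automorphism -/
theorem exists_inn_fa {β : MulAut L} (hβ : Odd (orderOf β)) :
    ∃ l : L, β = MulAut.conj l * R.fa (R.fld β) := by
  obtain ⟨g, hg⟩ := R.exists_eq β
  have h1 : R.o1 (R.gl g) = 1 := by
    have h2 := L2Fact.o1_of_odd R hβ
    rw [hg, map_mul, R.o1_fa, mul_one] at h2
    exact h2
  obtain ⟨l, hl⟩ := R.mem_inn_iff.2 ⟨R.fld_gl g, h1⟩
  exact ⟨l, by rw [hl]; exact hg⟩

theorem fa_J (σ : F ≃+* F) : R.fa σ (R.π FldGen.J) = R.π FldGen.J := by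
  rw [R.fa_apply, FldGen.J, FldGen.fieldAut_mk]
  congr 1
  apply ext_ent <;> simp

/-- **an automorphism of odd order fixes a nontrivial element** -/
theorem exists_fix {β : MulAut L} (hβ : Odd (orderOf β)) : ∃ t, t ≠ 1 ∧ β t = t := by
  by_contra hcon
  push Not at hcon
  have := R.finite
  have hinj : Function.Injective (fun n : L => n⁻¹ * β n) := by
    intro n m h
    have h0 : n⁻¹ * β n = m⁻¹ * β m := h
    have h1 : β (m * n⁻¹) = m * n⁻¹ := by
      have h2 : β n = n * m⁻¹ * β m := by rw [mul_assoc, ← h0, mul_inv_cancel_left]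
      have h3 : β m = m * n⁻¹ * β n := by rw [h2]; group
      rw [map_mul, map_inv]
      nth_rewrite 1 [h3]
      rw [mul_inv_cancel_right]
    by_contra hne
    exact hcon (m * n⁻¹) (fun h2 => hne (mul_inv_eq_one.1 h2).symm) h1
  obtain ⟨l, hl⟩ := exists_inn_fa R hβ
  obtain ⟨n, hn⟩ := (Finite.surjective_of_injective hinj) l⁻¹
  have hn' : n⁻¹ * β n = l⁻¹ := hn
  have hβn : β n = n * l⁻¹ := by rw [← hn', mul_inv_cancel_left]
  have hJ : β (n * R.π FldGen.J * n⁻¹) = n * R.π FldGen.J * n⁻¹ := by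
    have h1 : β (R.π FldGen.J) = l * R.π FldGen.J * l⁻¹ := by
      nth_rewrite 1 [hl]
      rw [MulAut.mul_apply, fa_J, MulAut.conj_apply]
    rw [map_mul, map_mul, map_inv, h1, hβn]
    group
  refine hcon _ (fun h => ?_) hJ
  apply FldCens.πJ_ne R
  have h2 : R.π FldGen.J = n⁻¹ * (n * R.π FldGen.J * n⁻¹) * n := by group
  rw [h2, h]
  group

/-- odd groups of fixed points of an automorphism of PGL type are cyclic -/
theorem cyclic {α : MulAut L} (h : α * α = 1) (ho : R.o1 α = -1) {Y : Subgroup L}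
    (hY : ∀ y ∈ Y, α y = y) (hodd : Odd (Nat.card Y)) : IsCyclic Y := by
  have := R.finite
  obtain ⟨hα, -⟩ := D6.PglType.pgl_of R h ho
  have hne := D6.PglType.ne_one R ho
  obtain ⟨g, rfl⟩ := R.mem_PGL.1 hα
  have hT := LTF.KF2.cyclic_tor R (R.tr_of_inv hne h) (R.not_scalar_of_ne hne)
  exact Subgroup.isCyclic_of_le (LTF.KF2.le_tor R hodd hY)

/-- such a group has order prime to the characteristic -/
theorem not_dvd {p : ℕ} [CharP F p] (hp : p.Prime) (hp2 : Odd p) {α : MulAut L} (h : α * α = 1)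
    (ho : R.o1 α = -1) {Y : Subgroup L} (hY : ∀ y ∈ Y, α y = y) : ¬ p ∣ Nat.card Y := by
  intro hd
  have := R.finite
  have : Fact p.Prime := ⟨hp⟩
  obtain ⟨y, hy⟩ := exists_prime_orderOf_dvd_card' p hd
  have h1 : (y : L) = 1 := FldFacts.unip R hp hp2 h ho (by
    rw [← Subgroup.coe_pow, ← hy, pow_orderOf_eq_one, Subgroup.coe_one]) (hY y y.2)
  have h2 : y = 1 := Subtype.ext h1
  rw [h2, orderOf_one] at hy
  exact hp.one_lt.ne hy

omit [Finite F] in
/-- upper triangular involutions -/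
theorem upper_inv {A : Matrix.SpecialLinearGroup (Fin 2) F} (h10 : ent A 1 0 = 0)
    (h : R.π A * R.π A = 1) (h1 : R.π A ≠ 1) : ent A 0 0 * ent A 0 0 = -1 := by
  have hdet := det_eq A
  rw [h10, mul_zero, sub_zero] at hdet
  rw [← map_mul, R.ker] at h
  have hsq : ent (A * A) 0 0 = ent A 0 0 * ent A 0 0 := by
    rw [ent_mul, h10, mul_zero, add_zero]
  rcases h with h | h
  · exfalso
    apply h1
    rw [R.ker]
    have e00 : ent A 0 0 * ent A 0 0 = 1 := by rw [← hsq, h]; rfl
    have e01 : ent A 0 0 * ent A 0 1 + ent A 0 1 * ent A 1 1 = 0 := by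
      rw [← ent_mul, h]; rfl
    have e11 : ent A 1 1 = ent A 0 0 := by
      calc ent A 1 1 = ent A 0 0 * ent A 0 0 * ent A 1 1 := by rw [e00, one_mul]
        _ = ent A 0 0 * (ent A 0 0 * ent A 1 1) := by ring
        _ = ent A 0 0 := by rw [hdet, mul_one]
    have e2 : ent A 0 1 = 0 := by
      have h3 : (2 : F) * (ent A 0 0 * ent A 0 1) = 0 := by rw [e11] at e01; linear_combination e01
      rcases mul_eq_zero.1 h3 with h4 | h4
      · exact absurd h4 R.two
      · rcases mul_eq_zero.1 h4 with h5 | h5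
        · rw [h5, mul_zero] at e00
          exact absurd e00 zero_ne_one
        · exact h5
    rcases mul_self_eq_one_iff.1 e00 with h5 | h5
    · left
      apply ext_ent
      · rw [h5]; rfl
      · rw [e2]; rfl
      · rw [h10]; rfl
      · rw [e11, h5]; rfl
    · right
      apply ext_ent
      · rw [h5]; simp [ent]
      · rw [e2]; simp [ent]
      · rw [h10]; simp [ent]
      · rw [e11, h5]; simp [ent]
  · rw [← hsq, h]
    simp [ent]

/-- a subgroup containing the upper unitriangular group is everything or upper triangular -/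
theorem top_or_upper {S : Subgroup L} (hu : ∀ a, R.π (up a) ∈ S) :
    S = ⊤ ∨ ∀ A : Matrix.SpecialLinearGroup (Fin 2) F, R.π A ∈ S → ent A 1 0 = 0 := by
  by_cases hall : ∀ A : Matrix.SpecialLinearGroup (Fin 2) F, R.π A ∈ S → ent A 1 0 = 0
  · exact Or.inr hall
  left
  push Not at hall
  obtain ⟨A, hA, hc⟩ := hall
  have h1 := eq_up_lo_up A hc
  obtain ⟨c, hcc⟩ : ∃ c, c = ent A 1 0 := ⟨_, rfl⟩
  rw [← hcc] at h1 hc
  -- `lo c ∈ S`
  have h2 : R.π (lo c) ∈ S := by
    have h3 : lo c = (up ((ent A 0 0 - 1) / c))⁻¹ * A * (up ((ent A 1 1 - 1) / c))⁻¹ := by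
      rw [eq_mul_inv_iff_mul_eq, eq_inv_mul_iff_mul_eq, ← mul_assoc, ← h1]
    rw [h3, map_mul, map_mul, map_inv, map_inv]
    exact mul_mem (mul_mem (inv_mem (hu _)) hA) (inv_mem (hu _))
  -- `n = up (-c⁻¹) lo c up (-c⁻¹)`
  have h3 : R.π (up (-c⁻¹) * lo c * up (-c⁻¹)) ∈ S := by
    rw [map_mul, map_mul]
    exact mul_mem (mul_mem (hu _) h2) (hu _)
  apply FldGen.eq_top R hu
  intro t
  have h4 : lo t = (up (-c⁻¹) * lo c * up (-c⁻¹)) * up (-(t * c⁻¹ * c⁻¹)) *
      (up (-c⁻¹) * lo c * up (-c⁻¹))⁻¹ := by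
    rw [eq_mul_inv_iff_mul_eq]
    apply ext_ent <;> simp only [ent_mul, up_00, up_01, up_10, up_11, lo_00, lo_01, lo_10, lo_11] <;>
      field_simp <;> ring
  rw [h4, map_mul, map_mul, map_inv]
  exact mul_mem (mul_mem h3 (hu _)) (inv_mem h3)

omit [Finite F] in
/-- an upper triangular subgroup contains no four-group -/
theorem upper_no_four {S : Subgroup L}
    (hS : ∀ A : Matrix.SpecialLinearGroup (Fin 2) F, R.π A ∈ S → ent A 1 0 = 0) {a b : L}
    (hab : Four a b) (ha : a ∈ S) (hb : b ∈ S) : False := by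
  obtain ⟨A, rfl⟩ := R.surj a
  obtain ⟨B, rfl⟩ := R.surj b
  have hA := hS A ha
  have hB := hS B hb
  have h1 := upper_inv R hA hab.aa hab.a1
  have h2 := upper_inv R hB hab.bb hab.b1
  have h3 : ent (A * B) 0 0 = ent A 0 0 * ent B 0 0 := by rw [ent_mul, hB, mul_zero, add_zero]
  have h4 := upper_inv R (A := A * B) (hS _ (by rw [map_mul]; exact mul_mem ha hb)) (by
    rw [map_mul]
    exact hab.right.bb) (by rw [map_mul]; exact hab.right.b1)
  rw [h3] at h4
  have h5 : (1 : F) = -1 := by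
    calc (1 : F) = (ent A 0 0 * ent A 0 0) * (ent B 0 0 * ent B 0 0) := by rw [h1, h2]; ring
      _ = ent A 0 0 * ent B 0 0 * (ent A 0 0 * ent B 0 0) := by ring
      _ = -1 := h4
  apply R.two
  have h6 : (2 : F) = 1 + 1 := by norm_num
  rw [h6]
  nth_rewrite 1 [h5]
  ring

omit [Finite F] in
/-- the upper unitriangular group -/
theorem up_hom : ∃ U : Subgroup L, (∀ a : F, R.π (up a) ∈ U) ∧ ∀ u ∈ U, ∃ a : F, u = R.π (up a) :=
  ⟨{  carrier := {u | ∃ a : F, u = R.π (up a)}
      one_mem' := ⟨0, by rw [up_zero, map_one]⟩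
      mul_mem' := by
        rintro _ _ ⟨a, rfl⟩ ⟨b, rfl⟩
        exact ⟨a + b, by rw [← map_mul, up_mul]⟩
      inv_mem' := by
        rintro _ ⟨a, rfl⟩
        exact ⟨-a, by rw [← map_inv, up_inv]⟩ }, fun a => ⟨a, rfl⟩, fun _ h => h⟩

/-- subgroups of index prime to `2` and to the characteristic -/
theorem eq_top {p : ℕ} [CharP F p] (hp : p.Prime) {S : Subgroup L} (h2 : Odd S.index)
    (hr : ¬ p ∣ S.index) : S = ⊤ := by
  have hfin := R.finite
  have : Fact p.Prime := ⟨hp⟩
  obtain ⟨U, hU, hU'⟩ := up_hom R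
  have hUp : IsPGroup p U := by
    rintro ⟨u, hu⟩
    refine ⟨1, Subtype.ext ?_⟩
    obtain ⟨a, rfl⟩ := hU' u hu
    have h1 : ∀ n : ℕ, (up a) ^ n = up (n • a) := by
      intro n
      induction n with
      | zero => rw [pow_zero, zero_smul, up_zero]
      | succ n ih => rw [pow_succ, ih, up_mul, succ_nsmul]
    rw [pow_one, Subgroup.coe_pow, Subgroup.coe_one, ← map_pow, h1, nsmul_eq_mul,
      CharP.cast_eq_zero, zero_mul, up_zero, map_one]
  -- a conjugate of `U` lies in `S`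
  obtain ⟨g, hg⟩ := hUp.nonempty_fixed_point_of_prime_not_dvd_card (L ⧸ S) (by
    rwa [← Subgroup.index_eq_card])
  obtain ⟨g, rfl⟩ := QuotientGroup.mk_surjective g
  obtain ⟨S', hS'⟩ : ∃ S', S' = S.map (MulAut.conj g).toMonoidHom := ⟨_, rfl⟩
  have hmem : ∀ u, u ∈ S' ↔ g⁻¹ * u * g ∈ S := by
    intro u
    rw [hS']
    constructor
    · rintro ⟨v, hv, rfl⟩
      have : g⁻¹ * (MulAut.conj g).toMonoidHom v * g = v := by
        change g⁻¹ * (g * v * g⁻¹) * g = v
        group
      rwa [this]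
    · intro h
      refine ⟨_, h, ?_⟩
      change g * (g⁻¹ * u * g) * g⁻¹ = u
      group
  have hUS : ∀ a : F, R.π (up a) ∈ S' := by
    intro a
    rw [hmem]
    have h1 := hg ⟨_, hU a⟩
    have h2 : (QuotientGroup.mk (R.π (up a) * g) : L ⧸ S) = QuotientGroup.mk g := h1
    rw [eq_comm, QuotientGroup.eq, ← mul_assoc] at h2
    exact h2
  have htop : S' = ⊤ → S = ⊤ := by
    intro h
    rw [eq_top_iff]
    intro u _
    have h1 : g * u * g⁻¹ ∈ S' := by rw [h]; trivial
    rw [hmem] at h1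
    have h2 : g⁻¹ * (g * u * g⁻¹) * g = u := by group
    rwa [h2] at h1
  rcases top_or_upper R hUS with h | h
  · exact htop h
  exfalso
  obtain ⟨Q⟩ : Nonempty (Sylow 2 S) := inferInstance
  have hQ2 : ∃ Q' : Sylow 2 L, (Q' : Subgroup L) ≤ S := by
    obtain ⟨Q', hQ'⟩ := (Q.2.map S.subtype).exists_le_sylow
    have hle : (Q : Subgroup S).map S.subtype ≤ S := by
      rintro _ ⟨a, -, rfl⟩
      exact a.2
    have h3 : ¬ 2 ∣ ((Q : Subgroup S).map S.subtype).index := by
      rw [Subgroup.index_map_subtype]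
      intro h4
      rcases (Nat.prime_two.dvd_mul).1 h4 with h5 | h5
      · exact Q.not_dvd_index h5
      · exact (Nat.not_even_iff_odd.2 h2) (even_iff_two_dvd.2 h5)
    have h4 : (Q' : Subgroup L) = (Q : Subgroup S).map S.subtype := by
      apply le_antisymm _ hQ'
      intro q hq
      by_contra hne
      apply h3
      have h5 : ((Q : Subgroup S).map S.subtype).relIndex Q' ∣ ((Q : Subgroup S).map S.subtype).index :=
        Subgroup.relIndex_dvd_index_of_le hQ'
      refine dvd_trans ?_ h5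
      obtain ⟨n, hn⟩ := IsPGroup.iff_card.1 Q'.2
      have h6 : ((Q : Subgroup S).map S.subtype).relIndex Q' ∣ 2 ^ n := by
        rw [← hn]
        exact Subgroup.relIndex_dvd_card _ _
      obtain ⟨k, -, hk⟩ := (Nat.dvd_prime_pow Nat.prime_two).1 h6
      rw [hk]
      rcases Nat.eq_zero_or_pos k with h7 | h7
      · exfalso
        rw [h7, pow_zero, Subgroup.relIndex_eq_one] at hk
        exact hne (hk hq)
      · exact dvd_pow_self 2 h7.ne'
    exact ⟨Q', by rw [h4]; exact hle⟩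
  obtain ⟨Q', hQ'⟩ := hQ2
  obtain ⟨a, b, ha, hb, hab⟩ := R.exists_four_mem Q'
  have hc : ∀ {a : L}, a ∈ S → MulAut.conj g a ∈ S' := by
    intro a ha
    rw [hmem, MulAut.conj_apply]
    have h2 : g⁻¹ * (g * a * g⁻¹) * g = a := by group
    rwa [h2]
  exact upper_no_four R h (hab.map (MulAut.conj g)) (hc (hQ' ha)) (hc (hQ' hb))

/-- **no proper subgroup has index dividing the order of an odd group of fixed points of an automorphism of PGL
type** -/
theorem eq_top_of_index {α : MulAut L} (h : α * α = 1) (ho : R.o1 α = -1) {Y : Subgroup L}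
    (hY : ∀ y ∈ Y, α y = y) (hodd : Odd (Nat.card Y)) {S : Subgroup L} (hS : S.index ∣ Nat.card Y) :
    S = ⊤ := by
  obtain ⟨p, _, hp, hp2⟩ := FldFacts.exists_char (F := F) R.two
  exact eq_top R hp (Odd.of_dvd_nat hodd hS) (fun h1 => not_dvd R hp hp2 h ho hY (h1.trans hS))

/-- a Sylow subgroup containing a nontrivial fixed point of odd order of an automorphism of PGL type -/
theorem sylow_le {α : MulAut L} (h : α * α = 1) (ho : R.o1 α = -1) {l : ℕ} (hl : l.Prime) (hl2 : Odd l)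
    (S : Sylow l L) {t : L} (ht : t ∈ S) (ht1 : t ≠ 1) (hαt : α t = t) : ∀ s ∈ S, α s = s := by
  have hfin := R.finite
  have : Fact l.Prime := ⟨hl⟩
  obtain ⟨hα, -⟩ := D6.PglType.pgl_of R h ho
  have hodd : ∀ s ∈ S, s ≠ 1 → s * s ≠ 1 := by
    intro s hs hs1 hss
    obtain ⟨k, hk⟩ := S.2 ⟨s, hs⟩
    have h1 : s ^ l ^ k = 1 := congrArg Subtype.val hk
    have h2 : orderOf s ∣ l ^ k := orderOf_dvd_of_pow_eq_one h1
    have h3 : orderOf s ∣ 2 := orderOf_dvd_of_pow_eq_one (by rw [pow_two]; exact hss)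
    have h4 : orderOf s ∣ 1 := by
      have h5 : Nat.gcd (l ^ k) 2 = 1 := by
        apply Nat.Coprime.pow_left
        rw [Nat.coprime_comm, Nat.coprime_two_left]
        exact hl2
      rw [← h5]
      exact Nat.dvd_gcd h2 h3
    exact hs1 (orderOf_eq_one_iff.1 (Nat.dvd_one.1 h4))
  have key : ∀ {u v : L}, u ∈ S → v ∈ S → u ≠ 1 → α u = u → v * u = u * v → α v = v := by
    intro u v hu hv hu1 hαu hc
    have h1 := PGLFacts.comm_pgl R hα (R.conj_mem_PGL v) (hodd u hu hu1) hαu (by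
      rw [MulAut.conj_apply, hc, mul_inv_cancel_right])
    exact R.conj_injective (Rep.conj_comm_iff.mp h1.symm)
  have : Nontrivial (S : Subgroup L) := ⟨⟨t, ht⟩, 1, fun h => ht1 (congrArg Subtype.val h)⟩
  obtain ⟨z, hz⟩ := (Subgroup.nontrivial_iff_exists_ne_one _).1 (S.2.center_nontrivial)
  have hzc : ∀ s ∈ S, s * (z : L) = z * s := by
    intro s hs
    exact congrArg Subtype.val (Subgroup.mem_center_iff.1 hz.1 ⟨s, hs⟩)
  have hz1 : (z : L) ≠ 1 := fun h => hz.2 (Subtype.ext h)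
  have h1 := key ht z.2 ht1 hαt (hzc t ht).symm
  intro s hs
  exact key z.2 hs hz1 h1 (hzc s hs)

/-- **no involution of `L` centralizes an element whose order is a prime divisor of the order of the torus** -/
theorem no_inv {α : MulAut L} (h : α * α = 1) (ho : R.o1 α = -1) {l : ℕ} (hl : l.Prime) (hl2 : Odd l)
    {t : L} (ht : orderOf t = l) (hαt : α t = t) {c z : L} (hc : orderOf c = l) (hzz : z * z = 1)
    (hcz : c * z = z * c) : z = 1 := by
  have hfin := R.finite
  have : Fact l.Prime := ⟨hl⟩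
  have h1 : ∀ {c : L}, orderOf c = l → ∃ S : Sylow l L, c ∈ S := by
    intro c hc
    have h2 : IsPGroup l (Subgroup.zpowers c) := by
      apply IsPGroup.of_card (n := 1)
      rw [Nat.card_zpowers, hc, pow_one]
    obtain ⟨S, hS⟩ := h2.exists_le_sylow
    exact ⟨S, hS (Subgroup.mem_zpowers c)⟩
  obtain ⟨S, hS⟩ := h1 ht
  obtain ⟨S', hS'⟩ := h1 hc
  obtain ⟨g, hg⟩ := MulAction.exists_smul_eq L S' S
  have h3 : g * c * g⁻¹ ∈ S := by
    rw [← hg]
    exact ⟨c, hS', rfl⟩
  have ht1 : t ≠ 1 := by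
    rintro rfl
    rw [orderOf_one] at ht
    exact hl.one_lt.ne ht
  have h4 := sylow_le R h ho hl hl2 S hS ht1 hαt _ h3
  have hco : orderOf (g * c * g⁻¹) = l := by
    rw [← hc]
    exact orderOf_injective (MulAut.conj g).toMonoidHom (MulAut.conj g).injective c
  have hc1 : g * c * g⁻¹ ≠ 1 := by
    intro h5
    rw [h5, orderOf_one] at hco
    exact hl.one_lt.ne hco
  have h5 := L2Fact.eq_of_fix R h ho hc1 (by rw [hco]; exact hl2) h4
    (γ := MulAut.conj (g * z * g⁻¹)) ⟨1, by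
      rw [← map_pow, pow_one, pow_two]
      have : g * z * g⁻¹ * (g * z * g⁻¹) = 1 := by
        calc g * z * g⁻¹ * (g * z * g⁻¹) = g * (z * z) * g⁻¹ := by group
          _ = 1 := by rw [hzz]; group
      rw [this, map_one]⟩ (by
      rw [MulAut.conj_apply]
      calc g * z * g⁻¹ * (g * c * g⁻¹) * (g * z * g⁻¹)⁻¹ = g * (z * c) * z⁻¹ * g⁻¹ := by group
        _ = g * c * g⁻¹ := by rw [← hcz]; group)
  rcases h5 with h5 | h5
  · have h6 : g * z * g⁻¹ = 1 := R.conj_injective (by rw [h5, map_one])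
    calc z = g⁻¹ * (g * z * g⁻¹) * g := by group
      _ = 1 := by rw [h6]; group
  · exfalso
    have h6 := R.o1_conj (g * z * g⁻¹)
    rw [h5, ho] at h6
    exact absurd h6 (by decide)

open scoped commutatorElement in
/-- perfect groups of automorphisms are inner -/
theorem perfect_inn {J : Subgroup (MulAut L)} (hp : J ≤ ⁅J, J⁆) {β : MulAut L} (hβ : β ∈ J) :
    ∃ l : L, β = MulAut.conj l := by
  have h1 : R.fld β = 1 := R.mem_PGL_iff_fld.1 (TT.PGLSolv.perfect_le_PGL R hp hβ)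
  have h2 : R.o1 β = 1 := by
    have h3 : ⁅J, J⁆ ≤ R.o1.ker := by
      rw [Subgroup.commutator_le]
      intro a _ b _
      rw [MonoidHom.mem_ker, map_commutatorElement, commutatorElement_eq_one_iff_mul_comm]
      exact mul_comm _ _
    exact h3 (hp hβ)
  obtain ⟨l, hl⟩ := R.mem_inn_iff.2 ⟨h1, h2⟩
  exact ⟨l, hl.symm⟩

/-- perfect groups of automorphisms fixing `a ≠ 1` are trivial -/
theorem sol {a : L} (ha : a ≠ 1) {J : Subgroup (MulAut L)} (hp : J ≤ ⁅J, J⁆)
    (hc : ∀ β ∈ J, β a = a) : J = ⊥ := by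
  by_cases haa : a * a = 1
  · refine TT.PGLSolv.solv R (R.conj_mem_PGL a) (by rw [← map_mul, haa, map_one]) (fun h => ha ?_) hp ?_
    · exact R.conj_injective (by rw [h, map_one])
    · intro β hβ
      exact (Rep.conj_comm_iff (φ := β) (x := a).2 (congrArg _ (hc β hβ))).symm
  · have h1 : ⁅J, J⁆ = ⊥ := by
      rw [eq_bot_iff, Subgroup.commutator_le]
      intro x hx y hy
      rw [Subgroup.mem_bot, commutatorElement_eq_one_iff_mul_comm]
      exact PGLFacts.comm_pgl R (TT.PGLSolv.perfect_le_PGL R hp hx) (TT.PGLSolv.perfect_le_PGL R hp hy)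
        haa (hc x hx) (hc y hy)
    rw [h1] at hp
    exact le_bot_iff.1 hp

end Cfsg.Agent.UGT.Paired.KF
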