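import Cfsg.Agent.UGT.Paired.Basic
import Cfsg.Agent.UGT.Paired.KF
import Cfsg.Agent.UGT.Res.BBTools

/-!
# The hypotheses of Theorem P for a system `BBS` of bad pairs

`Cl L₀`: the conjugates of `L₀`; `Bd BB L₀ x L`: `x` is bad for the conjugate `L` of `L₀`;
`Yd BB L₀ L y`: `y` generates the group of all elements of odd order of `C_L(x)`, `x` bad for `L`.

* `hyp : BBS BB → BB x₀ L₀ → Hyp (Cl L₀) (Bd BB L₀) (Yd BB L₀)`.
-/

set_option autoImplicit false

open Cfsg Subgroup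
open Cfsg.Agent.SignalizersComponents Cfsg.Agent.Lib
open Cfsg.Agent.SignalizersComponents.IntrinsicBasic
open Cfsg.Agent.Intrinsic.Basic Cfsg.Agent.Intrinsic.Cen
open Cfsg.Agent.OddHalf.D6
open Cfsg.Agent.UGT.Triple
open Cfsg.Agent.UGT.Res.EFacts Cfsg.Agent.UGT.Res.BBS
open Cfsg.Agent.UGT.Res.Hon (comm_of_fixes)
open Cfsg.Agent.UGT.Res
open Cfsg.Agent.UGT.ThE.Base (IsT IsS)
open Cfsg.Agent.UGT.Paired.Basic
open scoped commutatorElement

namespace Cfsg.Agent.UGT.Paired.Inst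

universe u

variable {G : Type u} [Group G]

/-- the conjugates of `L₀` -/
def Cl (L₀ : Subgroup G) : Set (Subgroup G) := {L | ∃ g, L = cj g L₀}

/-- `x` is bad for the conjugate `L` of `L₀` -/
def Bd (BB : G → Subgroup G → Prop) (L₀ : Subgroup G) (x : G) (L : Subgroup G) : Prop :=
  BB x L ∧ L ∈ Cl L₀

/-- `y` generates the torus of `C_L(x)` -/
def Yd (BB : G → Subgroup G → Prop) (L₀ : Subgroup G) (L : Subgroup G) (y : G) : Prop :=
  ∃ x, Bd BB L₀ x L ∧ ∀ t, t ∈ zpowers y ↔ t ∈ L ∧ t * x = x * t ∧ Odd (orderOf t)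

theorem cl_cj {L₀ L : Subgroup G} (h : L ∈ Cl L₀) (g : G) : cj g L ∈ Cl L₀ := by
  obtain ⟨k, rfl⟩ := h
  exact ⟨g * k, (cj_mul _ _ _).symm⟩

theorem cl_tr {L₀ L N : Subgroup G} (h : L ∈ Cl L₀) (h' : N ∈ Cl L₀) : ∃ g, cj g L = N := by
  obtain ⟨k, rfl⟩ := h
  obtain ⟨m, rfl⟩ := h'
  refine ⟨m * k⁻¹, ?_⟩
  rw [← cj_mul, inv_mul_cancel_right]

section rep

variable {L : Subgroup G} {F : Type*} [Field F] [Finite F] (R : Cfsg.Agent.GH.L2Aut.Rep F L)

/-- the image of a perfect subgroup of `N(L)` in `Aut L` -/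
theorem exists_image {D : Subgroup G} (hD : D ≤ normalizer (L : Set G)) (hDD : ⁅D, D⁆ = D) :
    ∃ J : Subgroup (MulAut L), J ≤ ⁅J, J⁆ ∧ (∀ d (hd : d ∈ D), act L d (hD hd) ∈ J) ∧
      ∀ β ∈ J, ∃ (d : G) (hd : d ∈ D), act L d (hD hd) = β := by
  refine ⟨(D.subgroupOf (normalizer (L : Set G))).map L.normalizerMonoidHom, ?_, ?_, ?_⟩
  · apply le_of_eq
    rw [← map_commutator]
    congr 1
    have h1 : ⁅D.subgroupOf (normalizer (L : Set G)), D.subgroupOf (normalizer (L : Set G))⁆.map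
        (normalizer (L : Set G)).subtype =
        (D.subgroupOf (normalizer (L : Set G))).map (normalizer (L : Set G)).subtype := by
      rw [map_commutator, subgroupOf_map_subtype, inf_of_le_left hD, hDD]
    exact (map_injective (normalizer (L : Set G)).subtype_injective h1).symm
  · intro d hd
    exact ⟨⟨d, hD hd⟩, hd, rfl⟩
  · rintro _ ⟨⟨d, hd⟩, hdN, rfl⟩
    exact ⟨d, hdN, rfl⟩

include R

theorem inn {D : Subgroup G} (hD : D ≤ normalizer (L : Set G)) (hDD : ⁅D, D⁆ = D) {d : G}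
    (hd : d ∈ D) : ∃ l ∈ L, d * l ∈ centralizer (L : Set G) := by
  obtain ⟨J, hJ, hJ1, -⟩ := exists_image hD hDD
  obtain ⟨⟨l, hl⟩, h⟩ := KF.perfect_inn R hJ (hJ1 d hd)
  refine ⟨l⁻¹, inv_mem hl, ?_⟩
  rw [← act_one_iff' (mul_mem (hD hd) (inv_mem (le_normalizer hl))), ← act_mul (hD hd)
    (inv_mem (le_normalizer hl)), act_inv (le_normalizer hl), act_of_mem hl, h, mul_inv_cancel]

theorem sol {a : G} (ha : a ∈ L) (ha1 : a ≠ 1) {D : Subgroup G} (hD : D ≤ normalizer (L : Set G))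
    (hDD : ⁅D, D⁆ = D) (hc : ∀ d ∈ D, d * a = a * d) : D ≤ centralizer (L : Set G) := by
  obtain ⟨J, hJ, hJ1, hJ2⟩ := exists_image hD hDD
  have h := KF.sol R (a := ⟨a, ha⟩) (fun h => ha1 (congrArg Subtype.val h)) hJ (by
    intro β hβ
    obtain ⟨d, hd, rfl⟩ := hJ2 β hβ
    exact (act_fix (hD hd) ha).mpr (hc d hd).symm)
  intro d hd
  have h1 := hJ1 d hd
  rw [h, mem_bot] at h1
  exact (act_one_iff' _).mp h1

theorem cls {u v : G} (hu : u ∈ L) (hv : v ∈ L) (hu' : Inv u) (hv' : Inv v) :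
    ∃ l ∈ L, l * u * l⁻¹ = v := by
  obtain ⟨g, hg⟩ := R.inv_conj (s := ⟨u, hu⟩) (t := ⟨v, hv⟩) (Subtype.ext hu'.sq)
    (fun h => hu'.ne (congrArg Subtype.val h)) (Subtype.ext hv'.sq)
    (fun h => hv'.ne (congrArg Subtype.val h))
  exact ⟨g, g.2, congrArg Subtype.val hg⟩

theorem even : ∃ u ∈ L, Inv u := by
  obtain ⟨a, b, hab⟩ := R.exists_four
  exact ⟨a, a.2, congrArg Subtype.val hab.aa, fun h => hab.a1 (Subtype.ext h)⟩

theorem fixo {g : G} (hg : g ∈ normalizer (L : Set G)) (ho : Odd (orderOf g)) :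
    ∃ c ∈ L, c ≠ 1 ∧ c * g = g * c := by
  obtain ⟨⟨t, ht⟩, h1, h2⟩ := KF.exists_fix R (β := act L g hg)
    (Odd.of_dvd_nat ho (orderOf_act_dvd hg))
  exact ⟨t, ht, fun h => h1 (Subtype.ext h), (act_fix hg ht).mp h2⟩

theorem core_eq_bot [Finite G] (h5 : 4 < Nat.card F) : core L = ⊥ := by
  rcases EFacts.simp R (by omega) (core L) (core_le L) (fun l hl n hn => conj_core hl hn) with h | h
  · exact h
  · exfalso
    obtain ⟨u, hu, hui⟩ := even R
    have h1 : orderOf u ∣ Nat.card (core L) := by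
      rw [h]
      exact Subgroup.orderOf_dvd_natCard L hu
    rw [hui.order] at h1
    exact (Nat.not_even_iff_odd.mpr (odd_card_core L)) (even_iff_two_dvd.mpr h1)

end rep

section rep

variable {L : Subgroup G} {F : Type*} [Field F] [Finite F] {R : Cfsg.Agent.GH.L2Aut.Rep F L} {x : G}

/-- a generator of the torus -/
theorem exists_gen [Finite G] (C : Cf R x) : ∃ y, ∀ t, t ∈ zpowers y ↔ t ∈ L ∧ t * x = x * t ∧
    Odd (orderOf t) := by
  obtain ⟨T, hT⟩ : ∃ T : Subgroup L, ∀ t, t ∈ T ↔ act L x C.xN t = t ∧ Odd (orderOf t) :=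
    ⟨{  carrier := {t | act L x C.xN t = t ∧ Odd (orderOf t)}
        one_mem' := ⟨map_one _, by rw [orderOf_one]; exact odd_one⟩
        mul_mem' := by
          rintro a b ⟨ha, ha'⟩ ⟨hb, hb'⟩
          exact ⟨by rw [map_mul, ha, hb], (TorFacts.tor_mul R C.sq (C.o1 C.xN) ha ha' hb hb').1⟩
        inv_mem' := by
          rintro a ⟨ha, ha'⟩
          exact ⟨by rw [map_inv, ha], by rw [orderOf_inv]; exact ha'⟩ }, fun t => Iff.rfl⟩
  have hodd : Odd (Nat.card T) := by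
    by_contra hcon
    rw [Nat.not_odd_iff_even] at hcon
    have : Fact (Nat.Prime 2) := ⟨Nat.prime_two⟩
    obtain ⟨z, hz⟩ := exists_prime_orderOf_dvd_card' (G := T) 2 (even_iff_two_dvd.mp hcon)
    have h1 := ((hT z).mp z.2).2
    rw [Subgroup.orderOf_coe, hz] at h1
    exact absurd h1 (by decide)
  have hc := KF.cyclic R C.sq (C.o1 C.xN) (Y := T) (fun y hy => ((hT y).mp hy).1) hodd
  obtain ⟨⟨y, hy⟩, hgen⟩ := hc.exists_generator
  refine ⟨(y : G), fun t => ?_⟩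
  constructor
  · rintro ⟨n, rfl⟩
    have h1 : y ^ n ∈ T := zpow_mem hy n
    rw [hT] at h1
    refine ⟨zpow_mem y.2 n, (act_fix C.xN (zpow_mem y.2 n)).mp h1.1, ?_⟩
    have h2 := h1.2
    rwa [← Subgroup.orderOf_coe] at h2
  · rintro ⟨ht, htx, hto⟩
    have h1 : (⟨t, ht⟩ : L) ∈ T := (hT _).mpr ⟨(act_fix C.xN ht).mpr htx, by
      rwa [Subgroup.orderOf_mk]⟩
    obtain ⟨n, hn⟩ := hgen ⟨_, h1⟩
    exact ⟨n, congrArg (fun z : T => ((z : L) : G)) hn⟩

theorem gen_ne [Finite G] (C : Cf R x) (h5 : 4 < Nat.card F) {y : G}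
    (hy : ∀ t, t ∈ zpowers y ↔ t ∈ L ∧ t * x = x * t ∧ Odd (orderOf t)) : y ≠ 1 := by
  rintro rfl
  obtain ⟨⟨t, ht⟩, h1, h2, h3⟩ := TorFacts.exists_ne R h5 C.sq (C.o1 C.xN)
  apply h3
  apply Subtype.ext
  have h4 : t ∈ zpowers (1 : G) := (hy t).mpr ⟨ht, (act_fix C.xN ht).mp h1, by
    rwa [Subgroup.orderOf_mk] at h2⟩
  rw [zpowers_one_eq_bot, mem_bot] at h4
  exact h4

theorem idx [Finite G] (C : Cf R x) {y : G}
    (hy : ∀ t, t ∈ zpowers y ↔ t ∈ L ∧ t * x = x * t ∧ Odd (orderOf t)) (S : Subgroup L)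
    (hS : S ≠ ⊤) : ¬ S.index ∣ orderOf y := by
  intro h
  apply hS
  obtain ⟨hyL, hyx, hyo⟩ := (hy y).mp (mem_zpowers y)
  refine KF.eq_top_of_index R C.sq (C.o1 C.xN) (Y := zpowers (⟨y, hyL⟩ : L)) ?_ ?_ ?_
  · rintro _ ⟨n, rfl⟩
    rw [map_zpow]
    rw [(act_fix C.xN hyL).mpr hyx]
  · rwa [Nat.card_zpowers, Subgroup.orderOf_mk]
  · rwa [Nat.card_zpowers, Subgroup.orderOf_mk]

/-- `tor` -/
theorem tor [Finite G] (C : Cf R x) {t : G} (ht : t ∈ L) (htx : t * x = x * t) {y z s : G}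
    (hyo : Odd (orderOf y)) (hyt : orderOf y ∣ orderOf t)
    (hy : y ∈ normalizer (L : Set G)) (hz : z ∈ L) (hz' : Inv z) (hs : s ∈ normalizer (L : Set G))
    (hyz : y * z = z * y) (hsy : s * y * s⁻¹ = y⁻¹) : y ∈ centralizer (L : Set G) := by
  obtain ⟨η, hη⟩ : ∃ η, η = act L y hy := ⟨_, rfl⟩
  have hηo : Odd (orderOf η) := by rw [hη]; exact Odd.of_dvd_nat hyo (orderOf_act_dvd hy)
  have hinv : act L s hs * η * (act L s hs)⁻¹ = η⁻¹ := by
    rw [hη, ← act_inv hs, ← act_inv hy, act_mul, act_mul]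
    exact act_congr _ _ hsy
  have hf : R.fld η = 1 := by
    have h3 := congrArg R.fld hinv
    rw [map_mul, map_mul, map_inv, map_inv, ringAut_comm (R.fld (act L s hs)) (R.fld η),
      mul_inv_cancel_right] at h3
    have h4 : R.fld η * R.fld η = 1 := by
      nth_rewrite 1 [h3]
      exact inv_mul_cancel _
    exact PglType.eq_one_of_odd_sq h4 (Odd.of_dvd_nat hηo (orderOf_map_dvd _ _))
  obtain ⟨c, hc⟩ := R.mem_inn_iff.2 ⟨hf, L2Fact.o1_of_odd R hηo⟩
  by_cases hc1 : c = 1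
  · rw [← act_one_iff' hy, ← hη, ← hc, hc1, map_one]
  exfalso
  have hco : orderOf c = orderOf η := by rw [← hc, orderOf_injective _ R.conj_injective c]
  obtain ⟨l, hl, hld⟩ := Nat.exists_prime_and_dvd (fun h => hc1 (orderOf_eq_one_iff.mp h) : orderOf c ≠ 1)
  have hld' : l ∣ orderOf y := by
    refine hld.trans ?_
    rw [hco, hη]
    exact orderOf_act_dvd hy
  have hl2 : Odd l := Odd.of_dvd_nat hyo hld'
  have hldt : l ∣ orderOf t := hld'.trans hyt
  have hcz : c * ⟨z, hz⟩ = ⟨z, hz⟩ * c := by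
    have h1 : act L y hy ⟨z, hz⟩ = ⟨z, hz⟩ := (act_fix hy hz).mpr hyz.symm
    rw [← hη, ← hc] at h1
    have h2 : c * ⟨z, hz⟩ * c⁻¹ = ⟨z, hz⟩ := h1
    rwa [mul_inv_eq_iff_eq_mul] at h2
  have hpow : ∀ {A : Type u} [Group A] [Finite A] {a : A}, l ∣ orderOf a →
      orderOf (a ^ (orderOf a / l)) = l := by
    intro A _ _ a ha
    rw [orderOf_pow_of_dvd (Nat.div_pos (Nat.le_of_dvd (orderOf_pos a) ha) hl.pos).ne'
      (Nat.div_dvd_of_dvd ha), Nat.div_div_self ha (orderOf_pos a).ne']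
  have h1 := KF.no_inv R C.sq (C.o1 C.xN) hl hl2
      (t := (⟨t, ht⟩ : L) ^ (orderOf (⟨t, ht⟩ : L) / l))
      (hpow (a := (⟨t, ht⟩ : L)) (by rwa [Subgroup.orderOf_mk])) (by
      rw [map_pow, (act_fix C.xN ht).mpr htx]) (c := c ^ (orderOf c / l)) (z := ⟨z, hz⟩) (hpow hld)
      (Subtype.ext hz'.sq) (Commute.pow_left hcz _)
  exact hz'.ne (congrArg Subtype.val h1)

end rep

variable [Finite G] {BB : G → Subgroup G → Prop} (S : BBS BB) {x₀ : G} {L₀ : Subgroup G}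

section bbs

include S

theorem bd_cj {g x : G} {L : Subgroup G} (h : Bd BB L₀ x L) : Bd BB L₀ (g * x * g⁻¹) (cj g L) :=
  ⟨S.conj g h.1, cl_cj h.2 g⟩

theorem exists_bd (h₀ : BB x₀ L₀) {L : Subgroup G} (hL : L ∈ Cl L₀) : ∃ x, Bd BB L₀ x L := by
  obtain ⟨g, rfl⟩ := hL
  exact ⟨g * x₀ * g⁻¹, S.conj g h₀, g, rfl⟩

theorem yd_cj {g y : G} {L : Subgroup G} (h : Yd BB L₀ L y) : Yd BB L₀ (cj g L) (g * y * g⁻¹) := by
  obtain ⟨x, hx, hy⟩ := h
  refine ⟨g * x * g⁻¹, bd_cj S hx, fun t => ?_⟩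
  have h1 : t ∈ zpowers (g * y * g⁻¹) ↔ g⁻¹ * t * g ∈ zpowers y := by
    constructor
    · rintro ⟨n, rfl⟩
      refine ⟨n, ?_⟩
      change y ^ n = g⁻¹ * (g * y * g⁻¹) ^ n * g
      rw [conj_zpow]
      group
    · rintro ⟨n, hn⟩
      refine ⟨n, ?_⟩
      change (g * y * g⁻¹) ^ n = t
      change y ^ n = g⁻¹ * t * g at hn
      rw [conj_zpow, hn]
      group
  rw [h1, hy, mem_cj]
  refine and_congr_right fun _ => and_congr ?_ ?_
  · constructor
    · intro h2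
      calc t * (g * x * g⁻¹) = g * (g⁻¹ * t * g * x) * g⁻¹ := by group
        _ = g * (x * (g⁻¹ * t * g)) * g⁻¹ := by rw [h2]
        _ = g * x * g⁻¹ * t := by group
    · intro h2
      calc g⁻¹ * t * g * x = g⁻¹ * (t * (g * x * g⁻¹)) * g := by group
        _ = g⁻¹ * (g * x * g⁻¹ * t) * g := by rw [h2]
        _ = x * (g⁻¹ * t * g) := by group
  · have h2 : orderOf (g⁻¹ * t * g) = orderOf t := by
      have h3 := orderOf_injective (MulAut.conj g⁻¹).toMonoidHom (MulAut.conj g⁻¹).injective t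
      have h4 : (MulAut.conj g⁻¹).toMonoidHom t = g⁻¹ * t * g := by
        change g⁻¹ * t * g⁻¹⁻¹ = _
        rw [inv_inv]
      rwa [h4] at h3
    rw [h2]

/-- **the hypotheses of Theorem P** -/
theorem hyp (h₀ : BB x₀ L₀) : Hyp (Cl L₀) (Bd BB L₀) (Yd BB L₀) := by
  have hrep : ∀ {L : Subgroup G}, L ∈ Cl L₀ → ∃ (F : Type) (_ : Field F) (_ : Finite F),
      4 < Nat.card F ∧ Nonempty (Cfsg.Agent.GH.L2Aut.Rep F L) := by
    intro L hL
    obtain ⟨x, hx⟩ := exists_bd S h₀ hL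
    obtain ⟨F, i1, i2, h5, hR⟩ := S.rep hx.1
    exact ⟨F, i1, i2, by omega, hR⟩
  exact
    { tr := fun L hL N hN => cl_tr hL hN
      cl := fun L hL g => cl_cj hL g
      Bcj := fun g x L h => bd_cj S h
      Bmem := fun h => h.2
      Binv := fun {x L} h => ⟨BBTools.BBS.sq S h.1, ne_one_of_order (S.ox h.1)⟩
      BN := fun {x L} h => S.hx h.1 rfl
      Bout := by
        intro x L h l hl
        obtain ⟨F, _, _, h5, ⟨R⟩⟩ := hrep h.2
        exact (S.cf h.1 R).xLK l hl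
      one := fun h h' => Or.inl (S.uniq h.1 h'.1)
      mul := fun h ht => ⟨S.mul h.1 ht, h.2⟩
      cmp := by
        intro x t L h ht c hc
        obtain ⟨F, _, _, h5, ⟨R⟩⟩ := hrep h.2
        have T := S.comp h.1 ht
        by_cases h1 : cj c L = L
        · exact Or.inl h1.symm
        right
        intro l hl n hn
        have h2 := comm_of_fixes (core_eq_bot R h5) (T.fixes_of_mem
          (Intrinsic.Diag.isComp_cj_of_mem T (mem_c hc)) (Ne.symm h1) hn)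
        exact mem_centralizer_iff.mp h2 l hl
      H := by
        rintro L y ⟨x, hx, hy⟩ c hc
        refine S.hy hx.1 fun t ht htx hto => ?_
        obtain ⟨n, hn⟩ := (hy t).mpr ⟨ht, htx, hto⟩
        rw [← hn]
        exact (Commute.zpow_right hc n).eq
      simp := by
        intro L hL N hN hn
        obtain ⟨F, _, _, h5, ⟨R⟩⟩ := hrep hL
        exact EFacts.simp R (by omega) N hN hn
      perf := by
        intro L hL
        obtain ⟨F, _, _, h5, ⟨R⟩⟩ := hrep hL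
        exact BBTools.perfect_of_rep (R := R) h5
      even := by
        intro L hL
        obtain ⟨F, _, _, h5, ⟨R⟩⟩ := hrep hL
        exact even R
      cls := by
        intro L hL u hu v hv hu' hv'
        obtain ⟨F, _, _, h5, ⟨R⟩⟩ := hrep hL
        exact cls R hu hv hu' hv'
      inn := by
        intro L hL D hD hDD d hd
        obtain ⟨F, _, _, h5, ⟨R⟩⟩ := hrep hL
        exact inn R hD hDD hd
      sol := by
        intro L hL a ha ha1 D hD hDD hc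
        obtain ⟨F, _, _, h5, ⟨R⟩⟩ := hrep hL
        exact sol R ha ha1 hD hDD hc
      solx := by
        intro x L h D hD hDD hc
        obtain ⟨F, _, _, h5, ⟨R⟩⟩ := hrep h.2
        exact BBTools.comm_of_perfect (S.cf h.1 R) hDD hc hD
      Ymem := by
        rintro L y ⟨x, hx, hy⟩
        obtain ⟨F, _, _, h5, ⟨R⟩⟩ := hrep hx.2
        obtain ⟨h1, h2, h3⟩ := (hy y).mp (mem_zpowers y)
        exact ⟨hx.2, h1, gen_ne (S.cf hx.1 R) h5 hy, h3⟩
      gen := by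
        intro L hL N hN
        obtain ⟨F, _, _, h5, ⟨R⟩⟩ := hrep hL
        obtain ⟨x, hx⟩ := exists_bd S h₀ hL
        obtain ⟨y, hy⟩ := exists_gen (S.cf hx.1 R)
        have hy1 := gen_ne (S.cf hx.1 R) h5 hy
        refine EFacts.gen R (by omega) (Y := zpowers y) (fun t ht => ((hy t).mp ht).1)
          (fun h => hy1 (mem_bot.mp (h ▸ mem_zpowers y))) N ?_
        rintro l hl _ ⟨n, rfl⟩
        have h1 : l * y * l⁻¹ ∈ N := by
          apply hN
          have h2 := yd_cj S (g := l) (⟨x, hx, hy⟩ : Yd BB L₀ L y)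
          rwa [mem_normalizer_iff_cj.mp (le_normalizer hl)] at h2
        change l * y ^ n * l⁻¹ ∈ N
        rw [← conj_zpow]
        exact zpow_mem h1 n
      idx := by
        rintro L y ⟨x, hx, hy⟩ T hT
        obtain ⟨F, _, _, h5, ⟨R⟩⟩ := hrep hx.2
        exact idx (S.cf hx.1 R) hy T hT
      fixo := by
        intro L hL g hg ho
        obtain ⟨F, _, _, h5, ⟨R⟩⟩ := hrep hL
        exact fixo R hg ho
      exy := by
        intro x L hx
        obtain ⟨F, _, _, h5, ⟨R⟩⟩ := hrep hx.2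
        have C := S.cf hx.1 R
        obtain ⟨y, hy⟩ := exists_gen C
        obtain ⟨hyL, hyx, hyo⟩ := (hy y).mp (mem_zpowers y)
        obtain ⟨⟨s, hs⟩, h1, h2, h3⟩ := PglType.exists_fix_involution R C.sq (C.o1 C.xN)
        have h4 := PglType.inverts R C.sq (C.o1 C.xN) h1 h2 h3 (b := ⟨y, hyL⟩)
          ((act_fix C.xN hyL).mpr hyx) (by rwa [Subgroup.orderOf_mk])
        exact ⟨y, ⟨x, hx, hy⟩, hyx, s, ⟨hs, (act_fix C.xN hs).mp h1, congrArg Subtype.val h2,
          fun h => h3 (Subtype.ext h)⟩, congrArg Subtype.val h4⟩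
      tor := by
        rintro L hL z hz hz' N y ⟨x', hx', hy⟩ hyN s hs hyz - hsy
        obtain ⟨F, _, _, h5, ⟨R⟩⟩ := hrep hL
        obtain ⟨g, rfl⟩ := cl_tr hL hx'.2
        obtain ⟨hyL, hyx, hyo⟩ := (hy y).mp (mem_zpowers y)
        have hx := bd_cj S (g := g⁻¹) hx'
        rw [cj_inv_cj, inv_inv] at hx
        refine tor (S.cf hx.1 R) (t := g⁻¹ * y * g) (mem_cj.mp hyL) ?_ hyo ?_ hyN hz hz' hs hyz hsy
        · calc g⁻¹ * y * g * (g⁻¹ * x' * g) = g⁻¹ * (y * x') * g := by group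
            _ = g⁻¹ * (x' * y) * g := by rw [hyx]
            _ = g⁻¹ * x' * g * (g⁻¹ * y * g) := by group
        · have h3 := orderOf_injective (MulAut.conj g⁻¹).toMonoidHom (MulAut.conj g⁻¹).injective y
          have h4 : (MulAut.conj g⁻¹).toMonoidHom y = g⁻¹ * y * g := by
            change g⁻¹ * y * g⁻¹⁻¹ = _
            rw [inv_inv]
          rw [h4] at h3
          rw [h3]
      cenx := by
        intro x L hx e he hee hex
        obtain ⟨F, _, _, h5, ⟨R⟩⟩ := hrep hx.2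
        refine (S.cf hx.1 R).cenx e he hee ?_
        rw [hex, mul_inv_cancel_right, mul_inv_cancel]
        exact one_mem _
      conjS := by
        intro x L hx s hs
        obtain ⟨F, _, _, h5, ⟨R⟩⟩ := hrep hx.2
        exact FldCens.conjS (S.cf hx.1 R) s hs }

end bbs

end Cfsg.Agent.UGT.Paired.Inst
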