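import Cfsg.Agent.UGT.Paired.Com
import Cfsg.Agent.UGT.Res.ThH

/-!
# Theorem P, (8), first part: the dihedral link

`Hyp.link`: if `x` is bad for `L` and some member is not `Sim` to `L`, then there is an involution `z ∈ N ∈ Λ`, `N` not
`Sim` to `L`, with `N ≠ N^x` commuting.  `Hyp.not_norm`: in this situation `e = (xzx)z ∉ N(L)`.
`Hyp.all_of_uniq`: Theorem P if `x` is bad for one member only.
-/

set_option autoImplicit false

open Subgroup
open Cfsg.Agent.SignalizersComponents.IntrinsicBasic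
open Cfsg.Agent.UGT.ThE.Base
open Cfsg.Agent.UGT.Paired.Basic
open Cfsg.Agent.UGT.Paired.Twin

namespace Cfsg.Agent.UGT.Paired.Basic.Hyp

open Cfsg.Agent.UGT.Paired.Com

variable {G : Type*} [Group G] {Λ : Set (Subgroup G)} {B : G → Subgroup G → Prop}
  {Y : Subgroup G → G → Prop}

theorem xs_bad (H : Hyp Λ B Y) {x s : G} {L : Subgroup G} (hB : B x L) (hs : IsS L x s) : B (x * s) L := by
  obtain ⟨l, hl, h⟩ := H.conjS hB s hs
  have h1 := H.Bcj l⁻¹ x L hB
  rw [cj_eq_self_of_mem (inv_mem hl), ← h] at h1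
  have h2 : l⁻¹ * (l * (x * s) * l⁻¹) * l⁻¹⁻¹ = x * s := by group
  rwa [h2] at h1

variable [Finite G] (H : Hyp Λ B Y) (hP : Pair Λ B) (hNA : NoAdj Λ)
include H hP hNA

theorem sim_of_bad {e z : G} {L N : Subgroup G} (hB : B e L) (hN : N ∈ Λ) (hz : z ∈ N) (hzi : Inv z)
    (h : z * e = e * z) : Sim N L :=
  H.sim_of_comm hP hNA hB hN hz hzi h

theorem sim_of_fine {x e z : G} {L N : Subgroup G} (hB : B x L) (he : IsT L x e) (hN : N ∈ Λ)
    (hz : z ∈ N) (hzi : Inv z) (h : z * e = e * z) : Sim N L :=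
  H.sim_of_conj hP hNA (H.Bmem hB) hN hz hzi (H.cmp hB he z h)

/-- `e = (xzx)z` does not normalize `L` -/
theorem not_norm {x z : G} {L N : Subgroup G} (hB : B x L) (hN : N ∈ Λ) (hz : z ∈ N) (hzi : Inv z)
    (hns : ¬ Sim N L) (hsx : Sim N (cj x N)) (hne : N ≠ cj x N) :
    x * z * x * z ∉ normalizer (L : Set G) := by
  intro he
  have hxi := H.Binv hB
  have hzx : x * z * x ∈ cj x N := by
    have := conj_mem_cj (g := x) hz
    rwa [hxi.inv] at this
  have hc : z * (x * z * x) = x * z * x * z := comm_of_sim hsx hne hz hzx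
  obtain ⟨e, hedef⟩ : ∃ e, e = x * z * x * z := ⟨_, rfl⟩
  rw [← hedef] at he hc
  have hex : e * x = x * e := by
    have h1 : z * x * z * x = e := by rw [← hc]; group
    calc e * x = x * z * x * z * x := by rw [hedef]
      _ = x * (z * x * z * x) := by group
      _ = x * e := by rw [h1]
  have hez : z * e = e * z := by
    have h1 : z * x * z * x = e := by rw [← hc]; group
    calc z * e = z * (z * x * z * x) := by rw [h1]
      _ = (z * z) * x * z * x := by group
      _ = x * z * x * (z * z) := by rw [hzi.sq, one_mul, mul_one]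
      _ = e * z := by rw [hedef]; group
  have hee : e * e = 1 := by
    have h1 : z * x * z * x = e := by rw [← hc]; group
    calc e * e = x * z * x * z * (z * x * z * x) := by rw [h1, ← hedef]
      _ = x * z * x * (z * z) * x * z * x := by group
      _ = x * z * (x * x) * z * x := by rw [hzi.sq]; group
      _ = x * (z * z) * x := by rw [hxi.sq]; group
      _ = 1 := by rw [hzi.sq, mul_one, hxi.sq]
  have he1 : e ≠ 1 := by
    intro h1
    have h2 : z = x * z * x := by
      rw [hedef] at h1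
      exact hzi.inv.symm.trans (eq_inv_of_mul_eq_one_left h1).symm
    exact hzi.ne (H.inf_eq hN hsx hne hz (by rw [h2]; exact hzx))
  have hzxz : z * x * z⁻¹ = x * e := by
    rw [hzi.inv]
    calc z * x * z = (x * x) * z * x * z := by rw [hxi.sq, one_mul]
      _ = x * e := by rw [hedef]; group
  have hno1 : ¬ B e L := fun h => hns (H.sim_of_bad hP hNA h hN hz hzi hez)
  have hno2 : ¬ IsT L x e := fun h => hns (H.sim_of_fine hP hNA hB h hN hz hzi hez)
  have hno3 : ¬ B (x * e) L := by
    intro h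
    apply hns
    apply H.sim_of_conj hP hNA (H.Bmem hB) hN hz hzi
    have h1 := H.Bcj z x L hB
    rw [hzxz] at h1
    exact H.one h h1
  rcases H.cenx hB e he hee hex with h | h | ⟨s, hs, h | h⟩
  · exact hno2 ⟨h, hex, hee, he1⟩
  · -- `e` acts as `x`
    by_cases h1 : e * x = 1
    · have h2 : e = x := by rw [← hxi.inv]; exact eq_inv_of_mul_eq_one_left h1
      exact hno1 (h2 ▸ hB)
    · have h3 : IsT L x (e * x) := ⟨h, by rw [hex, mul_assoc, hex], by
        calc e * x * (e * x) = e * (x * e) * x := by group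
          _ = (e * e) * (x * x) := by rw [← hex]; group
          _ = 1 := by rw [hee, hxi.sq, mul_one], h1⟩
      have h4 := H.mul hB h3
      have h5 : x * (e * x) = e := by rw [hex, ← mul_assoc, hxi.sq, one_mul]
      exact hno1 (h5 ▸ h4)
  · -- `e` acts as `s`
    have hxs := H.xs_bad hB hs
    obtain ⟨t, ht⟩ : ∃ t, t = e * s := ⟨_, rfl⟩
    rw [← ht] at h
    have hts : s * t = t * s := comm_of_mem hs.mem h
    have het : e = t * s := by rw [ht, mul_assoc, hs.sq, mul_one]
    have htx : t * x = x * t := by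
      rw [ht]
      calc e * s * x = e * (s * x) := by group
        _ = (e * x) * s := by rw [hs.comm]; group
        _ = x * (e * s) := by rw [hex]; group
    have htt : t * t = 1 := by
      rw [het] at hee
      calc t * t = t * t * (s * s) := by rw [hs.sq, mul_one]
        _ = t * (t * s) * s := by group
        _ = t * (s * t) * s := by rw [← hts]
        _ = t * s * (t * s) := by group
        _ = 1 := hee
    have hxe : x * e = x * s * t := by rw [het, ← hts]; group
    by_cases h1 : t = 1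
    · rw [h1, mul_one] at hxe
      exact hno3 (hxe ▸ hxs)
    · apply hno3
      rw [hxe]
      apply H.mul hxs
      refine ⟨h, ?_, htt, h1⟩
      calc t * (x * s) = (t * x) * s := by group
        _ = x * (t * s) := by rw [htx]; group
        _ = x * s * t := by rw [← hts]; group
  · -- `e` acts as `x s`
    have hxs := H.xs_bad hB hs
    obtain ⟨t, ht⟩ : ∃ t, t = e * x * s := ⟨_, rfl⟩
    rw [← ht] at h
    have hts : s * t = t * s := comm_of_mem hs.mem h
    have het : e = x * s * t := by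
      have h2 : e = t * s * x := by
        rw [ht, mul_assoc (e * x), hs.sq, mul_one, mul_assoc, hxi.sq, mul_one]
      have h3 : t * x = x * t := by
        rw [ht]
        calc e * x * s * x = e * x * (s * x) := by group
          _ = e * x * (x * s) := by rw [hs.comm]
          _ = (e * x) * x * s := by group
          _ = (x * e) * x * s := by rw [hex]
          _ = x * (e * x * s) := by group
      calc e = t * s * x := h2
        _ = t * (x * s) := by rw [mul_assoc, hs.comm]
        _ = (t * x) * s := by group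
        _ = x * (t * s) := by rw [h3]; group
        _ = x * s * t := by rw [← hts]; group
    have htx : t * (x * s) = (x * s) * t := by
      have h3 : t * x = x * t := by
        rw [ht]
        calc e * x * s * x = e * x * (s * x) := by group
          _ = e * x * (x * s) := by rw [hs.comm]
          _ = (e * x) * x * s := by group
          _ = (x * e) * x * s := by rw [hex]
          _ = x * (e * x * s) := by group
      calc t * (x * s) = (t * x) * s := by group
        _ = x * (t * s) := by rw [h3]; group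
        _ = x * s * t := by rw [← hts]; group
    have hxss : x * s * (x * s) = 1 := by
      calc x * s * (x * s) = x * (s * x) * s := by group
        _ = (x * x) * (s * s) := by rw [hs.comm]; group
        _ = 1 := by rw [hxi.sq, hs.sq, mul_one]
    have htt : t * t = 1 := by
      rw [het] at hee
      calc t * t = (x * s * (x * s)) * t * t := by rw [hxss, one_mul]
        _ = (x * s) * ((x * s) * t) * t := by group
        _ = (x * s) * (t * (x * s)) * t := by rw [← htx]
        _ = x * s * t * (x * s * t) := by group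
        _ = 1 := hee
    by_cases h1 : t = 1
    · rw [h1, mul_one] at het
      exact hno1 (het ▸ hxs)
    · apply hno1
      rw [het]
      exact H.mul hxs ⟨h, htx, htt, h1⟩

/-- (8), reduction to `N ≠ N^x` commuting -/
theorem link {x z : G} {L N : Subgroup G} (hB : B x L) (hN : N ∈ Λ) (hz : z ∈ N) (hzi : Inv z)
    (hns : ¬ Sim N L) : ∃ (z' : G) (N' : Subgroup G), N' ∈ Λ ∧ z' ∈ N' ∧ Inv z' ∧ ¬ Sim N' L ∧
      Sim N' (cj x N') ∧ N' ≠ cj x N' := by
  have hxi := H.Binv hB
  have hL := H.Bmem hB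
  obtain ⟨r, hr⟩ : ∃ r, r = x * z := ⟨_, rfl⟩
  have hxr : ∀ i : ℕ, x * (r ^ i)⁻¹ = r ^ i * x := by
    intro i
    have h1 : x * r * x⁻¹ = r⁻¹ := by
      rw [hr, mul_inv_rev, hxi.inv, hzi.inv, ← mul_assoc, hxi.sq, one_mul]
    have h2 : x * r ^ i * x⁻¹ = (r ^ i)⁻¹ := by rw [← conj_pow, h1, inv_pow]
    rw [← h2, hxi.inv]
    calc x * (x * r ^ i * x) = (x * x) * r ^ i * x := by group
      _ = r ^ i * x := by rw [hxi.sq, one_mul]
  have hconj : ∀ k : ℕ, x * ((r ^ k)⁻¹ * z * r ^ k) = r ^ (2 * k + 1) := by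
    intro k
    calc x * ((r ^ k)⁻¹ * z * r ^ k) = (x * (r ^ k)⁻¹) * z * r ^ k := by group
      _ = r ^ k * (x * z) * r ^ k := by rw [hxr]; group
      _ = r ^ (2 * k + 1) := by rw [← hr, ← pow_succ, ← pow_add]; congr 1; omega
  rcases Cfsg.Agent.UGT.Res.ThH.dih hxi.sq hzi.sq with ⟨c, -, hc⟩ | ⟨m, hm, hmo, hmx, hmz⟩
  · -- `x` is conjugate to `z`
    exfalso
    have h1 := H.Bcj c x L hB
    rw [hc] at h1
    exact H.not_mem hP h1 hN hz
  rw [← hr] at hm hmo hmx hmz
  obtain ⟨e, hedef⟩ : ∃ e, e = r ^ m := ⟨_, rfl⟩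
  rw [← hedef] at hmo hmx hmz
  have hee : e * e = 1 := Cfsg.Agent.UGT.Res.ThH.sq hmo
  have he1 : e ≠ 1 := Cfsg.Agent.UGT.Res.ThH.ne_one hmo
  have hm0 : 0 < m := by
    have := orderOf_pos r
    omega
  rcases Nat.even_or_odd m with hev | ⟨k, hk⟩
  · -- `m` even
    obtain ⟨a, b, hb, hab⟩ := Nat.exists_eq_two_pow_mul_odd (n := 2 * m) (by omega)
    obtain ⟨k, hk⟩ := hb
    have ha2 : 2 ≤ a := by
      obtain ⟨m', hm'⟩ := hev
      by_contra hlt
      have : a = 0 ∨ a = 1 := by omega
      rcases this with rfl | rfl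
      · rw [pow_zero, one_mul] at hab; omega
      · rw [pow_one] at hab; omega
    obtain ⟨a', rfl⟩ : ∃ a', a = a' + 2 := ⟨a - 2, by omega⟩
    obtain ⟨z1, hz1⟩ : ∃ z1, z1 = (r ^ k)⁻¹ * z * r ^ k := ⟨_, rfl⟩
    have hxz1 : x * z1 = r ^ b := by rw [hz1, hconj, hk]
    have hz1i : Inv z1 := by
      have := hzi.conj (r ^ k)⁻¹
      rwa [inv_inv, ← hz1] at this
    obtain ⟨N1, hN1⟩ : ∃ N1, N1 = cj (r ^ k)⁻¹ N := ⟨_, rfl⟩
    have hN1Λ : N1 ∈ Λ := hN1 ▸ H.cl N hN _
    have hz1N : z1 ∈ N1 := by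
      have := conj_mem_cj (g := (r ^ k)⁻¹) hz
      rwa [inv_inv, ← hz1, ← hN1] at this
    have hw : x * z1 * x⁻¹ * z1 = r ^ (2 * b) := by
      rw [hxi.inv, two_mul, pow_add, ← hxz1]; group
    have he2 : e = (x * z1 * x⁻¹ * z1) ^ 2 ^ a' := by
      rw [hw, ← pow_mul, hedef]
      congr 1
      have : 2 ^ (a' + 2) = 4 * 2 ^ a' := by rw [pow_add]; ring
      rw [this] at hab
      nlinarith
    have h1 : Sim N1 (cj x N1) := by
      refine H.com hP hNA (a' + 1) hN1Λ (H.cl N1 hN1Λ x) hz1N (conj_mem_cj hz1N) hz1i (hz1i.conj x) ?_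
      have h2 : z1 * (x * z1 * x⁻¹) = (x * z1 * x⁻¹ * z1)⁻¹ := by
        rw [mul_inv_rev, hz1i.inv]
        congr 1
        rw [mul_inv_rev, mul_inv_rev, hz1i.inv, inv_inv]; group
      rw [h2, inv_pow, pow_succ, pow_mul, ← he2, pow_two, hee, inv_one]
    have h2 : ¬ Sim N1 L := by
      intro h3
      by_cases h4 : N1 = L
      · have h5 : e ∈ L := by
          rw [he2]
          refine pow_mem (mul_mem ?_ (h4 ▸ hz1N)) _
          exact L_conj (H.BN hB) (h4 ▸ hz1N)
        have h6 : z ∈ normalizer (L : Set G) := H.ctrl hP hL h5 ⟨hee, he1⟩ hmz.symm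
        exact hns (hNA L hL N hN z hz hzi h6)
      · have h5 : z1 ∈ centralizer (L : Set G) := le_cen_of_sim h3.symm (Ne.symm h4) hz1N
        have h6 : e ∈ centralizer (L : Set G) := by
          rw [he2]
          exact pow_mem (mul_mem (K_conj (H.BN hB) h5) h5) _
        exact hns (H.sim_of_fine hP hNA hB ⟨h6, hmx, hee, he1⟩ hN hz hzi hmz.symm)
    refine ⟨z1, N1, hN1Λ, hz1N, hz1i, h2, h1, ?_⟩
    intro h3
    apply h2
    have h4 : e ∈ N1 := by
      rw [he2]
      refine pow_mem (mul_mem ?_ hz1N) _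
      have := conj_mem_cj (g := x) hz1N
      rwa [← h3] at this
    exact H.sim_of_comm hP hNA hB hN1Λ h4 ⟨hee, he1⟩ hmx
  · -- `m` odd: `x e` is conjugate to `z`
    exfalso
    apply hns
    have h1 : x * e = (r ^ k)⁻¹ * z * r ^ k := by
      rw [hedef, hk, ← hconj, ← mul_assoc, hxi.sq, one_mul]
    obtain ⟨N', hN'⟩ : ∃ N', N' = cj (r ^ k)⁻¹ N := ⟨_, rfl⟩
    have hN'Λ : N' ∈ Λ := hN' ▸ H.cl N hN _
    have h2 : x * e ∈ N' := by
      have := conj_mem_cj (g := (r ^ k)⁻¹) hz
      rwa [inv_inv, ← h1, ← hN'] at this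
    have h3 : Inv (x * e) := by
      have := hzi.conj (r ^ k)⁻¹
      rwa [inv_inv, ← h1] at this
    have h4 : x * e * x = x * (x * e) := by
      rw [mul_assoc, hmx]
    have h5 : Sim N' L := H.sim_of_comm hP hNA hB hN'Λ h2 h3 h4
    have h6 : B e L := by
      by_cases h7 : N' = L
      · -- `x e ∈ L`
        have hs : IsS L x (x * e) := ⟨h7 ▸ h2, h4, h3.sq, h3.ne⟩
        have h8 := H.xs_bad hB hs
        rwa [← mul_assoc, hxi.sq, one_mul] at h8
      · have ht : IsT L x (x * e) :=
          ⟨le_cen_of_sim h5.symm (Ne.symm h7) h2, h4, h3.sq, h3.ne⟩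
        have h8 := H.mul hB ht
        rwa [← mul_assoc, hxi.sq, one_mul] at h8
    exact H.sim_of_bad hP hNA h6 hN hz hzi hmz.symm

/-- Theorem P if every bad `x` is bad for one member only -/
theorem all_of_uniq (hu : ∀ {x : G} {L N : Subgroup G}, B x L → B x N → L = N) :
    ∀ L ∈ Λ, ∀ N ∈ Λ, Sim N L := by
  intro L hL N hN
  by_contra hns
  obtain ⟨x0, L0, N0, hB0, -⟩ := id hP
  obtain ⟨g, rfl⟩ := H.tr L0 (H.Bmem hB0) L hL
  have hB := H.Bcj g x0 L0 hB0
  obtain ⟨z, hz, hzi⟩ := H.even N hN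
  obtain ⟨z', N', hN', hz', hzi', hns', hsx, hne⟩ := H.link hP hNA hB hN hz hzi hns
  obtain ⟨x, hx⟩ : ∃ x, x = g * x0 * g⁻¹ := ⟨_, rfl⟩
  rw [← hx] at hB hsx hne
  apply H.not_norm hP hNA hB hN' hz' hzi' hns' hsx hne
  have hxi := H.Binv hB
  have hzx : x * z' * x ∈ cj x N' := by
    have := conj_mem_cj (g := x) hz'
    rwa [hxi.inv] at this
  have hc : z' * (x * z' * x) = x * z' * x * z' := comm_of_sim hsx hne hz' hzx
  have hex : (x * z' * x * z') * x * (x * z' * x * z')⁻¹ = x := by
    rw [mul_inv_eq_iff_eq_mul]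
    calc (x * z' * x * z') * x = x * (z' * (x * z' * x)) := by group
      _ = x * (x * z' * x * z') := by rw [hc]
  have h1 := H.Bcj (x * z' * x * z') x (cj g L0) hB
  rw [hex] at h1
  rw [mem_normalizer_iff_cj]
  exact (hu hB h1).symm

end Cfsg.Agent.UGT.Paired.Basic.Hyp
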