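import Cfsg.Agent.UGT.Paired.Basic

/-!
# Theorem P, (1): `star`, `perm`, `n1`

* `Hyp.star`: `N ≤ N(L)` implies `N = L` or `[N, L] = 1`;
* `Hyp.perm`: if `N ∈ Λ` permutes a set of pairwise commuting members, then it normalizes (is `Sim` to) each;
* `Hyp.n1`: if `Cp L z` and `N ≤ C(z)`, then `Sim N L`.
-/

set_option autoImplicit false

open Subgroup
open Cfsg.Agent.SignalizersComponents.IntrinsicBasic
open Cfsg.Agent.UGT.ThE.Base
open Cfsg.Agent.UGT.Paired.Basic

namespace Cfsg.Agent.UGT.Paired.Perm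

variable {G : Type*} [Group G]

/-! ### products over cyclic orbits -/

/-- `n · n^y ⋯ n^(y^(k-1))` -/
def pr (y : G) : ℕ → G → G
  | 0, _ => 1
  | k + 1, n => n * (y * pr y k n * y⁻¹)

theorem pr_succ (y n : G) (k : ℕ) : pr y (k + 1) n = pr y k n * (y ^ k * n * (y ^ k)⁻¹) := by
  induction k with
  | zero => simp [pr]
  | succ k ih =>
    have h1 : pr y (k + 1 + 1) n = n * (y * pr y (k + 1) n * y⁻¹) := rfl
    have h2 : pr y (k + 1) n = n * (y * pr y k n * y⁻¹) := rfl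
    calc pr y (k + 1 + 1) n = n * (y * pr y (k + 1) n * y⁻¹) := rfl
      _ = n * (y * (pr y k n * (y ^ k * n * (y ^ k)⁻¹)) * y⁻¹) := by rw [ih]
      _ = n * (y * pr y k n * y⁻¹) * (y * y ^ k * n * (y * y ^ k)⁻¹) := by group
      _ = pr y (k + 1) n * (y ^ (k + 1) * n * (y ^ (k + 1))⁻¹) := by rw [← h2, ← pow_succ']

theorem comm_pr {y n m : G} {k : ℕ}
    (h : ∀ i, i < k → m * (y ^ i * n * (y ^ i)⁻¹) = (y ^ i * n * (y ^ i)⁻¹) * m) :
    m * pr y k n = pr y k n * m := by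
  induction k with
  | zero => simp [pr]
  | succ k ih =>
    have h1 := ih fun i hi => h i (Nat.lt_succ_of_lt hi)
    have h2 := h k (Nat.lt_succ_self k)
    rw [pr_succ]
    calc m * (pr y k n * (y ^ k * n * (y ^ k)⁻¹)) = (m * pr y k n) * (y ^ k * n * (y ^ k)⁻¹) := by group
      _ = pr y k n * (m * (y ^ k * n * (y ^ k)⁻¹)) := by rw [h1, mul_assoc]
      _ = pr y k n * (y ^ k * n * (y ^ k)⁻¹) * m := by rw [h2, ← mul_assoc]

/-- the conjugates of `L` under the powers of `y` commute -/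
def Cyc (L : Subgroup G) (y : G) (p : ℕ) : Prop :=
  ∀ i, i < p → ∀ j, j < p → i ≠ j → ∀ a ∈ L, ∀ b ∈ L,
    (y ^ i * a * (y ^ i)⁻¹) * (y ^ j * b * (y ^ j)⁻¹) = (y ^ j * b * (y ^ j)⁻¹) * (y ^ i * a * (y ^ i)⁻¹)

theorem pr_self {L : Subgroup G} {y : G} {p : ℕ} (hc : Cyc L y p) {a : G} (ha : a ∈ L)
    {k : ℕ} (hk : k ≤ p) : a * pr y k a = pr y k a * a := by
  induction k with
  | zero => simp [pr]
  | succ k ih =>
    have h1 := ih (by omega)
    have h2 : a * (y ^ k * a * (y ^ k)⁻¹) = (y ^ k * a * (y ^ k)⁻¹) * a := by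
      rcases Nat.eq_zero_or_pos k with h0 | h0
      · subst h0; simp
      · have := hc 0 (by omega) k (by omega) (by omega) a ha a ha
        simpa using this
    rw [pr_succ]
    calc a * (pr y k a * (y ^ k * a * (y ^ k)⁻¹)) = (a * pr y k a) * (y ^ k * a * (y ^ k)⁻¹) := by group
      _ = pr y k a * (a * (y ^ k * a * (y ^ k)⁻¹)) := by rw [h1, mul_assoc]
      _ = pr y k a * (y ^ k * a * (y ^ k)⁻¹) * a := by rw [h2, ← mul_assoc]

theorem pr_fix {L : Subgroup G} {y : G} {p : ℕ} (hc : Cyc L y p) {a : G} (ha : a ∈ L)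
    (hy : a * y ^ p = y ^ p * a) : pr y p a * y = y * pr y p a := by
  have h1 : a * (y * pr y p a * y⁻¹) = pr y p a * (y ^ p * a * (y ^ p)⁻¹) := by
    rw [← pr_succ]; rfl
  rw [← hy, mul_inv_cancel_right, ← pr_self hc ha le_rfl] at h1
  have h2 := mul_left_cancel h1
  calc pr y p a * y = y * pr y p a * y⁻¹ * y := by rw [h2]
    _ = y * pr y p a := by group

theorem pr_mem {K : Subgroup G} {y n : G} {k : ℕ} (h : ∀ i, i < k → y ^ i * n * (y ^ i)⁻¹ ∈ K) :
    pr y k n ∈ K := by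
  induction k with
  | zero => exact one_mem K
  | succ k ih =>
    rw [pr_succ]
    exact mul_mem (ih fun i hi => h i (Nat.lt_succ_of_lt hi)) (h k (Nat.lt_succ_self k))

end Cfsg.Agent.UGT.Paired.Perm

namespace Cfsg.Agent.UGT.Paired.Basic.Hyp

open Cfsg.Agent.UGT.Paired.Perm

variable {G : Type*} [Group G] {Λ : Set (Subgroup G)} {B : G → Subgroup G → Prop}
  {Y : Subgroup G → G → Prop}

theorem card_cj (g : G) (L : Subgroup G) : Nat.card (cj g L) = Nat.card L :=
  (Nat.card_congr ((MulAut.conj g).subgroupMap L).toEquiv).symm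

section

variable (H : Hyp Λ B Y)
include H

theorem card_eq {L N : Subgroup G} (hL : L ∈ Λ) (hN : N ∈ Λ) : Nat.card L = Nat.card N := by
  obtain ⟨g, rfl⟩ := H.tr L hL N hN
  exact (card_cj g L).symm

theorem ne_bot {L : Subgroup G} (hL : L ∈ Λ) : L ≠ ⊥ := by
  rintro rfl
  obtain ⟨u, hu, hi⟩ := H.even ⊥ hL
  exact hi.ne (mem_bot.mp hu)

theorem not_abel {L : Subgroup G} (hL : L ∈ Λ) : ¬ ∀ a ∈ L, ∀ b ∈ L, a * b = b * a := by
  intro h
  apply H.ne_bot hL
  rw [← H.perf L hL, eq_bot_iff, commutator_le]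
  intro a ha b hb
  rw [mem_bot, commutatorElement_eq_one_iff_mul_comm]
  exact h a ha b hb

theorem disj {L : Subgroup G} (hL : L ∈ Λ) {l : G} (hl : l ∈ L) (hk : l ∈ centralizer (L : Set G)) :
    l = 1 := by
  rcases H.simp L hL (L ⊓ centralizer (L : Set G)) inf_le_left (fun l hl n hn =>
    mem_inf.mpr ⟨mul_mem (mul_mem hl hn.1) (inv_mem hl), K_conj (L_le_M hl) hn.2⟩) with h | h
  · exact mem_bot.mp (h ▸ (⟨hl, hk⟩ : l ∈ L ⊓ centralizer (L : Set G)))
  · exfalso
    apply H.not_abel hL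
    intro a ha b hb
    have : b ∈ L ⊓ centralizer (L : Set G) := h.symm ▸ hb
    exact comm_of_mem ha this.2

/-- `N ≤ N(L)` not centralizing `L` is faithful on `L` -/
theorem faithful {L N : Subgroup G} (hN : N ∈ Λ) (h : N ≤ normalizer (L : Set G))
    (hnc : ¬ N ≤ centralizer (L : Set G)) {n : G} (hn : n ∈ N) (hk : n ∈ centralizer (L : Set G)) :
    n = 1 := by
  rcases H.simp N hN (N ⊓ centralizer (L : Set G)) inf_le_left (fun l hl n hn =>
    mem_inf.mpr ⟨mul_mem (mul_mem hl hn.1) (inv_mem hl), K_conj (h hl) hn.2⟩) with h | h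
  · exact mem_bot.mp (h ▸ (⟨hn, hk⟩ : n ∈ N ⊓ centralizer (L : Set G)))
  · exfalso
    apply hnc
    intro n hn
    have : n ∈ N ⊓ centralizer (L : Set G) := h.symm ▸ hn
    exact this.2

/-- (1), (*) -/
theorem star [Finite G] {L N : Subgroup G} (hL : L ∈ Λ) (hN : N ∈ Λ)
    (h : N ≤ normalizer (L : Set G)) : Sim N L := by
  by_cases hnc : N ≤ centralizer (L : Set G)
  · right
    intro n hn l hl
    exact (comm_of_mem hl (hnc hn)).symm
  choose f hf using fun n : N => H.inn L hL N h (H.perf N hN) n.1 n.2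
  have hinj : Function.Injective (fun n : N => (⟨f n, (hf n).1⟩ : L)) := by
    intro a b hab
    have h2 : f a = f b := congrArg Subtype.val hab
    have h3 := mul_mem (hf a).2 (inv_mem (hf b).2)
    rw [h2] at h3
    have h4 : (a : G) * f b * ((b : G) * f b)⁻¹ = (a : G) * (b : G)⁻¹ := by group
    rw [h4] at h3
    have h5 := H.faithful hN h hnc (mul_mem a.2 (inv_mem b.2)) h3
    exact Subtype.ext (mul_inv_eq_one.mp h5)
  have hsurj := (hinj.bijective_of_nat_card_le (H.card_eq hL hN).le).2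
  -- the elements of `N` whose image in `L` normalizes `N`
  let S : Subgroup G :=
    { carrier := {n | ∃ l ∈ L, n * l ∈ centralizer (L : Set G) ∧ l ∈ normalizer (N : Set G)}
      one_mem' := ⟨1, one_mem L, by rw [one_mul]; exact one_mem _, one_mem _⟩
      mul_mem' := by
        rintro a b ⟨l, hl, hal, hlN⟩ ⟨m, hm, hbm, hmN⟩
        refine ⟨m * l, mul_mem hm hl, ?_, mul_mem hmN hlN⟩
        have h1 : l * (b * m) = b * m * l := comm_of_mem hl hbm
        have h2 : a * b * (m * l) = a * l * (b * m) := by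
          calc a * b * (m * l) = a * (b * m * l) := by group
            _ = a * (l * (b * m)) := by rw [h1]
            _ = a * l * (b * m) := by group
        rw [h2]
        exact mul_mem hal hbm
      inv_mem' := by
        rintro a ⟨l, hl, hal, hlN⟩
        refine ⟨l⁻¹, inv_mem hl, ?_, inv_mem hlN⟩
        have h1 : l * (a * l) = a * l * l := comm_of_mem hl hal
        have h2 : l * a = a * l := mul_right_cancel (by rw [← h1]; group : l * a * l = a * l * l)
        have h3 : a⁻¹ * l⁻¹ = (a * l)⁻¹ := by rw [← h2, mul_inv_rev]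
        rw [h3]
        exact inv_mem hal }
  have hNS : N ≤ S := by
    apply H.gen N hN
    intro y hy
    obtain ⟨-, hyN, -, -⟩ := H.Ymem hy
    refine ⟨f ⟨y, hyN⟩, (hf ⟨y, hyN⟩).1, (hf ⟨y, hyN⟩).2, H.H hy _ ?_⟩
    have h1 := comm_of_mem (hf ⟨y, hyN⟩).1 (hf ⟨y, hyN⟩).2
    change f ⟨y, hyN⟩ * (y * f ⟨y, hyN⟩) = y * f ⟨y, hyN⟩ * f ⟨y, hyN⟩ at h1
    exact mul_right_cancel (by rw [← h1]; group : f ⟨y, hyN⟩ * y * f ⟨y, hyN⟩ =
      y * f ⟨y, hyN⟩ * f ⟨y, hyN⟩)
  have h1 : L ≤ normalizer (N : Set G) := by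
    intro l hl
    obtain ⟨n, hn⟩ := hsurj ⟨l, hl⟩
    have h2 : f n = l := congrArg Subtype.val hn
    obtain ⟨m, hm, hnm, hmN⟩ := hNS n.2
    have h3 : (n : G) * f n ∈ centralizer (L : Set G) := (hf n).2
    have h4 : (n * m)⁻¹ * (n * f n) ∈ centralizer (L : Set G) := mul_mem (inv_mem hnm) h3
    have h5 : ((n : G) * m)⁻¹ * (n * f n) = m⁻¹ * f n := by group
    rw [h5] at h4
    have h6 := H.disj hL (mul_mem (inv_mem hm) (hf n).1) h4
    rw [← h2, ← inv_mul_eq_one.mp h6]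
    exact hmN
  rcases H.simp L hL (L ⊓ N) inf_le_left (fun l hl n hn => mem_inf.mpr
    ⟨mul_mem (mul_mem hl hn.1) (inv_mem hl), L_conj (h1 hl) hn.2⟩) with h2 | h2
  · right
    intro n hn l hl
    have h3 : n * l * n⁻¹ * l⁻¹ ∈ L ⊓ N := by
      refine mem_inf.mpr ⟨mul_mem (L_conj (h hn) hl) (inv_mem hl), ?_⟩
      have : n * l * n⁻¹ * l⁻¹ = n * (l * n⁻¹ * l⁻¹) := by group
      rw [this]
      exact mul_mem hn (L_conj (h1 hl) (inv_mem hn))
    rw [h2, mem_bot] at h3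
    calc n * l = n * l * n⁻¹ * l⁻¹ * (l * n) := by group
      _ = l * n := by rw [h3, one_mul]
  · left
    have h3 : L ≤ N := by
      intro l hl
      have : l ∈ L ⊓ N := h2.symm ▸ hl
      exact this.2
    exact (eq_of_le_of_card_ge h3 (H.card_eq hN hL).le).symm

/-- (1), PERM -/
theorem perm [Finite G] {L' : Subgroup G} (hL' : L' ∈ Λ) {Ω : Set (Subgroup G)}
    (hΩ : ∀ N ∈ Ω, N ∈ Λ) (hc : ∀ N ∈ Ω, ∀ N' ∈ Ω, Sim N N') (hp : ∀ l ∈ L', ∀ N ∈ Ω, cj l N ∈ Ω)
    {N : Subgroup G} (hN : N ∈ Ω) : Sim L' N := by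
  apply H.star (hΩ N hN) hL'
  apply H.gen L' hL'
  intro y hyY
  obtain ⟨-, hy, hy1, hyo⟩ := H.Ymem hyY
  by_contra hmv
  -- the orbit of `N`
  have hex : ∃ m, 0 < m ∧ y ^ m ∈ normalizer (N : Set G) :=
    ⟨orderOf y, orderOf_pos y, by rw [pow_orderOf_eq_one]; exact one_mem _⟩
  obtain ⟨m, ⟨hm0, hmN⟩, hmin⟩ : ∃ m, (0 < m ∧ y ^ m ∈ normalizer (N : Set G)) ∧
      ∀ k, k < m → ¬ (0 < k ∧ y ^ k ∈ normalizer (N : Set G)) := by
    classical
    exact ⟨Nat.find hex, Nat.find_spec hex, fun k hk => Nat.find_min hex hk⟩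
  have hdvd : ∀ k : ℕ, y ^ k ∈ normalizer (N : Set G) → m ∣ k := by
    intro k hk
    rw [Nat.dvd_iff_mod_eq_zero]
    by_contra h0
    apply hmin (k % m) (Nat.mod_lt k hm0)
    refine ⟨Nat.pos_of_ne_zero h0, ?_⟩
    have h1 : y ^ k = (y ^ m) ^ (k / m) * y ^ (k % m) := by
      rw [← pow_mul, ← pow_add, Nat.div_add_mod]
    have h2 : y ^ (k % m) = ((y ^ m) ^ (k / m))⁻¹ * y ^ k := by rw [h1]; group
    rw [h2]
    exact mul_mem (inv_mem (pow_mem hmN _)) hk
  have hmem : ∀ i : ℕ, cj (y ^ i) N ∈ Ω := fun i => hp _ (pow_mem hy i) N hN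
  have horb_ne : ∀ i, i < m → ∀ j, j < m → i ≠ j → cj (y ^ i) N ≠ cj (y ^ j) N := by
    have key : ∀ i, i < m → ∀ j, j < m → i < j → cj (y ^ i) N ≠ cj (y ^ j) N := by
      intro i hi j hj hlt h
      have h2 : y ^ j = y ^ i * y ^ (j - i) := by rw [← pow_add]; congr 1; omega
      rw [h2, cj_mul] at h
      have h3 := hdvd (j - i) (mem_normalizer_iff_cj.mpr (cj_injective _ h).symm)
      exact absurd (Nat.le_of_dvd (by omega) h3) (by omega)
    intro i hi j hj hij
    rcases Nat.lt_or_gt_of_ne hij with h | h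
    · exact key i hi j hj h
    · exact (key j hj i hi h).symm
  have hcyc : Cyc N y m := by
    intro i hi j hj hij a ha b hb
    rcases hc _ (hmem i) _ (hmem j) with h | h
    · exact absurd h (horb_ne i hi j hj hij)
    · exact h _ (conj_mem_cj ha) _ (conj_mem_cj hb)
  obtain ⟨c, hcN, hc1, hcy⟩ := H.fixo N (hΩ N hN) (y ^ m) hmN (hyo.of_dvd_nat (orderOf_pow_dvd m))
  obtain ⟨d, hd⟩ : ∃ d, d = pr y m c := ⟨_, rfl⟩
  have hdy : d * y = y * d := by rw [hd]; exact pr_fix hcyc hcN hcy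
  have hdN : d ∈ normalizer (L' : Set G) := H.H hyY d hdy
  have hdΩ : ∀ K ∈ Ω, d ∈ normalizer (K : Set G) := by
    intro K hK
    rw [hd]
    apply pr_mem
    intro i _
    have h1 : y ^ i * c * (y ^ i)⁻¹ ∈ cj (y ^ i) N := conj_mem_cj hcN
    rcases hc K hK _ (hmem i) with h | h
    · rw [h]; exact le_normalizer h1
    · exact K_le_M (mem_cen.mpr fun l hl => h l hl _ h1)
  -- `L'` commutes with `d`
  have hdL : ∀ l ∈ L', l * d = d * l := by
    obtain ⟨K, hK⟩ : ∃ K : Subgroup G, K = ⨅ N ∈ Ω, normalizer (N : Set G) := ⟨_, rfl⟩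
    have hmemK : ∀ g, g ∈ K ↔ ∀ N ∈ Ω, g ∈ normalizer (N : Set G) := by
      intro g
      rw [hK]
      simp only [mem_iInf]
    have hconj : ∀ l ∈ L', ∀ g ∈ K, l * g * l⁻¹ ∈ K := by
      intro l hl g hg
      rw [hmemK] at hg ⊢
      intro M hM
      have h1 := mem_normalizer_iff_cj.mp (hg _ (hp l⁻¹ (inv_mem hl) M hM))
      rw [mem_normalizer_iff_cj, cj_mul, cj_mul, h1, cj_cj_inv]
    rcases H.simp L' hL' (L' ⊓ K) inf_le_left (fun l hl n hn => mem_inf.mpr
      ⟨mul_mem (mul_mem hl hn.1) (inv_mem hl), hconj l hl n hn.2⟩) with h | h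
    · intro l hl
      have h1 : l * d * l⁻¹ * d⁻¹ ∈ L' ⊓ K := by
        refine mem_inf.mpr ⟨?_, ?_⟩
        · have : l * d * l⁻¹ * d⁻¹ = l * (d * l⁻¹ * d⁻¹) := by group
          rw [this]
          exact mul_mem hl (L_conj hdN (inv_mem hl))
        · exact mul_mem (hconj l hl d ((hmemK d).mpr hdΩ)) (inv_mem ((hmemK d).mpr hdΩ))
      rw [h, mem_bot] at h1
      calc l * d = l * d * l⁻¹ * d⁻¹ * (d * l) := by group
        _ = d * l := by rw [h1, one_mul]
    · exfalso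
      apply hmv
      have h1 : y ∈ L' ⊓ K := h.symm ▸ hy
      exact (hmemK y).mp h1.2 N hN
  -- `L'` permutes the orbit
  have horb : ∀ l ∈ L', ∃ i < m, cj l N = cj (y ^ i) N := by
    intro l hl
    by_contra hno
    push Not at hno
    apply hc1
    apply H.disj (hΩ N hN) hcN
    rw [mem_cen]
    intro n hn
    have h1 : ∀ i, i < m → (l * n * l⁻¹) * (y ^ i * c * (y ^ i)⁻¹) =
        (y ^ i * c * (y ^ i)⁻¹) * (l * n * l⁻¹) := by
      intro i hi
      rcases hc _ (hp l hl N hN) _ (hmem i) with h | h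
      · exact absurd h (hno i hi)
      · exact h _ (conj_mem_cj hn) _ (conj_mem_cj hcN)
    have h2 := comm_pr h1
    rw [← hd] at h2
    have h3 := hdL l hl
    have h4 : n * d = d * n := by
      have h5 : l⁻¹ * d * l = d := by
        rw [mul_assoc, ← h3, ← mul_assoc, inv_mul_cancel, one_mul]
      calc n * d = n * (l⁻¹ * d * l) := by rw [h5]
        _ = l⁻¹ * ((l * n * l⁻¹) * d) * l := by group
        _ = l⁻¹ * (d * (l * n * l⁻¹)) * l := by rw [h2]
        _ = (l⁻¹ * d * l) * n := by group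
        _ = d * n := by rw [h5]
    obtain ⟨k, rfl⟩ : ∃ k, m = k + 1 := ⟨m - 1, by omega⟩
    have h6 : n * (y * pr y k c * y⁻¹) = (y * pr y k c * y⁻¹) * n := by
      have h7 : (y⁻¹ * n * y) * pr y k c = pr y k c * (y⁻¹ * n * y) := by
        apply comm_pr
        intro i hi
        have h8 := hcyc 0 (by omega) (i + 1) (by omega) (by omega) n hn c hcN
        rw [pow_zero, one_mul, inv_one, mul_one] at h8
        have h9 : y ^ (i + 1) = y * y ^ i := pow_succ' y i
        calc (y⁻¹ * n * y) * (y ^ i * c * (y ^ i)⁻¹)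
            = y⁻¹ * (n * ((y * y ^ i) * c * (y * y ^ i)⁻¹)) * y := by group
          _ = y⁻¹ * (((y * y ^ i) * c * (y * y ^ i)⁻¹) * n) * y := by rw [← h9, h8]
          _ = (y ^ i * c * (y ^ i)⁻¹) * (y⁻¹ * n * y) := by group
      calc n * (y * pr y k c * y⁻¹) = y * ((y⁻¹ * n * y) * pr y k c) * y⁻¹ := by group
        _ = y * (pr y k c * (y⁻¹ * n * y)) * y⁻¹ := by rw [h7]
        _ = _ := by group
    have h10 : d = c * (y * pr y k c * y⁻¹) := hd
    rw [h10] at h4
    have h11 : n * c * (y * pr y k c * y⁻¹) = c * n * (y * pr y k c * y⁻¹) := by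
      calc n * c * (y * pr y k c * y⁻¹) = n * (c * (y * pr y k c * y⁻¹)) := by group
        _ = c * (y * pr y k c * y⁻¹) * n := h4
        _ = c * ((y * pr y k c * y⁻¹) * n) := by group
        _ = c * (n * (y * pr y k c * y⁻¹)) := by rw [h6]
        _ = _ := by group
    exact mul_right_cancel h11
  let act : MulAction L' (Subgroup G) :=
    { smul := fun l K => cj (l : G) K
      one_smul := fun K => cj_one K
      mul_smul := fun a b K => cj_mul (a : G) (b : G) K }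
  have hst : MulAction.stabilizer L' N ≠ ⊤ := by
    intro h
    have h1 : (⟨y, hy⟩ : L') ∈ MulAction.stabilizer L' N := by rw [h]; trivial
    apply hmv
    rw [mem_normalizer_iff_cj]
    exact h1
  apply H.idx hyY (MulAction.stabilizer L' N) hst
  rw [MulAction.index_stabilizer]
  have h1 : MulAction.orbit L' N = (fun i : ℕ => cj (y ^ i) N) '' (Set.Iio m) := by
    ext K
    constructor
    · rintro ⟨l, rfl⟩
      obtain ⟨i, hi, h⟩ := horb l l.2
      exact ⟨i, hi, h.symm⟩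
    · rintro ⟨i, hi, rfl⟩
      exact ⟨⟨y ^ i, pow_mem hy i⟩, rfl⟩
  have h2 : (MulAction.orbit L' N).ncard = m := by
    rw [h1, Set.InjOn.ncard_image]
    · have : (Set.Iio m : Set ℕ) = ↑(Finset.range m) := by ext; simp
      rw [this, Set.ncard_coe_finset, Finset.card_range]
    · intro i hi j hj hij
      by_contra hne
      exact horb_ne i hi j hj hne hij
  rw [h2]
  exact hdvd _ (by rw [pow_orderOf_eq_one]; exact one_mem _)

/-- (1), N1 -/
theorem n1 [Finite G] {L N : Subgroup G} {z : G} (hL : L ∈ Λ) (hN : N ∈ Λ) (h : Cp L z)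
    (hz : ∀ n ∈ N, n * z = z * n) : Sim N L := by
  have h1 := H.perm hN (Ω := {K | ∃ c, c * z = z * c ∧ K = cj c L}) (by
    rintro _ ⟨c, -, rfl⟩
    exact H.cl L hL c) (by
    rintro _ ⟨c, hc, rfl⟩ _ ⟨d, hd, rfl⟩
    have h2 : (c⁻¹ * d) * z = z * (c⁻¹ * d) := by
      have h3 : c⁻¹ * z = z * c⁻¹ := by
        calc c⁻¹ * z = c⁻¹ * (z * c) * c⁻¹ := by group
          _ = c⁻¹ * (c * z) * c⁻¹ := by rw [hc]
          _ = z * c⁻¹ := by group
      calc (c⁻¹ * d) * z = c⁻¹ * (d * z) := by group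
        _ = (c⁻¹ * z) * d := by rw [hd]; group
        _ = z * (c⁻¹ * d) := by rw [h3]; group
    have h4 := sim_cj (h _ h2) c
    rwa [← cj_mul, mul_inv_cancel_left] at h4) (by
    rintro l hl _ ⟨c, hc, rfl⟩
    refine ⟨l * c, ?_, (cj_mul l c L).symm⟩
    calc l * c * z = l * (c * z) := by group
      _ = (l * z) * c := by rw [hc]; group
      _ = z * (l * c) := by rw [hz l hl]; group) (N := L) ⟨1, by simp, (cj_one L).symm⟩
  exact h1

end

end Cfsg.Agent.UGT.Paired.Basic.Hyp
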