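import Cfsg.Agent.UGT.Paired.Perm

/-!
# Theorem P, (2), (3): partners, twins, TI, control

* `Hyp.cp_of_bad`, `Hyp.tw_of_bad`: if `x` is bad for `L` and normalizes `N ≠ L`, `[N, L] = 1`, then
  `Cp L u` for all involutions `u` of `N`, and `L`, `N` are twins (`Tw`: the same members are `Sim` to them);
* `Hyp.partner` (under `Pair`): every `L ∈ Λ` has a partner;
* `Hyp.ti`: different members have no involution in common; `Hyp.ctrl`: `C(u) ≤ N(L)` for `u ∈ L`.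
-/

set_option autoImplicit false

open Subgroup
open Cfsg.Agent.SignalizersComponents.IntrinsicBasic
open Cfsg.Agent.UGT.ThE.Base
open Cfsg.Agent.UGT.Paired.Basic

namespace Cfsg.Agent.UGT.Paired.Twin

variable {G : Type*} [Group G]

/-- Some `x` bad for `L` normalizes a member `N ≠ L` commuting with `L`. -/
def Pair (Λ : Set (Subgroup G)) (B : G → Subgroup G → Prop) : Prop :=
  ∃ (x : G) (L N : Subgroup G), B x L ∧ N ∈ Λ ∧ N ≠ L ∧ Sim N L ∧ x ∈ normalizer (N : Set G)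

/-- the same members of `Λ` are `Sim` to `L` and to `N` -/
def Tw (Λ : Set (Subgroup G)) (L N : Subgroup G) : Prop := ∀ K ∈ Λ, Sim K L ↔ Sim K N

/-- different commuting members: elements commute -/
theorem comm_of_sim {L N : Subgroup G} (h : Sim L N) (hne : L ≠ N) {l n : G} (hl : l ∈ L)
    (hn : n ∈ N) : l * n = n * l := by
  rcases h with h | h
  · exact absurd h hne
  · exact h l hl n hn

theorem le_cen_of_sim {L N : Subgroup G} (h : Sim L N) (hne : L ≠ N) {n : G} (hn : n ∈ N) :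
    n ∈ centralizer (L : Set G) :=
  mem_cen.mpr fun _ hl => comm_of_sim h hne hl hn

theorem mem_normalizer_of_sim {L N : Subgroup G} (h : Sim L N) {n : G} (hn : n ∈ N) :
    n ∈ normalizer (L : Set G) := by
  rcases h with rfl | h
  · exact le_normalizer hn
  · exact K_le_M (mem_cen.mpr fun l hl => h l hl n hn)

theorem cj_of_sim {L N : Subgroup G} (h : Sim L N) {n : G} (hn : n ∈ N) : cj n L = L :=
  mem_normalizer_iff_cj.mp (mem_normalizer_of_sim h hn)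

/-- Sylow 2-subgroups of a subgroup -/
theorem exists_syl [Finite G] (M A : Subgroup G) (hA : IsPGroup 2 A) (hAM : A ≤ M) :
    ∃ S : Subgroup G, A ≤ S ∧ S ≤ M ∧ IsPGroup 2 S ∧
      ∀ T : Subgroup G, T ≤ M → IsPGroup 2 T → ∃ m ∈ M, ∀ t ∈ T, m * t * m⁻¹ ∈ S := by
  have : Fact (Nat.Prime 2) := ⟨Nat.prime_two⟩
  obtain ⟨S, hS⟩ := (hA.of_injective (subgroupOfEquivOfLe hAM).toMonoidHom
    (subgroupOfEquivOfLe hAM).injective).exists_le_sylow
  have hmem : ∀ y ∈ S.1.map M.subtype, ∃ h : y ∈ M, (⟨y, h⟩ : M) ∈ (S : Subgroup M) := by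
    rintro _ ⟨y, hy, rfl⟩
    exact ⟨y.2, hy⟩
  refine ⟨S.1.map M.subtype, ?_, ?_, S.2.map _, ?_⟩
  · intro a ha
    exact ⟨⟨a, hAM ha⟩, hS (mem_subgroupOf.mpr ha), rfl⟩
  · intro y hy
    exact (hmem y hy).1
  · intro T hTM hT
    obtain ⟨P, hP⟩ := (hT.of_injective (subgroupOfEquivOfLe hTM).toMonoidHom
      (subgroupOfEquivOfLe hTM).injective).exists_le_sylow
    obtain ⟨m, hm⟩ := MulAction.exists_smul_eq M P S
    refine ⟨m, m.2, fun t ht => ?_⟩
    have h1 : (⟨t, hTM ht⟩ : M) ∈ (P : Subgroup M) := hP (mem_subgroupOf.mpr ht)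
    have h2 : m * ⟨t, hTM ht⟩ * m⁻¹ ∈ (S : Subgroup M) := by
      rw [← hm, Sylow.coe_subgroup_smul, mem_pointwise_smul_iff_inv_smul_mem]
      simpa [MulAut.smul_def, mul_assoc] using h1
    exact ⟨_, h2, rfl⟩

theorem isPGroup_zpowers {z : G} (h : z * z = 1) : IsPGroup 2 (zpowers z) := by
  rintro ⟨y, hy⟩
  obtain ⟨n, rfl⟩ := mem_zpowers_iff.mp hy
  refine ⟨1, Subtype.ext ?_⟩
  change (z ^ n) ^ 2 ^ 1 = 1
  rw [pow_one, pow_two, ← zpow_add, ← two_mul, zpow_mul]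
  have : z ^ (2 : ℤ) = 1 := by rw [zpow_two]; exact h
  rw [this, one_zpow]

/-- an element of order at most two normalizing a subgroup `L` of even order commutes with an involution of `L` -/
theorem exists_comm_inv [Finite G] {L : Subgroup G} {u z : G} (hu : u ∈ L) (hui : Inv u)
    (hz : z ∈ normalizer (L : Set G)) (hzz : z * z = 1) : ∃ v ∈ L, Inv v ∧ v * z = z * v := by
  obtain ⟨S, hAS, hSM, hS, hconj⟩ := exists_syl (normalizer (L : Set G)) (zpowers z)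
    (isPGroup_zpowers hzz) (zpowers_le.mpr hz)
  obtain ⟨m, hm, hmu⟩ := hconj (zpowers u) (zpowers_le.mpr (le_normalizer hu)) (isPGroup_zpowers hui.sq)
  have h1 := hmu u (mem_zpowers u)
  obtain ⟨w, hw, hww, hw1, hwS⟩ := exists_central hS (N := S ⊓ L) inf_le_left
    (fun s hs n hn => mem_inf.mpr ⟨mul_mem (mul_mem hs hn.1) (inv_mem hs), L_conj (hSM hs) hn.2⟩) (by
      intro h
      have h2 : m * u * m⁻¹ ∈ S ⊓ L := ⟨h1, L_conj hm hu⟩
      rw [h, mem_bot] at h2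
      exact (hui.conj m).ne h2)
  exact ⟨w, hw.2, ⟨hww, hw1⟩, hwS z (hAS (mem_zpowers z))⟩

end Cfsg.Agent.UGT.Paired.Twin

namespace Cfsg.Agent.UGT.Paired.Basic.Hyp

open Cfsg.Agent.UGT.Paired.Twin

variable {G : Type*} [Group G] [Finite G] {Λ : Set (Subgroup G)} {B : G → Subgroup G → Prop}
  {Y : Subgroup G → G → Prop}

variable (H : Hyp Λ B Y)
include H

theorem cinv {L : Subgroup G} (hL : L ∈ Λ) {z : G} (hz : z ∈ normalizer (L : Set G))
    (hzz : z * z = 1) : ∃ v ∈ L, Inv v ∧ v * z = z * v := by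
  obtain ⟨u, hu, hui⟩ := H.even L hL
  exact exists_comm_inv hu hui hz hzz

omit [Finite G] in
theorem inf_eq {L N : Subgroup G} (hL : L ∈ Λ) (h : Sim L N) (hne : L ≠ N) {l : G} (hl : l ∈ L)
    (hn : l ∈ N) : l = 1 :=
  H.disj hL hl (le_cen_of_sim h hne hn)

/-- (2), first half -/
theorem cp_of_bad {x : G} {L N : Subgroup G} (hB : B x L) (hN : N ∈ Λ) (hne : N ≠ L) (hs : Sim N L)
    (hx : x ∈ normalizer (N : Set G)) {u : G} (hu : u ∈ N) (hui : Inv u) : Cp L u := by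
  obtain ⟨v, hv, hvi, hvx⟩ := H.cinv hN hx (H.Binv hB).sq
  have h1 := H.cmp hB (t := v) ⟨le_cen_of_sim hs.symm hne.symm hv, hvx, hvi.sq, hvi.ne⟩
  obtain ⟨n, hn, rfl⟩ := H.cls N hN v hv u hu hvi hui
  have h2 := cp_cj h1 n
  rwa [cj_of_sim hs.symm hn] at h2

theorem lam_le {x : G} {L N : Subgroup G} (hB : B x L) (hN : N ∈ Λ) (hne : N ≠ L) (hs : Sim N L)
    (hx : x ∈ normalizer (N : Set G)) {K : Subgroup G} (hK : K ∈ Λ) (h : Sim K N) : Sim K L := by
  by_cases h1 : K = N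
  · rw [h1]; exact hs
  · obtain ⟨u, hu, hui⟩ := H.even N hN
    exact H.n1 (H.Bmem hB) hK (H.cp_of_bad hB hN hne hs hx hu hui) fun n hn => comm_of_sim h h1 hn hu

omit [Finite G] in
theorem lam_image {L : Subgroup G} (g : G) :
    {K | K ∈ Λ ∧ Sim K (cj g L)} = cj g '' {K | K ∈ Λ ∧ Sim K L} := by
  ext K
  constructor
  · rintro ⟨h1, h2⟩
    refine ⟨cj g⁻¹ K, ⟨H.cl K h1 _, ?_⟩, cj_cj_inv g K⟩
    have := sim_cj h2 g⁻¹
    rwa [cj_inv_cj] at this
  · rintro ⟨K, ⟨h1, h2⟩, rfl⟩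
    exact ⟨H.cl K h1 _, sim_cj h2 g⟩

/-- (2), second half -/
theorem tw_of_bad {x : G} {L N : Subgroup G} (hB : B x L) (hN : N ∈ Λ) (hne : N ≠ L) (hs : Sim N L)
    (hx : x ∈ normalizer (N : Set G)) : Tw Λ L N := by
  have h1 : {K | K ∈ Λ ∧ Sim K N} ⊆ {K | K ∈ Λ ∧ Sim K L} := fun K hK =>
    ⟨hK.1, H.lam_le hB hN hne hs hx hK.1 hK.2⟩
  have h2 : {K | K ∈ Λ ∧ Sim K N} = {K | K ∈ Λ ∧ Sim K L} := by
    apply Set.eq_of_subset_of_ncard_le h1 _ (Set.toFinite _)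
    obtain ⟨g, rfl⟩ := H.tr L (H.Bmem hB) N hN
    rw [H.lam_image g, Set.ncard_image_of_injective _ (cj_injective g)]
  intro K hK
  constructor
  · intro h
    have : K ∈ {K | K ∈ Λ ∧ Sim K N} := h2 ▸ ⟨hK, h⟩
    exact this.2
  · intro h
    exact H.lam_le hB hN hne hs hx hK h

/-- the members with the same bad `x` are twins -/
theorem tw_of_one {x : G} {L N : Subgroup G} (hB : B x L) (hB' : B x N) : Tw Λ L N := by
  by_cases h : N = L
  · subst h
    exact fun K _ => Iff.rfl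
  · exact H.tw_of_bad hB (H.Bmem hB') h (H.one hB' hB) (H.BN hB')

omit [Finite G] in
theorem tw_cj {L N : Subgroup G} (h : Tw Λ L N) (g : G) : Tw Λ (cj g L) (cj g N) := by
  intro K hK
  have h1 := h (cj g⁻¹ K) (H.cl K hK _)
  have h2 : ∀ L : Subgroup G, Sim (cj g⁻¹ K) L ↔ Sim K (cj g L) := by
    intro L
    constructor
    · intro h
      have := sim_cj h g
      rwa [cj_cj_inv] at this
    · intro h
      have := sim_cj h g⁻¹
      rwa [cj_inv_cj] at this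
  rw [← h2, ← h2]
  exact h1

omit H [Finite G] in
theorem _root_.Cfsg.Agent.UGT.Paired.Twin.Tw.symm {L N : Subgroup G} (h : Tw Λ L N) : Tw Λ N L :=
  fun K hK => (h K hK).symm

omit H [Finite G] in
theorem _root_.Cfsg.Agent.UGT.Paired.Twin.Tw.sim {L N : Subgroup G} (h : Tw Λ L N) (hN : N ∈ Λ) :
    Sim L N := ((h N hN).mpr (Sim.refl N)).symm

/-- partners -/
theorem partner (hP : Pair Λ B) {L : Subgroup G} (hL : L ∈ Λ) :
    ∃ L0 ∈ Λ, L0 ≠ L ∧ Sim L0 L ∧ Tw Λ L0 L ∧ (∀ u ∈ L, Inv u → Cp L0 u) ∧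
      ∃ x, B x L0 ∧ x ∈ normalizer (L : Set G) := by
  obtain ⟨x, L0, N, hB, hN, hne, hs, hx⟩ := hP
  obtain ⟨g, rfl⟩ := H.tr N hN L hL
  refine ⟨cj g L0, H.cl _ (H.Bmem hB) g, fun h => hne (cj_injective g h).symm, (sim_cj hs g).symm,
    H.tw_cj (H.tw_of_bad hB hN hne hs hx) g, ?_, g * x * g⁻¹, H.Bcj g x L0 hB, ?_⟩
  · intro u hu hui
    rw [mem_cj] at hu
    have hui' : Inv (g⁻¹ * u * g) := by
      have := hui.conj g⁻¹
      rwa [inv_inv] at this
    have h1 := cp_cj (H.cp_of_bad hB hN hne hs hx hu hui') g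
    have h2 : g * (g⁻¹ * u * g) * g⁻¹ = u := by group
    rwa [h2] at h1
  · rw [mem_normalizer_iff_cj] at hx ⊢
    rw [← cj_mul, inv_mul_cancel_right, cj_mul, hx]

/-- (3), TI -/
theorem ti (hP : Pair Λ B) {L N : Subgroup G} (hL : L ∈ Λ) (hN : N ∈ Λ) {u : G} (hu : u ∈ L)
    (hn : u ∈ N) (hui : Inv u) : L = N := by
  obtain ⟨L0, hL0, -, -, htw, hcp, -⟩ := H.partner hP hL
  obtain ⟨N0, hN0, hne, hs, htw', -, -⟩ := H.partner hP hN
  have h1 : Sim N0 L0 := H.n1 hL0 hN0 (hcp u hu hui) fun n hm => comm_of_sim hs hne hm hn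
  have h2 : Sim L N0 := ((htw N0 hN0).mp h1).symm
  have h3 : Sim L N := (htw' L hL).mp h2
  by_contra hne
  exact hui.ne (H.inf_eq hL h3 hne hu hn)

/-- (3), control -/
theorem ctrl (hP : Pair Λ B) {L : Subgroup G} (hL : L ∈ Λ) {u : G} (hu : u ∈ L) (hui : Inv u)
    {c : G} (hc : c * u = u * c) : c ∈ normalizer (L : Set G) := by
  rw [mem_normalizer_iff_cj]
  refine (H.ti hP hL (H.cl L hL c) hu ?_ hui).symm
  rw [mem_cj]
  have : c⁻¹ * u * c = u := by rw [mul_assoc, ← hc, ← mul_assoc, inv_mul_cancel, one_mul]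
  rwa [this]

end Cfsg.Agent.UGT.Paired.Basic.Hyp
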